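import Cfsg.Agent.Lib.J4Type.Ten.Comp
import Cfsg.Agent.Lib.Solvable.Gaschutz

/-!
The normaliser of the model splits over it, given its order.
-/

set_option autoImplicit false
set_option linter.style.haveILetI false

namespace CfsgLib.J4Type.Ten

open Cfsg Subgroup
open CfsgLib.J4Type.Order (TSetup)

variable {G : Type*} [Group G] [Finite G] {z : G} {P : Subgroup G} {F : Frame z P} {D : VData F}

/-- **The normaliser of the model splits over it.** -/
theorem complement_A0 (S : TSetup D)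
    (hN : Nat.card ↥(normalizer (A0 S : Set G)) = 2 ^ 10 * 9999360) :
    ∃ B : Subgroup G, B ≤ normalizer (A0 S : Set G) ∧ B ⊓ A0 S = ⊥ ∧ B ⊔ A0 S = normalizer (A0 S : Set G) := by
  obtain ⟨T, hTN, hTc, hTA⟩ := exists_twoPart S
  set N := normalizer (A0 S : Set G) with hNdef
  set A' := (A0 S).subgroupOf N
  set T' := T.subgroupOf N
  have hAN : A0 S ≤ N := le_normalizer
  haveI : IsMulCommutative A' := ⟨⟨fun a b => Subtype.ext (Subtype.ext (A0_comm S a.2 b.2))⟩⟩
  haveI : A'.Normal := ⟨fun x hx g => (Subgroup.mem_normalizer_iff.1 g.2 _).1 hx⟩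
  have hA'c : Nat.card A' = 2 ^ 10 := (Nat.card_congr (subgroupOfEquivOfLe hAN).toEquiv).trans (card_A0 S)
  have hT'c : Nat.card T' = 2 ^ 10 := (Nat.card_congr (subgroupOfEquivOfLe hTN).toEquiv).trans hTc
  have hdisj : T' ⊓ A' = ⊥ := by
    rw [eq_bot_iff]
    intro x hx
    have : (x : G) ∈ T ⊓ A0 S := ⟨hx.1, hx.2⟩
    rw [hTA, mem_bot] at this
    exact Subtype.ext this
  have hU : Nat.card (A' ⊔ T' : Subgroup N) = 2 ^ 20 := by
    have h' := card_mul_index (A'.subgroupOf (A' ⊔ T'))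
    rw [Nat.card_congr (subgroupOfEquivOfLe (le_sup_left : A' ≤ A' ⊔ T')).toEquiv, hA'c] at h'
    have hrel : A'.relIndex T' = 2 ^ 10 := by
      have h2 := card_mul_index (A'.subgroupOf T')
      have h3 : A'.subgroupOf T' = ⊥ := by
        rw [subgroupOf_eq_bot, disjoint_iff, inf_comm]; exact hdisj
      rw [h3, card_bot, one_mul, hT'c] at h2
      rw [relIndex, h3]
      exact h2
    rw [show (A'.subgroupOf (A' ⊔ T')).index = A'.relIndex (A' ⊔ T') from rfl, sup_comm,
      Subgroup.relIndex_sup_right, hrel] at h'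
    rw [sup_comm, ← h']
    norm_num
  have hidx : (A' ⊔ T').index = 9765 := by
    have h := card_mul_index (A' ⊔ T')
    rw [hU, hN] at h
    omega
  have hcop : (Nat.card A').Coprime (A' ⊔ T').index := by rw [hA'c, hidx]; norm_num
  obtain ⟨H, hH⟩ := CfsgLib.Solvable.gaschutz_exists (K := A') le_sup_left hcop hdisj rfl
  refine ⟨H.map N.subtype, map_subtype_le H, ?_, ?_⟩
  · rw [eq_bot_iff]
    rintro _ ⟨⟨x, hx, rfl⟩, hxA⟩
    have : x ∈ A' ⊓ H := ⟨hxA, hx⟩
    rw [hH.disjoint.eq_bot, mem_bot] at this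
    simp [this]
  · have hAeq : A'.map N.subtype = A0 S := map_subgroupOf_eq_of_le hAN
    rw [← hAeq, ← Subgroup.map_sup, sup_comm, hH.sup_eq_top, ← MonoidHom.range_eq_map, N.range_subtype]

end CfsgLib.J4Type.Ten
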