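import Cfsg.Agent.Lib.J4Type.NV.Graph
import Cfsg.Agent.Lib.J4Type.NV.Basic
import Cfsg.Agent.Lib.Golay.Gen

/-!
The linear maps of the module of order `2 ^ 11` induced by permutations of the twenty-four points,
and lookups in tables.
-/

set_option autoImplicit false
set_option maxRecDepth 100000

namespace CfsgLib.J4Type.Ten

open Cfsg CfsgLib.Golay CfsgLib.J4Type

/-- An entry of a table stored in rows of length `w`. -/
def at2 {α : Type} (d : α) (w : ℕ) (L : List (List α)) (i : ℕ) : α :=
  (L.getD (Nat.div i w) []).getD (Nat.mod i w) d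

/-- The exclusive sum of a list. -/
def xsum : List ℕ → ℕ
  | [] => 0
  | a :: l => a ^^^ xsum l

/-- The image of a basis vector under a map of the indices of the points. -/
def colFn (f : ℕ → ℕ) (j : ℕ) : ℕ :=
  xsum ((NV.spanTab.getD j []).map fun i => NV.wv (f 0) ^^^ NV.wv (f i))

/-- The linear map of an encoded permutation. -/
def colsC (g : ℕ) : List ℕ := (List.range 11).map (colFn (img g))

/-- The linear map of a permutation. -/
def colsP (σ : Equiv.Perm GolayPt) : List ℕ :=
  (List.range 11).map (colFn fun i => idx (σ (pt i)))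

theorem colsP_permOf {g : ℕ} (h : valid g = true) : colsP (permOf g) = colsC g := by
  refine List.map_congr_left fun j hj => ?_
  have hc := List.all_eq_true.1 NV.spanTab_check j hj
  simp only [Bool.and_eq_true, List.all_eq_true, decide_eq_true_eq] at hc
  have e : ∀ i < 24, idx (permOf g (pt i)) = img g i := fun i hi => by
    rw [permOf_pt h hi, idx_pt (valid_lt h hi)]
  refine congrArg xsum (List.map_congr_left fun i hi => ?_)
  show NV.wv (idx (permOf g (pt 0))) ^^^ NV.wv (idx (permOf g (pt i))) = _
  rw [e 0 (by norm_num), e i (hc.2 i hi)]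

/-- A map compatible with the sums on small vectors agrees with a linear map known on a basis. -/
theorem eq_mv_of_basis {n : ℕ} {f : ℕ → ℕ} {M : List ℕ}
    (hadd : ∀ a < 2 ^ n, ∀ b < 2 ^ n, f (a ^^^ b) = f a ^^^ f b)
    (hb : ∀ i < n, f (2 ^ i) = mv M (2 ^ i)) : ∀ v < 2 ^ n, f v = mv M v :=
  lin_ext (fun a b ha hb => hadd a ha b hb) (fun a b _ _ => mv_xor M a b) hb

/-- A good map with a known effect on the pair vectors is the linear map of the permutation. -/
theorem eq_mv_colsP {f : ℕ → ℕ} (h : NV.GoodMap f) {σ : Equiv.Perm GolayPt}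
    (hσ : ∀ p q, f (NV.pv p q) = NV.pv (σ p) (σ q)) : ∀ v < 2048, f v = mv (colsP σ) v := by
  refine eq_mv_of_basis (n := 11) (fun a ha b hb => h.add a ha b hb) fun j hj => ?_
  have hc := List.all_eq_true.1 NV.spanTab_check j (List.mem_range.2 hj)
  simp only [Bool.and_eq_true, List.all_eq_true, decide_eq_true_eq] at hc
  have h0 : NV.wv (idx (pt 0)) = 0 := by decide +kernel
  have hs : ∀ l : List ℕ, (∀ i ∈ l, i < 24) → NV.wSum l < 2048 ∧ f (NV.wSum l) =
      xsum (l.map fun i => NV.wv (idx (σ (pt 0))) ^^^ NV.wv (idx (σ (pt i)))) := by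
    intro l
    induction l with
    | nil => exact fun _ => ⟨by norm_num [NV.wSum], h.zero⟩
    | cons i l ih =>
      intro hl
      obtain ⟨h1, h2⟩ := ih fun j hj => hl j (List.mem_cons_of_mem _ hj)
      have hi : i < 24 := hl i List.mem_cons_self
      have hi' : NV.wv i < 2048 := (NV.tab_facts hi hi).2.1
      refine ⟨Nat.xor_lt_two_pow (n := 11) hi' h1, ?_⟩
      have h3 := hσ (pt 0) (pt i)
      simp only [NV.pv, h0, Nat.zero_xor, idx_pt hi] at h3
      rw [NV.wSum, h.add _ hi' _ h1, h2, h3, List.map_cons, xsum]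
  have := (hs _ hc.2).2
  rw [Nat.eq_of_beq_eq_true hc.1] at this
  rw [this, mv_two_pow _ _ (by simpa [colsP] using hj)]
  simp only [colsP]
  rw [List.getD_eq_getElem (l := (List.range 11).map _) _ (by simpa using hj)]
  simp only [List.getElem_map, List.getElem_range, colFn]

/-- Composition of two encoded permutations commutes. -/
def commB (a b : ℕ) : Bool :=
  (List.range 24).all fun i => Nat.beq (img a (img b i)) (img b (img a i))

/-- The codes are determined by their permutations. -/
def canonB (g : ℕ) : Bool :=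
  Nat.beq g (xsum ((List.range 24).map fun i => Nat.shiftLeft (img g i) (5 * i)))

theorem canon_inj {a b : ℕ} (ha : valid a = true) (hb : valid b = true) (ca : canonB a = true)
    (cb : canonB b = true) (h : permOf a = permOf b) : a = b := by
  have e : ∀ i < 24, img a i = img b i := fun i hi => by
    have := congrArg (fun σ : Equiv.Perm GolayPt => idx (σ (pt i))) h
    simpa [permOf_pt ha hi, permOf_pt hb hi, idx_pt (valid_lt ha hi), idx_pt (valid_lt hb hi)]
      using this
  rw [Nat.eq_of_beq_eq_true ca, Nat.eq_of_beq_eq_true cb]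
  refine congrArg xsum (List.map_congr_left fun i hi => ?_)
  rw [e i (List.mem_range.1 hi)]

end CfsgLib.J4Type.Ten
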