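import Cfsg.Agent.Lib.J4Type.Ten.WedgeChecks
import Cfsg.Agent.Lib.J4Type.Ten.Code
import Cfsg.Agent.Lib.InvChar.GLFiveSections

/-!
The linear maps preserving the decomposable bivectors of a five-dimensional space over the field of
two elements come from linear maps of that space.
-/

set_option autoImplicit false
set_option maxRecDepth 100000

namespace CfsgLib.J4Type.Ten

open Cfsg CfsgLib.J4Type

theorem wedge_xor (u a b : ℕ) : wedge u (a ^^^ b) = wedge u a ^^^ wedge u b := mv_xor _ a b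

/-- The bivectors through a point, with zero. -/
def starSet (p : ℕ) : Finset ℕ := (Finset.range 32).image (wedge p)

theorem mem_starSet {p x : ℕ} : x ∈ starSet p ↔ ∃ v < 32, wedge p v = x := by
  simp [starSet]

theorem starSet_card : ∀ p < 32, p ≠ 0 → (starSet p).card = 16 := by decide +kernel

attribute [local irreducible] starSet wedge zMask starT zAdj linePts maskOf smallRest

theorem wedge_facts {u v : ℕ} (hu : u < 32) (hv : v < 32) :
    wedge u v = wedge v u ∧ wedge u v < 1024 ∧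
      (wedge u v = 0 ↔ u = 0 ∨ v = 0 ∨ u = v) := by
  have h := wedge_symm_check
  simp only [List.all_eq_true, List.mem_range, Bool.and_eq_true, beq_iff_eq] at h
  obtain ⟨⟨h1, h2⟩, h3⟩ := h u hu v hv
  refine ⟨Nat.eq_of_beq_eq_true h1, Nat.le_of_ble_eq_true h2, ?_⟩
  rw [← Nat.beq_eq, h3]
  simp only [Bool.or_eq_true, Nat.beq_eq, or_assoc]

theorem wedge_xor_left {a b v : ℕ} (ha : a < 32) (hb : b < 32) (hv : v < 32) :
    wedge (a ^^^ b) v = wedge a v ^^^ wedge b v := by
  rw [(wedge_facts (Nat.xor_lt_two_pow (n := 5) ha hb) hv).1, wedge_xor,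
    (wedge_facts ha hv).1, (wedge_facts hb hv).1]

theorem testBit_shift_one (a i : ℕ) : (Nat.shiftLeft 1 a).testBit i = decide (a = i) := by
  show (1 <<< a).testBit i = _
  rw [Nat.one_shiftLeft, Nat.testBit_two_pow]

theorem testBit_maskOf : ∀ (l : List ℕ) (i : ℕ), (maskOf l).testBit i = true ↔ i ∈ l
  | [], i => by simp [maskOf]
  | a :: l, i => by
    rw [maskOf, Nat.testBit_or, Bool.or_eq_true, testBit_maskOf l i, testBit_shift_one,
      decide_eq_true_eq, List.mem_cons]
    exact or_congr_left ⟨Eq.symm, Eq.symm⟩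

theorem testBit_starT {p x : ℕ} (hp : p < 32) :
    (starT.getD p 0).testBit x = true ↔ x ∈ starSet p := by
  have h := starT_check
  simp only [List.all_eq_true, List.mem_range] at h
  rw [Nat.eq_of_beq_eq_true (h p hp), testBit_maskOf]
  simp [mem_starSet]

theorem starSet_xor {p x y : ℕ} (hx : x ∈ starSet p) (hy : y ∈ starSet p) :
    x ^^^ y ∈ starSet p := by
  rw [mem_starSet] at hx hy ⊢
  obtain ⟨a, ha, rfl⟩ := hx
  obtain ⟨b, hb, rfl⟩ := hy
  exact ⟨a ^^^ b, Nat.xor_lt_two_pow (n := 5) ha hb, wedge_xor p a b⟩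

theorem starSet_lt {p x : ℕ} (hp : p < 32) (hx : x ∈ starSet p) : x < 1024 := by
  rw [mem_starSet] at hx
  obtain ⟨a, ha, rfl⟩ := hx
  exact (wedge_facts hp ha).2.1

theorem starSet_meet {p q : ℕ} (hp : p < 32) (hq : q < 32) (hp0 : p ≠ 0) (hq0 : q ≠ 0)
    (hpq : p ≠ q) {x : ℕ} (h1 : x ∈ starSet p) (h2 : x ∈ starSet q) : x = 0 ∨ x = wedge p q := by
  have h := starT_meet_check
  simp only [List.all_eq_true, List.mem_range, Bool.or_eq_true, Nat.beq_eq] at h
  have e := ((h p hp q hq).resolve_left (fun e => e.elim (fun e => e.elim hp0 hq0) hpq))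
  have hb : (Nat.land (starT.getD p 0) (starT.getD q 0)).testBit x = true := by
    show (starT.getD p 0 &&& starT.getD q 0).testBit x = true
    rw [Nat.testBit_and, (testBit_starT hp).2 h1, (testBit_starT hq).2 h2]; rfl
  rw [e, Nat.testBit_or, testBit_shift_one, Bool.or_eq_true, decide_eq_true_eq,
    Nat.testBit_one_eq_true_iff_self_eq_zero] at hb
  exact hb.elim (fun e => Or.inr e.symm) Or.inl

theorem starSet_z {p x : ℕ} (hp : p < 32) (hx : x ∈ starSet p) (h0 : x ≠ 0) :
    zMask.testBit x = true := by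
  have h := starT_z_check
  simp only [List.all_eq_true, List.mem_range] at h
  have e := (testBit_starT hp).2 hx
  rw [← Nat.eq_of_beq_eq_true (h p hp)] at e
  have e' : (starT.getD p 0 &&& zMask ||| 1).testBit x = true := e
  rw [Nat.testBit_or, Nat.testBit_and, Bool.or_eq_true, Bool.and_eq_true,
    Nat.testBit_one_eq_true_iff_self_eq_zero] at e'
  exact (e'.resolve_right h0).2

theorem line_of_wedge {p q r : ℕ} (hp : p < 32) (hq : q < 32) (hr : r < 32) (hp0 : p ≠ 0)
    (hq0 : q ≠ 0) (hpq : p ≠ q) (hr0 : r ≠ 0) (h : wedge p q ∈ starSet r) :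
    r = p ∨ r = q ∨ r = p ^^^ q := by
  have e := (testBit_starT hr).2 h
  have c := line_check
  simp only [List.all_eq_true, List.mem_range, Bool.or_eq_true, Nat.beq_eq] at c
  have := ((c p hp q hq).resolve_left (fun e => e.elim (fun e => e.elim hp0 hq0) hpq)) r hr
  rw [e] at this
  rcases this with (((h1 | h1) | h1) | h1) | h1
  · exact absurd h1 (by simp)
  · exact absurd h1 hr0
  · exact Or.inl h1
  · exact Or.inr (Or.inl h1)
  · exact Or.inr (Or.inr h1)

/-- A bound on the size of a mask by removing the lowest bits. -/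
theorem card_le_of_dropLow : ∀ (k r : ℕ), dropLow^[k] r = 0 →
    ∀ s : Finset ℕ, (∀ x ∈ s, r.testBit x = true) → s.card ≤ k
  | 0, r, h, s, hs => by
    rw [Function.iterate_zero_apply] at h
    subst h
    rw [Finset.eq_empty_of_forall_notMem (s := s) fun x hx => by simpa using hs x hx]
    simp
  | k + 1, r, h, s, hs => by
    rw [Function.iterate_succ_apply] at h
    have hlost : ∀ x y, r.testBit x = true → r.testBit y = true → x < y →
        (dropLow r).testBit y = true := by
      intro x y hx hy hxy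
      have hpos : r ≠ 0 := fun e => by simp [e] at hx
      show (r &&& (r - 1)).testBit y = true
      rw [Nat.testBit_and, hy, Bool.true_and]
      by_contra hc
      rw [Bool.not_eq_true] at hc
      rw [Nat.testBit_eq_decide_div_mod_eq] at hy hc
      simp only [decide_eq_true_eq] at hy
      simp only [decide_eq_false_iff_not] at hc
      have hdiv : (r - 1) / 2 ^ y = r / 2 ^ y := by
        have hmod : r % 2 ^ y ≠ 0 := fun e => by
          have hx' := Nat.testBit_mod_two_pow r y x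
          rw [e, hx] at hx'
          simp [hxy] at hx'
        obtain ⟨n, hn⟩ : ∃ n, r = n + 1 := ⟨r - 1, by omega⟩
        rw [hn, Nat.add_sub_cancel, Nat.succ_div, if_neg, add_zero]
        exact fun hd => hmod (by rw [hn]; exact Nat.mod_eq_zero_of_dvd hd)
      rw [hdiv] at hc
      exact hc hy
    rcases s.eq_empty_or_nonempty with rfl | hne
    · simp
    · have := card_le_of_dropLow k _ h (s.erase (s.min' hne)) fun x hx => by
        obtain ⟨h1, h2⟩ := Finset.mem_erase.1 hx
        exact hlost _ x (hs _ (s.min'_mem hne)) (hs x h2)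
          (lt_of_le_of_ne (s.min'_le x h2) (Ne.symm h1))
      rw [Finset.card_erase_of_mem (s.min'_mem hne)] at this
      omega

theorem exists_adj {y : ℕ} (hy : zMask.testBit y = true) : ∃ M, (y, M) ∈ zAdj := by
  rw [← zAdj_cover, testBit_maskOf, List.mem_map] at hy
  obtain ⟨⟨a, M⟩, hm, rfl⟩ := hy
  exact ⟨M, hm⟩

/-- Two adjacent decomposable bivectors have a common point, outside whose star they have at most
seven common neighbours. -/
theorem exists_common_point {y z : ℕ} (hy : zMask.testBit y = true) (hz : zMask.testBit z = true)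
    (hyz : zMask.testBit (y ^^^ z) = true) :
    ∃ q, q < 32 ∧ q ≠ 0 ∧ y ∈ starSet q ∧ z ∈ starSet q ∧
      ∀ s : Finset ℕ, (∀ x ∈ s, zMask.testBit x = true ∧ zMask.testBit (y ^^^ x) = true ∧
        zMask.testBit (z ^^^ x) = true ∧ x ∉ starSet q) → s.card ≤ 7 := by
  obtain ⟨M, hM⟩ := exists_adj hy
  obtain ⟨N, hN⟩ := exists_adj hz
  have hex := zAdj_exact
  simp only [List.all_eq_true, Bool.or_eq_true, Bool.not_eq_true'] at hex
  have adj : ∀ {a A x : ℕ}, (a, A) ∈ zAdj → zMask.testBit x = true →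
      zMask.testBit (a ^^^ x) = true → A.testBit x = true := by
    intro a A x ha hx hax
    obtain ⟨X, hX⟩ := exists_adj hx
    exact (hex _ ha _ hX).resolve_left (by simp [hax])
  obtain ⟨P, hP⟩ : ∃ P, ((y, M), P) ∈ zAdj.zip linePts := by
    obtain ⟨i, hi, e⟩ := List.getElem_of_mem hM
    refine ⟨linePts[i]'(linePts_length ▸ hi), ?_⟩
    have hi' : i < (zAdj.zip linePts).length := by simp [linePts_length, hi]
    have := List.getElem_mem (l := zAdj.zip linePts) hi'
    rwa [List.getElem_zip, e] at this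
  have c := pair_check
  simp only [List.all_eq_true, Bool.or_eq_true, Bool.not_eq_true', List.any_eq_true,
    Bool.and_eq_true] at c
  obtain ⟨q, -, ⟨⟨⟨⟨hq, hq0⟩, hqy⟩, hqz⟩, hr⟩⟩ :=
    (c _ hP _ hN).resolve_left (by simp [adj hM hz hyz])
  have hq : q < 32 := Nat.le_of_ble_eq_true hq
  refine ⟨q, hq, fun e => by simp [e] at hq0, (testBit_starT hq).1 hqy, (testBit_starT hq).1 hqz,
    fun s hs => card_le_of_dropLow 7 (Nat.xor (Nat.land M N) (Nat.land (Nat.land M N) (starT.getD q 0))) ?_ s ?_⟩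
  · unfold smallRest at hr
    exact Nat.eq_of_beq_eq_true hr
  · intro x hx
    obtain ⟨h1, h2, h3, h4⟩ := hs x hx
    have hs' : (starT.getD q 0).testBit x = false := by
      rw [← Bool.not_eq_true, testBit_starT hq]; exact h4
    show ((M &&& N) ^^^ ((M &&& N) &&& starT.getD q 0)).testBit x = true
    simp only [Nat.testBit_xor, Nat.testBit_and, adj hM h1 h2, adj hN h1 h3, hs']
    rfl

/-- A linear injection keeping the decomposable bivectors. -/
structure KeepsZ (f : ℕ → ℕ) : Prop where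
  lt : ∀ a < 1024, f a < 1024
  add : ∀ a < 1024, ∀ b < 1024, f (a ^^^ b) = f a ^^^ f b
  inj : ∀ a < 1024, ∀ b < 1024, f a = f b → a = b
  keep : ∀ a < 1024, zMask.testBit a = true → zMask.testBit (f a) = true

theorem zero_mem_star {p : ℕ} (hp : p < 32) : 0 ∈ starSet p := by
  rw [mem_starSet]
  exact ⟨0, by norm_num, (wedge_facts hp (by norm_num)).2.2.2 (Or.inr (Or.inl rfl))⟩

theorem wedge_mem_star {p v : ℕ} (hv : v < 32) : wedge p v ∈ starSet p :=
  mem_starSet.2 ⟨v, hv, rfl⟩

theorem star_meet_le {p q : ℕ} (hp : p < 32) (hq : q < 32) (hp0 : p ≠ 0) (hq0 : q ≠ 0)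
    {s : Finset ℕ} (hsp : s ⊆ starSet p) (hsq : s ⊆ starSet q) (hs : 2 < s.card) : p = q := by
  by_contra h
  have := Finset.card_le_card (show s ⊆ {0, wedge p q} from fun x hx => by
    rcases starSet_meet hp hq hp0 hq0 h (hsp hx) (hsq hx) with e | e <;> simp [e])
  exact absurd (this.trans Finset.card_le_two) (by omega)

namespace KeepsZ

variable {f : ℕ → ℕ}

theorem zero (h : KeepsZ f) : f 0 = 0 := by
  have := h.add 0 (by norm_num) 0 (by norm_num)
  simpa using this

theorem z_of_star (h : KeepsZ f) {p s : ℕ} (hp : p < 32) (hs : s ∈ starSet p) (h0 : s ≠ 0) :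
    zMask.testBit (f s) = true :=
  h.keep s (starSet_lt hp hs) (starSet_z hp hs h0)

theorem injOn_star (h : KeepsZ f) {p : ℕ} (hp : p < 32) :
    Set.InjOn f (starSet p : Set ℕ) := fun a ha b hb e =>
  h.inj a (starSet_lt hp ha) b (starSet_lt hp hb) e

theorem exists_star (h : KeepsZ f) {p : ℕ} (hp : p < 32) (hp0 : p ≠ 0) :
    ∃ q, q < 32 ∧ q ≠ 0 ∧ (starSet p).image f = starSet q := by
  have hc := starSet_card p hp hp0
  obtain ⟨s1, hs1, h10⟩ := Finset.exists_mem_ne (s := starSet p) (by omega) 0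
  obtain ⟨s2, hs2, h20⟩ := Finset.exists_mem_ne (s := (starSet p).erase s1)
    (by rw [Finset.card_erase_of_mem hs1]; omega) 0
  obtain ⟨h21, hs2⟩ := Finset.mem_erase.1 hs2
  have hadd : ∀ {a b}, a ∈ starSet p → b ∈ starSet p → f (a ^^^ b) = f a ^^^ f b :=
    fun ha hb => h.add _ (starSet_lt hp ha) _ (starSet_lt hp hb)
  obtain ⟨q, hq, hq0, hy, hz, hbound⟩ := exists_common_point (h.z_of_star hp hs1 h10)
    (h.z_of_star hp hs2 h20) (by
      rw [← hadd hs1 hs2]
      exact h.z_of_star hp (starSet_xor hs1 hs2) fun e => h21 (Nat.xor_eq_zero_iff.1 e).symm)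
  set B := (starSet p).filter fun s => f s ∉ starSet q with hB
  set A := (starSet p).filter fun s => f s ∈ starSet q with hA
  have hBcard : B.card ≤ 7 := by
    rw [← Finset.card_image_of_injOn ((h.injOn_star hp).mono (by
      intro x hx; exact (Finset.mem_filter.1 hx).1) : Set.InjOn f B)]
    refine hbound _ fun x hx => ?_
    obtain ⟨s, hs, rfl⟩ := Finset.mem_image.1 hx
    obtain ⟨hs, hsq⟩ := Finset.mem_filter.1 hs
    refine ⟨h.z_of_star hp hs fun e => hsq (by rw [e, h.zero]; exact zero_mem_star hq), ?_, ?_, hsq⟩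
    · rw [← hadd hs1 hs]
      exact h.z_of_star hp (starSet_xor hs1 hs) fun e => hsq (by
        rwa [← Nat.xor_eq_zero_iff.1 e])
    · rw [← hadd hs2 hs]
      exact h.z_of_star hp (starSet_xor hs2 hs) fun e => hsq (by
        rwa [← Nat.xor_eq_zero_iff.1 e])
  have hAB : A.card + B.card = 16 := by rw [← hc]; exact Finset.card_filter_add_card_filter_not _
  refine ⟨q, hq, hq0, Finset.eq_of_subset_of_card_le (fun x hx => ?_) ?_⟩
  · obtain ⟨s, hs, rfl⟩ := Finset.mem_image.1 hx
    have hsub : A ∪ A.image (fun a => a ^^^ s) ⊆ starSet p := by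
      refine Finset.union_subset (Finset.filter_subset _ _) fun a ha => ?_
      obtain ⟨b, hb, e⟩ := Finset.mem_image.1 ha
      rw [← e]
      exact starSet_xor (Finset.mem_filter.1 hb).1 hs
    have h1 := Finset.card_le_card hsub
    have h2 : (A.image fun a => a ^^^ s).card = A.card :=
      Finset.card_image_of_injective _ fun a b e => by simpa using e
    have h3 := Finset.card_union_add_card_inter A (A.image fun a => a ^^^ s)
    obtain ⟨b, hb⟩ := Finset.card_pos.1 (show 0 < (A ∩ A.image fun a => a ^^^ s).card by omega)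
    obtain ⟨hb1, hb2⟩ := Finset.mem_inter.1 hb
    obtain ⟨a, ha, rfl⟩ := Finset.mem_image.1 hb2
    obtain ⟨ha1, ha2⟩ := Finset.mem_filter.1 ha
    obtain ⟨hb3, hb4⟩ := Finset.mem_filter.1 hb1
    have e : f s = f a ^^^ f (a ^^^ s) := by
      rw [hadd ha1 hs, ← Nat.xor_assoc, Nat.xor_self, Nat.zero_xor]
    rw [e]
    exact starSet_xor ha2 hb4
  · rw [Finset.card_image_of_injOn (h.injOn_star hp), hc, starSet_card q hq hq0]

end KeepsZ

open scoped _root_.Classical in
/-- The map of points of a map of bivectors. -/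
noncomputable def pointMap (f : ℕ → ℕ) (p : ℕ) : ℕ :=
  if h : p ≠ 0 ∧ ∃ q, q < 32 ∧ q ≠ 0 ∧ (starSet p).image f = starSet q then h.2.choose else 0

namespace KeepsZ

variable {f : ℕ → ℕ}

theorem pointMap_spec (h : KeepsZ f) {p : ℕ} (hp : p < 32) (hp0 : p ≠ 0) :
    pointMap f p < 32 ∧ pointMap f p ≠ 0 ∧ (starSet p).image f = starSet (pointMap f p) := by
  rw [pointMap, dif_pos ⟨hp0, h.exists_star hp hp0⟩]
  exact (h.exists_star hp hp0).choose_spec

theorem pointMap_lt (h : KeepsZ f) {p : ℕ} (hp : p < 32) : pointMap f p < 32 := by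
  by_cases hp0 : p = 0
  · simp [pointMap, hp0]
  · exact (h.pointMap_spec hp hp0).1

theorem pointMap_eq (h : KeepsZ f) {p q : ℕ} (hp : p < 32) (hp0 : p ≠ 0) (hq : q < 32)
    (hq0 : q ≠ 0) (hsub : (starSet p).image f ⊆ starSet q) : pointMap f p = q := by
  obtain ⟨h1, h2, h3⟩ := h.pointMap_spec hp hp0
  refine star_meet_le h1 hq h2 hq0 (Finset.Subset.refl _) ?_ ?_
  · exact h3 ▸ hsub
  · rw [starSet_card _ h1 h2]; norm_num

theorem pointMap_inj (h : KeepsZ f) {a b : ℕ} (ha : a < 32) (hb : b < 32) (ha0 : a ≠ 0)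
    (hb0 : b ≠ 0) (e : pointMap f a = pointMap f b) : a = b := by
  have h1 : (starSet a).image f = (starSet b).image f := by
    rw [(h.pointMap_spec ha ha0).2.2, (h.pointMap_spec hb hb0).2.2, e]
  refine star_meet_le ha hb ha0 hb0 subset_rfl (fun x hx => ?_) (by
    rw [starSet_card a ha ha0]; norm_num)
  obtain ⟨y, hy, e'⟩ := Finset.mem_image.1 (h1 ▸ Finset.mem_image_of_mem f hx)
  rwa [← h.inj y (starSet_lt hb hy) x (starSet_lt ha hx) e']

theorem main (h : KeepsZ f) {a b : ℕ} (ha : a < 32) (hb : b < 32) :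
    pointMap f (a ^^^ b) = pointMap f a ^^^ pointMap f b ∧
      f (wedge a b) = wedge (pointMap f a) (pointMap f b) := by
  have h0 : pointMap f 0 = 0 := by simp [pointMap]
  have hz : ∀ {p q}, p < 32 → q < 32 → (p = 0 ∨ q = 0 ∨ p = q) → wedge p q = 0 :=
    fun hp hq e => (wedge_facts hp hq).2.2.2 e
  by_cases ha0 : a = 0
  · subst ha0
    rw [Nat.zero_xor, h0, Nat.zero_xor, hz ha hb (Or.inl rfl), h.zero,
      hz (by norm_num) (h.pointMap_lt hb) (Or.inl rfl)]
    exact ⟨rfl, rfl⟩
  by_cases hb0 : b = 0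
  · subst hb0
    rw [Nat.xor_zero, h0, Nat.xor_zero, hz ha hb (Or.inr (Or.inl rfl)), h.zero,
      hz (h.pointMap_lt ha) (by norm_num) (Or.inr (Or.inl rfl))]
    exact ⟨rfl, rfl⟩
  by_cases hab : a = b
  · subst hab
    rw [Nat.xor_self, h0, Nat.xor_self, hz ha ha (Or.inr (Or.inr rfl)), h.zero,
      hz (h.pointMap_lt ha) (h.pointMap_lt ha) (Or.inr (Or.inr rfl))]
    exact ⟨rfl, rfl⟩
  have hc : a ^^^ b < 32 := Nat.xor_lt_two_pow (n := 5) ha hb
  have hc0 : a ^^^ b ≠ 0 := fun e => hab (Nat.xor_eq_zero_iff.1 e)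
  obtain ⟨hA, hA0, eA⟩ := h.pointMap_spec ha ha0
  obtain ⟨hB, hB0, eB⟩ := h.pointMap_spec hb hb0
  obtain ⟨hC, hC0, eC⟩ := h.pointMap_spec hc hc0
  have hAB : pointMap f a ≠ pointMap f b := fun e => hab (h.pointMap_inj ha hb ha0 hb0 e)
  have hw0 : wedge a b ≠ 0 := fun e => by
    rcases (wedge_facts ha hb).2.2.1 e with e | e | e
    exacts [ha0 e, hb0 e, hab e]
  have m1 : f (wedge a b) ∈ starSet (pointMap f a) :=
    eA ▸ Finset.mem_image_of_mem f (wedge_mem_star hb)
  have m2 : f (wedge a b) ∈ starSet (pointMap f b) :=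
    eB ▸ Finset.mem_image_of_mem f ((wedge_facts ha hb).1 ▸ wedge_mem_star ha)
  have hw : wedge (a ^^^ b) b = wedge a b := by
    rw [wedge_xor_left ha hb hb, hz hb hb (Or.inr (Or.inr rfl)), Nat.xor_zero]
  have m3 : f (wedge a b) ∈ starSet (pointMap f (a ^^^ b)) :=
    eC ▸ Finset.mem_image_of_mem f (hw ▸ wedge_mem_star hb)
  have hfw : f (wedge a b) ≠ 0 := fun e => hw0 (h.inj _ (wedge_facts ha hb).2.1 0 (by norm_num)
    (by rw [e, h.zero]))
  have e := (starSet_meet hA hB hA0 hB0 hAB m1 m2).resolve_left hfw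
  refine ⟨?_, e⟩
  rcases line_of_wedge hA hB hC hA0 hB0 hAB hC0 (e ▸ m3) with e' | e' | e'
  · exact absurd (h.pointMap_inj hc ha hc0 ha0 e') fun e'' => hb0 (by
      have := congrArg (a ^^^ ·) e''
      simpa [← Nat.xor_assoc] using this)
  · exact absurd (h.pointMap_inj hc hb hc0 hb0 e') fun e'' => ha0 (by
      have := congrArg (· ^^^ b) e''
      simpa [Nat.xor_assoc] using this)
  · exact e'

end KeepsZ

/-- The homomorphism to the special linear group of a group acting on the bivectors and keeping the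
decomposable ones. -/
theorem exists_SL5_hom {N : Type*} [Group N] (act : N → ℕ → ℕ)
    (hlt : ∀ g, ∀ a < 1024, act g a < 1024)
    (hadd : ∀ g, ∀ a < 1024, ∀ b < 1024, act g (a ^^^ b) = act g a ^^^ act g b)
    (hinj : ∀ g, ∀ a < 1024, ∀ b < 1024, act g a = act g b → a = b)
    (hkeep : ∀ g, ∀ a < 1024, zMask.testBit a = true → zMask.testBit (act g a) = true)
    (hmul : ∀ g h, ∀ a < 1024, act (g * h) a = act g (act h a)) :
    ∃ ψ : N →* Matrix.SpecialLinearGroup (Fin 5) (ZMod 2),
      ∀ g, ψ g = 1 ↔ ∀ a < 1024, act g a = a := by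
  classical
  have K : ∀ g, KeepsZ (act g) := fun g => ⟨hlt g, hadd g, hinj g, hkeep g⟩
  let π : N → ℕ → ℕ := fun g => pointMap (act g)
  have hone : ∀ a < 1024, act 1 a = a := fun a ha =>
    hinj 1 _ (hlt 1 a ha) a ha (by rw [← hmul 1 1 a ha, one_mul])
  have hfix : ∀ g, (∀ a < 1024, act g a = a) → ∀ p < 32, π g p = p := by
    intro g hg p hp
    by_cases hp0 : p = 0
    · simp [π, pointMap, hp0]
    refine (K g).pointMap_eq hp hp0 hp hp0 fun x hx => ?_
    obtain ⟨y, hy, rfl⟩ := Finset.mem_image.1 hx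
    rwa [hg y (starSet_lt hp hy)]
  have hcomp : ∀ g h, ∀ p < 32, π (g * h) p = π g (π h p) := by
    intro g h p hp
    by_cases hp0 : p = 0
    · simp [π, pointMap, hp0]
    obtain ⟨h1, h2, h3⟩ := (K h).pointMap_spec hp hp0
    obtain ⟨g1, g2, g3⟩ := (K g).pointMap_spec h1 h2
    refine (K (g * h)).pointMap_eq hp hp0 g1 g2 fun x hx => ?_
    obtain ⟨y, hy, rfl⟩ := Finset.mem_image.1 hx
    rw [hmul g h y (starSet_lt hp hy), ← g3]
    exact Finset.mem_image_of_mem _ (h3 ▸ Finset.mem_image_of_mem _ hy)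
  have hof : ∀ x : Fin 5 → ZMod 2, NV.ofV x < 32 := fun x => NV.ofV_lt x
  have hπ : ∀ g, ∀ p < 32, π g p < 32 := fun g p hp => (K g).pointMap_lt hp
  let L : N → Module.End (ZMod 2) (Fin 5 → ZMod 2) := fun g =>
    { toFun := fun x => NV.toV 5 (π g (NV.ofV x))
      map_add' := fun x y => by
        show NV.toV 5 (pointMap (act g) (NV.ofV (x + y))) = _
        rw [NV.ofV_add, ((K g).main (hof x) (hof y)).1, NV.toV_xor]
      map_smul' := fun c x => by
        rcases (show c = 0 ∨ c = 1 by revert c; decide) with rfl | rfl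
        · simp only [zero_smul, RingHom.id_apply]
          have h0 : NV.ofV (0 : Fin 5 → ZMod 2) = 0 :=
            NV.toV_inj (n := 5) (NV.ofV_lt _) (by norm_num) (by rw [NV.toV_ofV, NV.toV_zero])
          show NV.toV 5 (pointMap (act g) _) = 0
          rw [h0]
          simp [pointMap, NV.toV_zero]
        · simp }
  have hLmul : ∀ g h, L (g * h) = L g * L h := fun g h => LinearMap.ext fun x => by
    show NV.toV 5 (π (g * h) (NV.ofV x)) = NV.toV 5 (π g (NV.ofV (NV.toV 5 (π h (NV.ofV x)))))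
    rw [hcomp g h _ (hof x), NV.ofV_toV (hπ h _ (hof x))]
  have hLone : L 1 = 1 := LinearMap.ext fun x => by
    show NV.toV 5 (π 1 (NV.ofV x)) = x
    rw [hfix 1 hone _ (hof x), NV.toV_ofV]
  have hLap : ∀ g x, L g x = NV.toV 5 (π g (NV.ofV x)) := fun g x => rfl
  clear_value L
  have hdet : ∀ g, (LinearMap.toMatrix' (L g)).det = 1 := by
    intro g
    have h := congrArg (fun T => (LinearMap.toMatrix' T).det) ((hLmul g g⁻¹).symm.trans
      (by rw [mul_inv_cancel, hLone]))
    simp only [LinearMap.toMatrix'_mul, Matrix.det_mul, LinearMap.toMatrix'_one, Matrix.det_one] at h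
    revert h
    generalize (LinearMap.toMatrix' (L g)).det = a
    generalize (LinearMap.toMatrix' (L g⁻¹)).det = b
    revert a b
    decide
  let ψ : N →* Matrix.SpecialLinearGroup (Fin 5) (ZMod 2) :=
    MonoidHom.mk' (fun g => ⟨LinearMap.toMatrix' (L g), hdet g⟩) fun g h =>
      Subtype.ext ((congrArg LinearMap.toMatrix' (hLmul g h)).trans (LinearMap.toMatrix'_mul _ _))
  refine ⟨ψ, fun g => ⟨fun h a ha => ?_, fun h => ?_⟩⟩
  · have hL : L g = 1 := LinearMap.toMatrix'.injective
      ((congrArg Subtype.val h).trans LinearMap.toMatrix'_one.symm)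
    have hid : ∀ p < 32, π g p = p := fun p hp => by
      have := congrArg NV.ofV (LinearMap.congr_fun hL (NV.toV 5 p))
      rwa [hLap,
        NV.ofV_toV (n := 5) hp, NV.ofV_toV (n := 5) (hπ g p hp), Module.End.one_apply,
        NV.ofV_toV (n := 5) hp] at this
    refine lin_ext (n := 10) (g := fun x => x) (fun a b ha hb => hadd g a ha b hb)
      (fun _ _ _ _ => rfl) (fun k hk => ?_) a ha
    have c := wedge_basis_check
    simp only [List.all_eq_true, List.mem_range, List.any_eq_true] at c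
    obtain ⟨i, hi, j, hj, e⟩ := c k hk
    have hi' : 2 ^ i < 32 := Nat.pow_lt_pow_right (by norm_num) (m := i) (n := 5) hi
    have hj' : 2 ^ j < 32 := Nat.pow_lt_pow_right (by norm_num) (m := j) (n := 5) hj
    rw [← Nat.eq_of_beq_eq_true e, ((K g).main hi' hj').2]
    show wedge (π g (2 ^ i)) (π g (2 ^ j)) = _
    rw [hid _ hi', hid _ hj']
  · refine Subtype.ext ?_
    show LinearMap.toMatrix' (L g) = 1
    rw [show L g = 1 from LinearMap.ext fun x => by
      rw [hLap, hfix g h _ (hof x), NV.toV_ofV]; rfl, LinearMap.toMatrix'_one]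

theorem det_eq_one_of_unit : ∀ a b : ZMod 2, a * b = 1 → a = 1 := by decide

theorem card_SL5_two : Nat.card (Matrix.SpecialLinearGroup (Fin 5) (ZMod 2)) = 9999360 := by
  rw [← CfsgLib.InvChar.GLFive.card_gl_five]
  refine Nat.card_eq_of_bijective
    (Matrix.SpecialLinearGroup.toGL (n := Fin 5) (R := ZMod 2)) ⟨?_, fun u => ?_⟩
  · intro a b h
    exact Subtype.ext (congrArg Units.val h)
  · have hu : (u : Matrix (Fin 5) (Fin 5) (ZMod 2)).det = 1 :=
      det_eq_one_of_unit _ ((↑u⁻¹ : Matrix (Fin 5) (Fin 5) (ZMod 2))).det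
        ((Matrix.det_mul _ _).symm.trans ((congrArg Matrix.det u.mul_inv).trans Matrix.det_one))
    refine ⟨⟨(u : Matrix (Fin 5) (Fin 5) (ZMod 2)), hu⟩, Units.ext ?_⟩
    simp only [Matrix.SpecialLinearGroup.toGL, MonoidHom.coe_mk, OneHom.coe_mk]

end CfsgLib.J4Type.Ten
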