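import Cfsg.Agent.Lib.J4Type.Ten.Stab
import Cfsg.Agent.Lib.J4Type.Ten.Split
import Cfsg.Agent.Lib.J4Type.Ten.DataA
import Cfsg.Agent.Lib.J4Type.Ten.Wedge

/-!
The normaliser of the subgroup of order `2 ^ 10`: its action on the ten coordinates, the identification of
a complement and irreducibility.
-/

set_option autoImplicit false
set_option maxRecDepth 100000

namespace CfsgLib.J4Type.Ten

open Cfsg Subgroup
open CfsgLib.J4Type.Order (TSetup)

theorem zMask_count : Nat.beq (((List.range 1024).filter fun a => zMask.testBit a).length) 155 = true ∧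
    zMask.testBit 0 = false := by decide +kernel

theorem orbit_witness :
    ∃ a < 1024, a ≠ 0 ∧
      ((List.range 1024).filter fun b => decide (b ≠ 0) && (zMask.testBit b == zMask.testBit a)).length = 155 ∧
      ∃ b < 1024, b ≠ 0 ∧
        ((List.range 1024).filter fun c => decide (c ≠ 0) && (zMask.testBit c == zMask.testBit b)).length = 868 := by
  refine ⟨(orbCodes orbA).getD 0 0, ?_, ?_, ?_, (orbCodes orbB).getD 0 0, ?_, ?_, ?_⟩ <;>
    decide +kernel

variable {G : Type*} [Group G] [Finite G] {z : G} {P : Subgroup G} {F : Frame z P} {D : VData F}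
  (S : TSetup D)

theorem exists_act (g : normalizer (A0 S : Set G)) (a : ℕ) :
    ∃ b < 1024, a < 1024 → aE S b = g * aE S a * (g : G)⁻¹ := by
  by_cases ha : a < 1024
  · obtain ⟨b, hb, e⟩ := exists_aE S ((mem_normalizer_iff.1 g.2 _).1 (aE_mem S ha))
    exact ⟨b, hb, fun _ => e⟩
  · exact ⟨0, by norm_num, fun h => absurd h ha⟩

/-- The action of the normaliser on the coordinates. -/
noncomputable def actA (g : normalizer (A0 S : Set G)) (a : ℕ) : ℕ := (exists_act S g a).choose

theorem actA_lt (g : normalizer (A0 S : Set G)) (a : ℕ) : actA S g a < 1024 :=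
  (exists_act S g a).choose_spec.1

theorem actA_spec (g : normalizer (A0 S : Set G)) {a : ℕ} (ha : a < 1024) :
    aE S (actA S g a) = g * aE S a * (g : G)⁻¹ :=
  (exists_act S g a).choose_spec.2 ha

theorem actA_add (g : normalizer (A0 S : Set G)) {a b : ℕ} (ha : a < 1024) (hb : b < 1024) :
    actA S g (a ^^^ b) = actA S g a ^^^ actA S g b := by
  refine aE_inj S (actA_lt S g _) (Nat.xor_lt_two_pow (n := 10) (actA_lt S g a) (actA_lt S g b)) ?_
  rw [actA_spec S g (Nat.xor_lt_two_pow (n := 10) ha hb), ← aE_xor S ha hb,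
    ← aE_xor S (actA_lt S g a) (actA_lt S g b), actA_spec S g ha, actA_spec S g hb]
  group

theorem actA_inj (g : normalizer (A0 S : Set G)) {a b : ℕ} (ha : a < 1024) (hb : b < 1024)
    (h : actA S g a = actA S g b) : a = b := by
  refine aE_inj S ha hb (mul_left_cancel (a := (g : G)) (mul_right_cancel (b := (g : G)⁻¹) ?_))
  rw [← actA_spec S g ha, ← actA_spec S g hb, h]

theorem actA_mul (g h : normalizer (A0 S : Set G)) {a : ℕ} (ha : a < 1024) :
    actA S (g * h) a = actA S g (actA S h a) := by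
  refine aE_inj S (actA_lt S _ _) (actA_lt S _ _) ?_
  rw [actA_spec S (g * h) ha, actA_spec S g (actA_lt S h a), actA_spec S h ha, Subgroup.coe_mul,
    mul_inv_rev]
  group

theorem actA_trivial (g : normalizer (A0 S : Set G)) :
    (∀ a < 1024, actA S g a = a) ↔ (g : G) ∈ A0 S := by
  constructor
  · intro h
    suffices hc : (g : G) ∈ centralizer (A0 S : Set G) by
      exact (SetLike.ext_iff.1 (A0_self S) _).1 hc
    rw [mem_centralizer_iff]
    intro x hx
    obtain ⟨a, ha, rfl⟩ := exists_aE S hx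
    have := actA_spec S g ha
    rw [h a ha] at this
    calc aE S a * (g : G) = (g * aE S a * (g : G)⁻¹) * g := by rw [← this]
      _ = g * aE S a := by group
  · intro h a ha
    refine aE_inj S (actA_lt S g a) ha ?_
    rw [actA_spec S g ha, A0_comm S h (aE_mem S ha), mul_inv_cancel_right]

/-- **The normaliser is a split extension by the group acting on the coordinates.** -/
theorem split_of {M : Type*} [Group M] [Finite M] (hM : Nat.card M = 9999360)
    (hcard : Nat.card ↥(normalizer (A0 S : Set G)) = 2 ^ 10 * 9999360)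
    (psi : normalizer (A0 S : Set G) →* M)
    (hpsi : ∀ g, psi g = 1 ↔ ∀ a < 1024, actA S g a = a) :
    ∃ B : Subgroup G, B ≤ normalizer (A0 S : Set G) ∧ B ⊓ A0 S = ⊥ ∧
      B ⊔ A0 S = normalizer (A0 S : Set G) ∧ Nonempty (↥B ≃* M) := by
  obtain ⟨B, hB, hi, hs⟩ := complement_A0 S hcard
  refine ⟨B, hB, hi, hs, ?_⟩
  have hAN : A0 S ≤ normalizer (A0 S : Set G) := le_normalizer
  have hker : psi.ker = (A0 S).subgroupOf (normalizer (A0 S : Set G)) := by
    ext g
    rw [MonoidHom.mem_ker, hpsi, actA_trivial, mem_subgroupOf]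
  have hrange : psi.range = ⊤ := by
    refine eq_top_of_card_eq _ ?_
    have h := card_mul_index psi.ker
    rw [index_ker, hker, Nat.card_congr (subgroupOfEquivOfLe hAN).toEquiv, card_A0, hcard] at h
    rw [hM]
    exact Nat.eq_of_mul_eq_mul_left (by norm_num) h
  refine ⟨MulEquiv.ofBijective (psi.comp (inclusion hB)) ⟨?_, ?_⟩⟩
  · rw [← MonoidHom.ker_eq_bot_iff, eq_bot_iff]
    intro x hx
    have hx' : inclusion hB x ∈ psi.ker := hx
    rw [hker, mem_subgroupOf] at hx'
    have : (x : G) ∈ B ⊓ A0 S := ⟨x.2, hx'⟩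
    rw [hi, mem_bot] at this
    exact Subtype.ext this
  · rw [← MonoidHom.range_eq_top, eq_top_iff, ← hrange]
    rintro _ ⟨g, rfl⟩
    have hdec : B.subgroupOf (normalizer (A0 S : Set G)) ⊔
        (A0 S).subgroupOf (normalizer (A0 S : Set G)) = ⊤ := by
      rw [← subgroupOf_sup hB hAN, hs, subgroupOf_self]
    have hg : g ∈ B.subgroupOf (normalizer (A0 S : Set G)) ⊔
        (A0 S).subgroupOf (normalizer (A0 S : Set G)) := hdec ▸ mem_top g
    rw [← hker] at hg
    obtain ⟨b, hb, k, hk, rfl⟩ := mem_sup_of_normal_right.1 hg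
    refine ⟨⟨b, hb⟩, ?_⟩
    rw [map_mul, MonoidHom.mem_ker.1 hk, mul_one]
    rfl

/-- **No proper subgroup is invariant under the normaliser.** -/
theorem irred_of
    (hZ : ∀ a < 1024, ∀ b < 1024, zMask.testBit a = true → zMask.testBit b = true →
      ∃ n ∈ normalizer (A0 S : Set G), n * aE S a * n⁻¹ = aE S b)
    (hP : ∀ a < 1024, ∀ b < 1024, a ≠ 0 → b ≠ 0 → zMask.testBit a = false → zMask.testBit b = false →
      ∃ n ∈ normalizer (A0 S : Set G), n * aE S a * n⁻¹ = aE S b)
    (W : Subgroup G) (hW : W ≤ A0 S)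
    (hN : normalizer (A0 S : Set G) ≤ normalizer (W : Set G)) : W = ⊥ ∨ W = A0 S := by
  classical
  set T : Finset ℕ := (Finset.range 1024).filter fun a => aE S a ∈ W with hT
  have hmove : ∀ {a b : ℕ}, (∃ n ∈ normalizer (A0 S : Set G), n * aE S a * n⁻¹ = aE S b) →
      aE S a ∈ W → aE S b ∈ W := by
    rintro a b ⟨n, hn, e⟩ h
    rw [← e]
    exact (mem_normalizer_iff.1 (hN hn) _).1 h
  have hTc : T.card = Nat.card W := by
    let f : {a // a ∈ T} → W := fun a => ⟨aE S a, (Finset.mem_filter.1 a.2).2⟩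
    rw [← Nat.card_eq_finsetCard]
    refine Nat.card_congr (Equiv.ofBijective f ⟨fun a b e => Subtype.ext
      (aE_inj S (Finset.mem_range.1 (Finset.mem_filter.1 a.2).1)
        (Finset.mem_range.1 (Finset.mem_filter.1 b.2).1) (congrArg Subtype.val e)), ?_⟩)
    rintro ⟨x, hx⟩
    obtain ⟨a, ha, rfl⟩ := exists_aE S (hW hx)
    exact ⟨⟨a, Finset.mem_filter.2 ⟨Finset.mem_range.2 ha, hx⟩⟩, rfl⟩
  have h0 : aE S 0 ∈ W := by rw [aE_zero]; exact W.one_mem
  have hdvd : Nat.card W ∣ 2 ^ 10 := card_A0 S ▸ card_dvd_of_le hW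
  obtain ⟨k, hk, hWk⟩ := (Nat.dvd_prime_pow Nat.prime_two).1 hdvd
  set Z : Finset ℕ := (Finset.range 1024).filter fun a => zMask.testBit a = true
  have hZc : Z.card = 155 := by
    have : Z = ((List.range 1024).filter fun a => zMask.testBit a).toFinset := by
      ext a
      simp [Z]
    rw [this, List.toFinset_card_of_nodup (List.nodup_range.filter _),
      Nat.eq_of_beq_eq_true zMask_count.1]
  set Q : Finset ℕ := (Finset.range 1024).filter fun a => a ≠ 0 ∧ zMask.testBit a = false
  have hfull : T = insert 0 (Finset.filter (· ∈ T) Z ∪ Finset.filter (· ∈ T) Q) := by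
    ext a
    by_cases ha : a = 0
    · simp [ha, T, h0]
    · cases hz : zMask.testBit a <;> simp [T, Z, Q, ha, hz]
  have hall : ∀ U : Finset ℕ, (U = Z ∨ U = Q) →
      Finset.filter (· ∈ T) U = U ∨ Finset.filter (· ∈ T) U = ∅ := by
    intro U hU
    by_cases h : ∃ a ∈ U, a ∈ T
    · obtain ⟨a, ha, haT⟩ := h
      refine Or.inl (Finset.filter_true_of_mem fun b hb => ?_)
      have haW := (Finset.mem_filter.1 haT).2
      rcases hU with rfl | rfl
      · obtain ⟨ha1, ha2⟩ := Finset.mem_filter.1 ha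
        obtain ⟨hb1, hb2⟩ := Finset.mem_filter.1 hb
        exact Finset.mem_filter.2 ⟨hb1, hmove (hZ a (Finset.mem_range.1 ha1) b (Finset.mem_range.1 hb1)
          ha2 hb2) haW⟩
      · obtain ⟨ha1, ha0, ha2⟩ := Finset.mem_filter.1 ha
        obtain ⟨hb1, hb0, hb2⟩ := Finset.mem_filter.1 hb
        exact Finset.mem_filter.2 ⟨hb1, hmove (hP a (Finset.mem_range.1 ha1) b (Finset.mem_range.1 hb1)
          ha0 hb0 ha2 hb2) haW⟩
    · exact Or.inr (Finset.filter_false_of_mem fun a ha haT => h ⟨a, ha, haT⟩)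
  have hQc : Q.card = 868 := by
    have hu : Finset.range 1024 = insert 0 (Z ∪ Q) := by
      ext a
      by_cases ha : a = 0
      · simp [ha]
      · cases hz : zMask.testBit a <;> simp [Z, Q, ha, hz]
    have hd : Disjoint Z Q := Finset.disjoint_left.2 fun a h1 h2 => by
      have e1 := (Finset.mem_filter.1 h1).2
      have e2 := (Finset.mem_filter.1 h2).2.2
      rw [e1] at e2
      exact Bool.noConfusion e2
    have hn : (0 : ℕ) ∉ Z ∪ Q := by simp [Z, Q, zMask_count.2]
    have := congrArg Finset.card hu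
    rw [Finset.card_range, Finset.card_insert_of_notMem hn, Finset.card_union_of_disjoint hd, hZc] at this
    omega
  have hlow : ∀ U : Finset ℕ, U.card = 155 ∨ U.card = 868 → insert 0 U = T → False := by
    intro U hU e
    have h1 : T.card ≤ U.card + 1 := e ▸ Finset.card_insert_le _ _
    have h2 : U.card ≤ T.card := e ▸ Finset.card_le_card (Finset.subset_insert _ _)
    rw [hTc, hWk] at h1 h2
    interval_cases k <;> omega
  rcases hall Z (Or.inl rfl) with eZ | eZ <;> rcases hall Q (Or.inr rfl) with eQ | eQ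
  · right
    refine le_antisymm hW fun x hx => ?_
    obtain ⟨a, ha, rfl⟩ := exists_aE S hx
    by_cases h : a = 0
    · rw [h]; exact h0
    cases hz : zMask.testBit a
    · have : a ∈ Finset.filter (· ∈ T) Q := eQ.symm ▸
        Finset.mem_filter.2 ⟨Finset.mem_range.2 ha, h, hz⟩
      exact (Finset.mem_filter.1 (Finset.mem_filter.1 this).2).2
    · have : a ∈ Finset.filter (· ∈ T) Z := eZ.symm ▸ Finset.mem_filter.2 ⟨Finset.mem_range.2 ha, hz⟩
      exact (Finset.mem_filter.1 (Finset.mem_filter.1 this).2).2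
  · exact absurd (by rw [hfull, eZ, eQ, Finset.union_empty]) (hlow Z (Or.inl hZc))
  · exact absurd (by rw [hfull, eZ, eQ, Finset.empty_union]) (hlow Q (Or.inr hQc))
  · left
    refine eq_bot_iff.2 fun x hx => ?_
    obtain ⟨a, ha, rfl⟩ := exists_aE S (hW hx)
    have : a ∈ T := Finset.mem_filter.2 ⟨Finset.mem_range.2 ha, hx⟩
    rw [hfull, eZ, eQ, Finset.union_empty, Finset.mem_insert] at this
    rcases this with rfl | h
    · rw [aE_zero]; exact mem_bot.2 rfl
    · simp at h

/-- **The two orbit lengths.** -/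
theorem orbits_trans
    (hkeep : ∀ n ∈ normalizer (A0 S : Set G), ∀ a < 1024, ∀ b < 1024, n * aE S a * n⁻¹ = aE S b →
      zMask.testBit a = zMask.testBit b)
    (hZ : ∀ a < 1024, ∀ b < 1024, zMask.testBit a = true → zMask.testBit b = true →
      ∃ n ∈ normalizer (A0 S : Set G), n * aE S a * n⁻¹ = aE S b)
    (hP : ∀ a < 1024, ∀ b < 1024, a ≠ 0 → b ≠ 0 → zMask.testBit a = false → zMask.testBit b = false →
      ∃ n ∈ normalizer (A0 S : Set G), n * aE S a * n⁻¹ = aE S b) :
    ∃ a b : G, a ∈ A0 S ∧ b ∈ A0 S ∧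
      Set.ncard {v : G | ∃ n ∈ normalizer (A0 S : Set G), n * a * n⁻¹ = v} = 155 ∧
      Set.ncard {v : G | ∃ n ∈ normalizer (A0 S : Set G), n * b * n⁻¹ = v} = 868 := by
  classical
  have horbit : ∀ a < 1024, a ≠ 0 →
      {v : G | ∃ n ∈ normalizer (A0 S : Set G), n * aE S a * n⁻¹ = v} =
        aE S '' ↑((Finset.range 1024).filter fun b => b ≠ 0 ∧ zMask.testBit b = zMask.testBit a) := by
    intro a ha ha0
    ext v
    constructor
    · rintro ⟨n, hn, rfl⟩
      obtain ⟨b, hb, e⟩ := exists_aE S ((mem_normalizer_iff.1 hn _).1 (aE_mem S ha))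
      refine ⟨b, Finset.mem_coe.2 (Finset.mem_filter.2 ⟨Finset.mem_range.2 hb, ?_,
        (hkeep n hn a ha b hb e.symm).symm⟩), e⟩
      rintro rfl
      rw [aE_zero] at e
      exact ha0 (aE_inj S ha (by norm_num) (by rw [aE_zero]; exact conj_eq_one_iff.1 e.symm))
    · rintro ⟨b, hb, rfl⟩
      obtain ⟨hb1, hb0, hb2⟩ := Finset.mem_filter.1 (Finset.mem_coe.1 hb)
      cases hz : zMask.testBit a
      · exact hP a ha b (Finset.mem_range.1 hb1) ha0 hb0 hz (hb2.trans hz)
      · exact hZ a ha b (Finset.mem_range.1 hb1) hz (hb2.trans hz)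
  have hcount : ∀ a < 1024, a ≠ 0 →
      Set.ncard {v : G | ∃ n ∈ normalizer (A0 S : Set G), n * aE S a * n⁻¹ = v} =
        ((List.range 1024).filter fun b => decide (b ≠ 0) && (zMask.testBit b == zMask.testBit a)).length := by
    intro a ha ha0
    rw [horbit a ha ha0, Set.InjOn.ncard_image, Set.ncard_coe_finset,
      ← List.toFinset_card_of_nodup (List.nodup_range.filter _)]
    · congr 1
      ext b
      simp
    · intro x hx y hy e
      exact aE_inj S (Finset.mem_range.1 (Finset.mem_filter.1 (Finset.mem_coe.1 hx)).1)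
        (Finset.mem_range.1 (Finset.mem_filter.1 (Finset.mem_coe.1 hy)).1) e
  obtain ⟨a, ha, ha0, hca, b, hb, hb0, hcb⟩ := orbit_witness
  exact ⟨aE S a, aE S b, aE_mem S ha, aE_mem S hb, (hcount a ha ha0).trans hca,
    (hcount b hb hb0).trans hcb⟩

/-- **The normaliser is a split extension by `L₅(2)`.** -/
theorem split_L5
    (hcard : Nat.card ↥(normalizer (A0 S : Set G)) = 2 ^ 10 * 9999360)
    (hkeep : ∀ n ∈ normalizer (A0 S : Set G), ∀ a < 1024, ∀ b < 1024, n * aE S a * n⁻¹ = aE S b →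
      zMask.testBit a = zMask.testBit b) :
    ∃ B : Subgroup G, B ≤ normalizer (A0 S : Set G) ∧ B ⊓ A0 S = ⊥ ∧
      B ⊔ A0 S = normalizer (A0 S : Set G) ∧
      Nonempty (↥B ≃* Matrix.SpecialLinearGroup (Fin 5) (ZMod 2)) := by
  obtain ⟨psi, hpsi⟩ := exists_SL5_hom (actA S) (fun g a _ => actA_lt S g a)
    (fun g a ha b hb => actA_add S g ha hb) (fun g a ha b hb => actA_inj S g ha hb)
    (fun g a ha hz => (hkeep g g.2 a ha (actA S g a) (actA_lt S g a) (actA_spec S g ha).symm).symm.trans hz)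
    (fun g h a ha => actA_mul S g h ha)
  exact split_of S card_SL5_two hcard psi hpsi

end CfsgLib.J4Type.Ten
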