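import Cfsg.Agent.Lib.J4Type.Ten.Orbits
import Cfsg.Agent.Lib.J4Type.Ten.Normal

/-!
The order of the normaliser of the subgroup of order `2 ^ 10`, and its splitting.
-/

set_option autoImplicit false
set_option maxRecDepth 100000

namespace CfsgLib.J4Type.Ten

open Cfsg Subgroup
open CfsgLib.J4Type.Frame (vE pairV)
open CfsgLib.J4Type.Order (TSetup)

variable {G : Type*} [Group G] [Finite G] {z : G} {P : Subgroup G} {F : Frame z P} {D : VData F}
  (S : TSetup D)

theorem code12 : zMask.testBit 12 = false ∧ zMask.testBit 0 = false ∧ 12 ∈ orbCodes orbB ∧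
    (orbCodes orbB).toFinset.card = 28 := by decide +kernel

/-- Conjugation preserves the decomposable codes. -/
theorem keep [IsSimpleGroup G] : ∀ n ∈ normalizer (A0 S : Set G), ∀ a < 1024, ∀ b < 1024,
    n * aE S a * n⁻¹ = aE S b → zMask.testBit a = zMask.testBit b := by
  intro n _ a ha b hb e
  by_cases ha0 : a = 0
  · subst ha0
    rw [aE_zero, mul_one, mul_inv_cancel] at e
    rw [← aE_inj S (show (0 : ℕ) < 1024 by norm_num) hb (by rw [aE_zero]; exact e)]
  have hb0 : b ≠ 0 := by
    rintro rfl
    rw [aE_zero, conj_eq_one_iff] at e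
    exact ha0 (aE_inj S ha (by norm_num) (by rw [aE_zero]; exact e))
  have h := isConj_conj S e
  rw [types S ha ha0, types S hb hb0] at h
  exact Bool.eq_iff_iff.2 h

/-- An element of the stabiliser in the normaliser of `V` sends a pair to one of the 28 pairs. -/
theorem stabV_pair {n : G} (hn : n ∈ stabV S) :
    ∃ b ∈ orbCodes orbB, n * aE S 12 * n⁻¹ = aE S b := by
  obtain ⟨hA, hB, hC, hD, -⟩ := orb_mem_facts
  have h12 : aE S 12 ∈ D.V := by rw [aE_low S (by norm_num)]; exact Frame.vE_mem D (vA_lt 12)
  obtain ⟨b, hb, e⟩ := exists_low S ((mem_normalizer_iff.1 hn.2 _).1 h12)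
    ((mem_normalizer_iff.1 hn.1 _).1 (aE_mem S (by norm_num)))
  have hb0 : b ≠ 0 := by
    rintro rfl
    rw [aE_zero] at e
    exact absurd (aE_inj S (show (12 : ℕ) < 1024 by norm_num) (show (0 : ℕ) < 1024 by norm_num)
      (by rw [aE_zero]; exact conj_eq_one_iff.1 e.symm)) (by norm_num)
  refine ⟨b, ?_, e.symm⟩
  have hty := isConj_conj S e.symm
  have h12' := isConj_low S (show 12 < 64 by norm_num) (show 12 ≠ 0 by norm_num)
  rw [(hB 12 code12.2.2.1).2.2] at h12'
  rw [isConj_low S hb hb0] at hty
  rcases code_cases (by omega) hb0 with m | m | m | m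
  · exact absurd (h12'.1 (hty.2 (hA b m).2.2)) Bool.noConfusion
  · exact m
  · exact absurd (hC b m).1 (by omega)
  · exact absurd (hD b m).1 (by omega)

/-- **The order of the normaliser.** -/
theorem card_norm_A0 [IsSimpleGroup G] :
    Nat.card ↥(normalizer (A0 S : Set G)) = 2 ^ 10 * 9999360 := by
  classical
  refine le_antisymm ?_ ?_
  · obtain ⟨psi, hpsi⟩ := exists_SL5_hom (actA S) (fun g a _ => actA_lt S g a)
      (fun g a ha b hb => actA_add S g ha hb) (fun g a ha b hb => actA_inj S g ha hb)
      (fun g a ha hz => (keep S g g.2 a ha (actA S g a) (actA_lt S g a)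
        (actA_spec S g ha).symm).symm.trans hz)
      (fun g h a ha => actA_mul S g h ha)
    have hker : psi.ker = (A0 S).subgroupOf (normalizer (A0 S : Set G)) := by
      ext g
      rw [MonoidHom.mem_ker, hpsi, actA_trivial, mem_subgroupOf]
    have h := card_mul_index psi.ker
    rw [index_ker, hker, Nat.card_congr (subgroupOfEquivOfLe le_normalizer).toEquiv, card_A0] at h
    rw [← h, ← card_SL5_two]
    exact Nat.mul_le_mul_left _ (Nat.card_le_card_of_injective _ Subtype.val_injective)
  · set N := normalizer (A0 S : Set G)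
    letI : MulAction N G := MulAction.compHom G (ConjAct.toConjAct.toMonoidHom.comp N.subtype)
    have hsm : ∀ (n : N) (y : G), n • y = (n : G) * y * (n : G)⁻¹ :=
      fun n y => ConjAct.toConjAct_smul (n : G) y
    set x := aE S 12
    have horb : MulAction.orbit N x = orbN S x := by
      ext v
      constructor
      · rintro ⟨n, rfl⟩
        exact ⟨n, n.2, (hsm n x).symm⟩
      · rintro ⟨n, hn, rfl⟩
        exact ⟨⟨n, hn⟩, hsm ⟨n, hn⟩ x⟩
    have hidx : (MulAction.stabilizer N x).index = 868 := by
      rw [MulAction.index_stabilizer, horb, ncard_orbN S (by norm_num) (by norm_num),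
        typeSet_card S (by norm_num) (by norm_num), if_neg (by rw [code12.1]; exact Bool.noConfusion)]
    set M := (stabV S).subgroupOf N
    have hM : 1024 * 322560 ≤ Nat.card M :=
      le_of_le_of_eq (stabV_card S)
        (Nat.card_congr (subgroupOfEquivOfLe (show stabV S ≤ N from inf_le_left)).toEquiv).symm
    have hsub : MulAction.orbit M x ⊆ aE S '' ((orbCodes orbB).toFinset : Set ℕ) := by
      rintro v ⟨n, rfl⟩
      obtain ⟨b, hb, e⟩ := stabV_pair S (show ((n : N) : G) ∈ stabV S from n.2)
      exact ⟨b, List.mem_toFinset.2 hb, by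
        show aE S b = (n : N) • x
        rw [hsm]; exact e.symm⟩
    have h28 : (MulAction.stabilizer M x).index ≤ 28 := by
      rw [MulAction.index_stabilizer]
      refine le_trans (Set.ncard_le_ncard hsub (Set.toFinite _)) ?_
      refine le_trans (Set.ncard_image_le (Finset.finite_toSet _)) ?_
      rw [Set.ncard_coe_finset, code12.2.2.2]
    have hle : Nat.card (MulAction.stabilizer M x) ≤ Nat.card (MulAction.stabilizer N x) := by
      refine Nat.card_le_card_of_injective (fun m => ⟨(m.1 : N), m.2⟩) fun a b h => ?_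
      exact Subtype.ext (Subtype.ext (Subtype.ext (congrArg (fun y => ((y.1 : N) : G)) h)))
    have h1 := card_mul_index (MulAction.stabilizer M x)
    have h2 := card_mul_index (MulAction.stabilizer N x)
    rw [hidx] at h2
    have h3 := Nat.mul_le_mul hle h28
    rw [h1] at h3
    omega

/-- **The normaliser is a split extension by `L₅(2)`.** -/
theorem split_A0 [IsSimpleGroup G] : ∃ B : Subgroup G, B ≤ normalizer (A0 S : Set G) ∧
    B ⊓ A0 S = ⊥ ∧ B ⊔ A0 S = normalizer (A0 S : Set G) ∧
    Nonempty (↥B ≃* Matrix.SpecialLinearGroup (Fin 5) (ZMod 2)) :=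
  split_L5 S (card_norm_A0 S) (keep S)

end CfsgLib.J4Type.Ten
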