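import Cfsg.Agent.Lib.J4Type.Ten.Conj
import Cfsg.Agent.Lib.J4Type.Ident.Main
import Cfsg.Agent.Lib.J4Type.PlaneUnique
import Cfsg.Agent.Lib.J4Type.FusedMain

/-!
Transport of the properties of the model subgroup of order `2 ^ 10` to every such subgroup.
-/

set_option autoImplicit false

namespace CfsgLib.J4Type.Ten

open Cfsg Subgroup
open CfsgLib.J4Type.Order (TSetup)

variable {G : Type*} [Group G] [Finite G]

/-- The coordinates exist for a simple group of Janko-four type. -/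
theorem exists_setup [IsSimpleGroup G] (hG : ¬ IsMulCommutative G) (hJ : IsOfJankoFourType G) :
    ∃ (z : G) (P : Subgroup G) (F : Frame z P) (D : VData F), Nonempty (TSetup D) := by
  obtain ⟨z, P, hzP⟩ := hJ
  obtain ⟨F⟩ := frame_exists hzP
  obtain ⟨D⟩ := vData_exists F
  exact ⟨z, P, F, D, Order.exists_tsetup (fused_exists hG D)⟩

theorem normalizer_map (A : Subgroup G) (g : G) :
    normalizer ((A.map (MulAut.conj g).toMonoidHom : Subgroup G) : Set G) =
      (normalizer (A : Set G)).map (MulAut.conj g).toMonoidHom :=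
  (map_equiv_normalizer_eq A (MulAut.conj g)).symm

theorem orbit_map (A : Subgroup G) (g a : G) :
    {v : G | ∃ n ∈ normalizer ((A.map (MulAut.conj g).toMonoidHom : Subgroup G) : Set G),
      n * MulAut.conj g a * n⁻¹ = v} =
      MulAut.conj g '' {v : G | ∃ n ∈ normalizer (A : Set G), n * a * n⁻¹ = v} := by
  rw [normalizer_map]
  ext v
  constructor
  · rintro ⟨_, ⟨n, hn, rfl⟩, rfl⟩
    refine ⟨n * a * n⁻¹, ⟨n, hn, rfl⟩, ?_⟩
    rw [MulEquiv.coe_toMonoidHom, map_mul, map_mul, map_inv]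
  · rintro ⟨_, ⟨n, hn, rfl⟩, rfl⟩
    refine ⟨_, ⟨n, hn, rfl⟩, ?_⟩
    rw [MulEquiv.coe_toMonoidHom, map_mul, map_mul, map_inv]

/-- Existence, conjugacy, split normaliser and irreducibility, from the model. -/
theorem ten_of {z : G} {P : Subgroup G} {F : Frame z P} {D : VData F} (S : TSetup D)
    (hsplit : ∃ B : Subgroup G, B ≤ normalizer (A0 S : Set G) ∧ B ⊓ A0 S = ⊥ ∧
      B ⊔ A0 S = normalizer (A0 S : Set G) ∧ Nonempty (↥B ≃* Matrix.SpecialLinearGroup (Fin 5) (ZMod 2)))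
    (hirr : ∀ W : Subgroup G, W ≤ A0 S → normalizer (A0 S : Set G) ≤ normalizer (W : Set G) →
      W = ⊥ ∨ W = A0 S) :
    (∃ A : Subgroup G, IsElementaryAbelian 2 A ∧ Nat.card ↥A = 2 ^ 10 ∧ centralizer (A : Set G) = A) ∧
    (∀ A A' : Subgroup G, IsElementaryAbelian 2 A → Nat.card ↥A = 2 ^ 10 → centralizer (A : Set G) = A →
      IsElementaryAbelian 2 A' → Nat.card ↥A' = 2 ^ 10 → centralizer (A' : Set G) = A' →
      ∃ g : G, A' = A.map (MulAut.conj g).toMonoidHom) ∧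
    ∀ A : Subgroup G, IsElementaryAbelian 2 A → Nat.card ↥A = 2 ^ 10 → centralizer (A : Set G) = A →
      (∃ B : Subgroup G, B ≤ normalizer (A : Set G) ∧ B ⊓ A = ⊥ ∧ B ⊔ A = normalizer (A : Set G) ∧
        Nonempty (↥B ≃* Matrix.SpecialLinearGroup (Fin 5) (ZMod 2))) ∧
      ∀ W : Subgroup G, W ≤ A → normalizer (A : Set G) ≤ normalizer (W : Set G) → W = ⊥ ∨ W = A := by
  have hback : ∀ A : Subgroup G, IsElementaryAbelian 2 A → Nat.card ↥A = 2 ^ 10 →
      centralizer (A : Set G) = A → ∃ g : G, A = (A0 S).map (MulAut.conj g).toMonoidHom := by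
    intro A h1 h2 h3
    obtain ⟨g, hg⟩ := conj_model S h1 h2 h3
    refine ⟨g⁻¹, ?_⟩
    rw [← hg, map_conj_conj, inv_mul_cancel]
    ext y
    simp
  refine ⟨⟨A0 S, A0_elem S, card_A0 S, A0_self S⟩, fun A A' h1 h2 h3 h4 h5 h6 => ?_, fun A h1 h2 h3 => ?_⟩
  · obtain ⟨g, rfl⟩ := hback A h1 h2 h3
    obtain ⟨g', rfl⟩ := hback A' h4 h5 h6
    exact ⟨g' * g⁻¹, by rw [map_conj_conj, inv_mul_cancel_right]⟩
  obtain ⟨g, rfl⟩ := hback A h1 h2 h3
  set f := (MulAut.conj g).toMonoidHom with hf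
  have hinj : Function.Injective f := (MulAut.conj g).injective
  obtain ⟨B, hB, hi, hs, ⟨e⟩⟩ := hsplit
  refine ⟨⟨B.map f, ?_, ?_, ?_, ⟨(B.equivMapOfInjective f hinj).symm.trans e⟩⟩, fun W hW hN => ?_⟩
  · rw [normalizer_map]; exact map_mono hB
  · rw [← map_inf _ _ _ hinj, hi, Subgroup.map_bot]
  · rw [normalizer_map, ← Subgroup.map_sup, hs]
  · obtain ⟨W0, rfl⟩ : ∃ W0 : Subgroup G, W0.map f = W :=
      ⟨W.comap f, map_comap_eq_self_of_surjective (MulAut.conj g).surjective W⟩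
    have hW0 : W0 ≤ A0 S := (map_le_map_iff_of_injective hinj).1 hW
    rw [normalizer_map, normalizer_map, map_le_map_iff_of_injective hinj] at hN
    rcases hirr W0 hW0 hN with rfl | rfl
    · exact Or.inl (Subgroup.map_bot f)
    · exact Or.inr rfl

/-- The two orbit lengths, from the model. -/
theorem orbits_of {z : G} {P : Subgroup G} {F : Frame z P} {D : VData F} (S : TSetup D)
    (horb : ∃ a b : G, a ∈ A0 S ∧ b ∈ A0 S ∧
      Set.ncard {v : G | ∃ n ∈ normalizer (A0 S : Set G), n * a * n⁻¹ = v} = 155 ∧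
      Set.ncard {v : G | ∃ n ∈ normalizer (A0 S : Set G), n * b * n⁻¹ = v} = 868)
    (A : Subgroup G) (h1 : IsElementaryAbelian 2 A) (h2 : Nat.card ↥A = 2 ^ 10)
    (h3 : centralizer (A : Set G) = A) :
    ∃ a b : G, a ∈ A ∧ b ∈ A ∧ Set.ncard {v : G | ∃ n ∈ normalizer (A : Set G), n * a * n⁻¹ = v} = 155 ∧
    Set.ncard {v : G | ∃ n ∈ normalizer (A : Set G), n * b * n⁻¹ = v} = 868 := by
  obtain ⟨g, hg⟩ := conj_model S h1 h2 h3
  obtain ⟨a, b, ha, hb, h155, h868⟩ := horb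
  have hA : A = (A0 S).map (MulAut.conj g⁻¹).toMonoidHom := by
    rw [← hg, map_conj_conj, inv_mul_cancel]
    ext y
    simp
  subst hA
  refine ⟨MulAut.conj g⁻¹ a, MulAut.conj g⁻¹ b, ⟨a, ha, rfl⟩, ⟨b, hb, rfl⟩, ?_, ?_⟩ <;>
    rw [orbit_map, Set.ncard_image_of_injective _ (MulAut.conj g⁻¹).injective] <;> assumption

end CfsgLib.J4Type.Ten
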