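import Cfsg.Agent.Lib.J4Type.Ten.Code
import Cfsg.Agent.Lib.J4Type.Ten.DataA
import Cfsg.Agent.Lib.Golay.OctadAction

/-!
Evaluated facts on the octad group, its fixed space, and the lifts to the subgroup of order `2 ^ 10`.
-/

set_option autoImplicit false
set_option maxRecDepth 100000
set_option maxHeartbeats 2000000
set_option Elab.async false

namespace CfsgLib.J4Type.Ten

open Cfsg CfsgLib.Golay CfsgLib.J4Type

/-- The span of the basis of the fixed space. -/
def wSpan : List ℕ := wBase.foldr (fun w l => l ++ l.map (w ^^^ ·)) [0]

/-- The `i`-th generator of the octad group. -/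
def rGen (i : ℕ) : ℕ := rBase.getD (2 ^ i) idCode

/-- The vectors of the lifts. -/
def cW : List ℕ := [1, 3, 11, 136]

/-- A vector inducing all lifts at once. -/
def uW : ℕ := 32

/-- The vectors whose translations keep the lifts. -/
def uOK (a : ℕ) : Bool := (List.range 4).all fun i => wSpan.any fun w => Nat.beq (a ^^^ mv (colsC (rGen i)) a) w

theorem wSpan_facts : wSpan.length = 64 ∧ wSpan.Nodup ∧ (wSpan.all fun w => decide (w < 2048)) = true ∧
    wSpan.contains 0 = true ∧ ((wSpan.all fun a => wSpan.all fun b => wSpan.contains (a ^^^ b)) = true) ∧
    (wSpan.any fun w => NV.inB w) = true := by decide +kernel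

theorem rBase_facts : rBase.length = 16 ∧ rBase.Nodup ∧ rBase.contains idCode = true ∧
    (rBase.all fun r => inM24 r && canonB r && isProd r r idCode &&
      wSpan.all fun w => Nat.beq (mv (colsC r) w) w) = true := by decide +kernel

theorem rBase_gen : ((List.range 16).all fun n => Nat.beq n 0 ||
    (List.range 4).any fun i => decide (2 ^ i ≤ n) &&
      isProd (rBase.getD (2 ^ i) idCode) (rBase.getD (n - 2 ^ i) idCode) (rBase.getD n idCode)) = true ∧
    rBase.getD 0 idCode = idCode ∧ (List.range 4).all (fun i => rBase.contains (rGen i)) = true := by decide +kernel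

theorem fix_common : ((List.range 2048).all fun v =>
    (List.range 4).any (fun i => !Nat.beq (mv (colsC (rGen i)) v) v) || wSpan.contains v) = true := by decide +kernel

theorem fix_single : ((List.range 4).all fun i => (List.range 2048).all fun v =>
    !Nat.beq (mv (colsC (rGen i)) v) v || wSpan.contains v || wSpan.contains (v ^^^ cW.getD i 0)) = true := by
  decide +kernel

theorem lift_mixed : ((List.range 4).all fun i => (List.range 4).all fun j => Nat.beq i j ||
    !Nat.beq (mv (colsC (rGen j)) (cW.getD i 0)) (cW.getD i 0)) = true := by decide +kernel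

theorem uW_ok : ((List.range 4).all fun i =>
    wSpan.contains (uW ^^^ mv (colsC (rGen i)) uW ^^^ cW.getD i 0)) = true := by decide +kernel

theorem uOK_count : ((List.range 2048).filter uOK).length = 1024 := by decide +kernel

theorem octA_pairs : ((List.range 24).all fun i => (List.range 24).all fun j => Nat.beq i j ||
    (decide (NV.wv i ^^^ NV.wv j ∈ wSpan) == (octA.testBit i && octA.testBit j))) = true := by decide +kernel

theorem octA_fixed : (rBase.all fun r => (List.range 24).all fun i => !octA.testBit i || Nat.beq (img r i) i) = true ∧
    octA ∈ octList ∧ ((List.range 24).filter fun i => octA.testBit i).length = 8 := by decide +kernel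

end CfsgLib.J4Type.Ten
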