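import Cfsg.Agent.Lib.J4Type.Ten.RClass
import Cfsg.Agent.Lib.J4Type.Ten.ModelChecks
import Cfsg.Agent.Lib.J4Type.Order.TSetup

/-!
The subgroup of order `2 ^ 10`: the fixed space of the octad group times its lift to the complement.
-/

set_option autoImplicit false
set_option maxRecDepth 100000

namespace CfsgLib.J4Type.Ten

open Cfsg Subgroup CfsgLib.Golay
open CfsgLib.J4Type.Frame (vE pairV)
open CfsgLib.J4Type.Order (TSetup)

variable {G : Type*} [Group G] [Finite G] {z : G} {P : Subgroup G} {F : Frame z P} {D : VData F}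

section Setup

variable (S : TSetup D)

include S in
/-- The permutations of `M₂₄` induce good maps. -/
theorem setup_good : ∀ σ ∈ M24, ∃ f, NV.GoodMap f ∧ ∀ p q, f (NV.pv p q) = NV.pv (σ p) (σ q) := by
  intro σ hσ
  have hn := S.kap_N hσ
  refine ⟨Frame.act D (S.kap σ), Frame.goodMap_act D S.hf hn, fun p q => ?_⟩
  have hlt := NV.pv_lt p q
  have h := S.M.co_conj _ hn _ (Frame.vE_mem D hlt) p q
    (by rw [S.hco _ (Frame.vE_mem D hlt), Frame.coV_vE D hlt])
  rw [S.hco _ ((Subgroup.mem_normalizer_iff.1 hn _).1 (Frame.vE_mem D hlt)), (S.kap_spec hσ).2] at h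
  rw [Frame.act, ← Frame.coV_eq_cV]
  exact h

include S in
theorem cols_lt {σ : Equiv.Perm GolayPt} (hσ : σ ∈ M24) {v : ℕ} (hv : v < 2048) : mv (colsP σ) v < 2048 :=
  (cols_good (setup_good S) hσ).1.lt v hv

/-- The complement acts by the maps of the permutations. -/
theorem conj_vE {σ : Equiv.Perm GolayPt} (hσ : σ ∈ M24) {v : ℕ} (hv : v < 2048) :
    S.kap σ * vE D v * (S.kap σ)⁻¹ = vE D (mv (colsP σ) v) := by
  have hn := S.kap_N hσ
  obtain ⟨f, hf⟩ : ∃ f, f = Frame.act D (S.kap σ) := ⟨_, rfl⟩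
  have hg : ∀ p q, f (NV.pv p q) = NV.pv (σ p) (σ q) := fun p q => by
    have hlt := NV.pv_lt p q
    have h := S.M.co_conj _ hn _ (Frame.vE_mem D hlt) p q
      (by rw [S.hco _ (Frame.vE_mem D hlt), Frame.coV_vE D hlt])
    rw [S.hco _ ((Subgroup.mem_normalizer_iff.1 hn _).1 (Frame.vE_mem D hlt)), (S.kap_spec hσ).2] at h
    rw [hf, Frame.act, ← Frame.coV_eq_cV]
    exact h
  have e := eq_mv_colsP (hf ▸ Frame.goodMap_act D S.hf hn) hg v hv
  rw [← e, hf, (Frame.vE_act D hn hv).2]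

/-- The product of two elements of the normaliser in coordinates. -/
theorem el_prod {a b : ℕ} (ha : a < 2048) (hb : b < 2048) {σ τ : Equiv.Perm GolayPt} (hσ : σ ∈ M24)
    (hτ : τ ∈ M24) : S.el a σ * S.el b τ = S.el (a ^^^ mv (colsP σ) b) (σ * τ) := by
  rw [TSetup.el, TSetup.el, TSetup.el, Frame.vE_xor D ha (cols_lt S hσ hb), ← conj_vE S hσ hb,
    S.kap_mul hσ hτ]
  group

end Setup

/-! ### The octad group -/

theorem rBase_mem {g : ℕ} (hg : g ∈ rBase) : valid g = true ∧ permOf g ∈ M24 ∧ canonB g = true ∧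
    permOf g * permOf g = 1 ∧ ∀ w ∈ wSpan, mv (colsP (permOf g)) w = w := by
  have h := rBase_facts.2.2.2
  simp only [List.all_eq_true, Bool.and_eq_true, nat_beq_eq, decide_eq_true_eq] at h
  obtain ⟨⟨⟨h1, h2⟩, h3⟩, h4⟩ := h g hg
  refine ⟨inM24_valid h1, inM24_mem h1, h2, ?_, fun w hw => ?_⟩
  · rw [← (isProd_sound (inM24_valid h1) (inM24_valid h1) h3).2, permOf_idCode]
  · rw [colsP_permOf (inM24_valid h1)]
    exact h4 w hw

theorem nSet_hit {σ : Equiv.Perm GolayPt} : σ ∈ nSet hitN ↔ ∃ g ∈ rBase, σ = permOf g := by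
  obtain ⟨-, hb1, hb2⟩ := hit_ok
  simp only [List.all_eq_true, List.any_eq_true, Bool.and_eq_true, nat_beq_eq, decide_eq_true_eq, List.mem_range,
    Bool.or_eq_true, Bool.not_eq_true'] at hb1 hb2
  have hgetD : ∀ k < 192, invL.getD k idCode = invL.getD k 0 := fun k hk => by
    have hk' : k < invL.length := by rw [invL_ok.1]; exact hk
    rw [List.getD_eq_getElem _ _ hk', List.getD_eq_getElem _ _ hk']
  rw [mem_nSet]
  constructor
  · rintro ⟨k, hk, hb, rfl⟩
    obtain ⟨r, hr, e⟩ := (hb2 k hk).resolve_left (by rw [hb]; exact Bool.noConfusion)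
    exact ⟨r, hr, by rw [xP, hgetD k hk, e]⟩
  · rintro ⟨r, hr, rfl⟩
    obtain ⟨k, hk, hb, e⟩ := hb1 r hr
    exact ⟨k, hk, hb, by rw [xP, hgetD k hk, e]⟩

/-- The octad group. -/
noncomputable def R0 : Subgroup (Equiv.Perm GolayPt) where
  carrier := {σ | σ ∈ nSet hitN}
  one_mem' := (nSet_group (of_decide_eq_true hit_ok.1)).1
  mul_mem' ha hb := (nSet_group (of_decide_eq_true hit_ok.1)).2.1 _ ha _ hb
  inv_mem' {a} ha := by
    show a⁻¹ ∈ nSet hitN
    rw [inv_eq_of_mul_eq_one_right ((nSet_group (of_decide_eq_true hit_ok.1)).2.2 a ha)]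
    exact ha

theorem mem_R0 {σ : Equiv.Perm GolayPt} : σ ∈ R0 ↔ ∃ g ∈ rBase, σ = permOf g := nSet_hit

theorem R0_le : R0 ≤ M24 := fun σ hσ => by
  obtain ⟨g, hg, rfl⟩ := mem_R0.1 hσ
  exact (rBase_mem hg).2.1

theorem R0_sq {σ : Equiv.Perm GolayPt} (hσ : σ ∈ R0) : σ * σ = 1 := by
  obtain ⟨g, hg, rfl⟩ := mem_R0.1 hσ
  exact (rBase_mem hg).2.2.2.1

theorem R0_comm {σ τ : Equiv.Perm GolayPt} (hσ : σ ∈ R0) (hτ : τ ∈ R0) : σ * τ = τ * σ := by
  have e : ∀ x ∈ R0, x⁻¹ = x := fun x hx => inv_eq_of_mul_eq_one_right (R0_sq hx)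
  rw [← e (σ * τ) (mul_mem hσ hτ), mul_inv_rev, e σ hσ, e τ hτ]

theorem R0_fix {σ : Equiv.Perm GolayPt} (hσ : σ ∈ R0) {w : ℕ} (hw : w ∈ wSpan) : mv (colsP σ) w = w := by
  obtain ⟨g, hg, rfl⟩ := mem_R0.1 hσ
  exact (rBase_mem hg).2.2.2.2 w hw

theorem card_R0 : Nat.card R0 = 16 := by
  show Nat.card {σ // σ ∈ nSet hitN} = 16
  rw [Nat.card_eq_finsetCard, card_nSet]
  decide +kernel

theorem octA_octad : mset octA ∈ octads := mem_octads_iff.2 ⟨octA, octA_fixed.2.1, rfl⟩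

theorem R0_eq_octPtw : R0 = octPtw (mset octA) := by
  refine eq_of_le_of_card_ge (fun σ hσ => octPtw_fix.2 ⟨R0_le hσ, fun p hp => ?_⟩) ?_
  · obtain ⟨g, hg, rfl⟩ := mem_R0.1 hσ
    have h := octA_fixed.1
    simp only [List.all_eq_true, List.mem_range, Bool.or_eq_true, Bool.not_eq_true', nat_beq_eq,
      decide_eq_true_eq] at h
    have hp' : octA.testBit (idx p) = true := mem_mset.1 hp
    rw [permOf_apply (rBase_mem hg).1, (h g hg _ (idx_lt p)).resolve_left (by rw [hp']; exact Bool.noConfusion), pt_idx]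
  · rw [card_octPtw octA_octad, card_R0]

theorem rGen_mem {i : ℕ} (hi : i < 4) : permOf (rGen i) ∈ R0 := by
  have h := rBase_gen.2.2
  simp only [List.all_eq_true, List.mem_range, List.contains_iff_mem] at h
  exact mem_R0.2 ⟨_, h i hi, rfl⟩

theorem rGen_valid {i : ℕ} (hi : i < 4) : valid (rGen i) = true := by
  have h := rBase_gen.2.2
  simp only [List.all_eq_true, List.mem_range, List.contains_iff_mem] at h
  exact (rBase_mem (h i hi)).1

/-- A predicate closed under products with the four generators holds on the octad group. -/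
theorem R0_induction {p : Equiv.Perm GolayPt → Prop} (h1 : p 1)
    (hm : ∀ i < 4, ∀ τ ∈ R0, p τ → p (permOf (rGen i) * τ)) : ∀ σ ∈ R0, p σ := by
  have hget : ∀ n < 16, rBase.getD n idCode ∈ rBase := fun n hn => by
    rw [List.getD_eq_getElem _ _ (by rw [rBase_facts.1]; exact hn)]
    exact List.getElem_mem _
  have hall : ∀ n, n < 16 → p (permOf (rBase.getD n idCode)) := by
    intro n
    induction n using Nat.strong_induction_on with
    | _ n ih =>
      intro hn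
      have h := rBase_gen.1
      simp only [List.all_eq_true, List.mem_range, Bool.or_eq_true, nat_beq_eq, decide_eq_true_eq,
        List.any_eq_true, Bool.and_eq_true] at h
      rcases h n hn with rfl | ⟨i, hi, hle, hp⟩
      · rwa [rBase_gen.2.1, permOf_idCode]
      · have hlt : n - 2 ^ i < n := Nat.sub_lt_self (Nat.two_pow_pos i) hle
        rw [(isProd_sound (rGen_valid hi) (rBase_mem (hget _ (by omega))).1 hp).2]
        exact hm i hi _ (mem_R0.2 ⟨_, hget _ (by omega), rfl⟩) (ih _ hlt (by omega))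
  intro σ hσ
  obtain ⟨g, hg, rfl⟩ := mem_R0.1 hσ
  obtain ⟨n, hn, rfl⟩ := List.getElem_of_mem hg
  have := hall n (by rwa [← rBase_facts.1])
  rwa [List.getD_eq_getElem _ _ hn] at this

/-! ### The fixed space -/

theorem spanW_eq : spanW = wSpan := rfl

theorem wSpan_lt {w : ℕ} (hw : w ∈ wSpan) : w < 2048 := by
  have h := wSpan_facts.2.2.1
  simp only [List.all_eq_true, decide_eq_true_eq] at h
  exact h w hw

theorem wSpan_zero : 0 ∈ wSpan := List.contains_iff_mem.1 wSpan_facts.2.2.2.1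

theorem wSpan_xor {a b : ℕ} (ha : a ∈ wSpan) (hb : b ∈ wSpan) : a ^^^ b ∈ wSpan := by
  have h := wSpan_facts.2.2.2.2.1
  simp only [List.all_eq_true, List.contains_iff_mem] at h
  exact h a ha b hb

theorem wSpan_pair : ∃ w ∈ wSpan, NV.inB w = true := by
  have h := wSpan_facts.2.2.2.2.2
  simp only [List.any_eq_true] at h
  exact h

theorem mem_wSpan_of_fix {v : ℕ} (hv : v < 2048)
    (h : ∀ i < 4, mv (colsP (permOf (rGen i))) v = v) : v ∈ wSpan := by
  have hc := fix_common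
  simp only [List.all_eq_true, List.mem_range, Bool.or_eq_true, List.any_eq_true, Bool.not_eq_true', nat_beq_eq,
    decide_eq_false_iff_not, List.contains_iff_mem] at hc
  refine (hc v hv).resolve_left ?_
  rintro ⟨i, hi, hne⟩
  exact hne (by rw [← colsP_permOf (rGen_valid hi)]; exact h i hi)

theorem pv_mem_wSpan {p q : GolayPt} (hpq : p ≠ q) :
    NV.pv p q ∈ wSpan ↔ p ∈ mset octA ∧ q ∈ mset octA := by
  have hne : idx p ≠ idx q := fun e => hpq (by rw [← pt_idx p, e, pt_idx])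
  have h := octA_pairs
  simp only [List.all_eq_true, List.mem_range, Bool.or_eq_true, nat_beq_eq, decide_eq_true_eq, beq_iff_eq] at h
  have h' := (h _ (idx_lt p) _ (idx_lt q)).resolve_left hne
  rw [mem_mset, mem_mset, ← Bool.and_eq_true, ← h', decide_eq_true_eq]
  rfl

/-- Fixing every vector of the fixed space forces the octad group. -/
theorem mem_R0_of_fix {σ : Equiv.Perm GolayPt} (hσ : σ ∈ M24) (S : TSetup D)
    (h : ∀ w ∈ wSpan, mv (colsP σ) w = w) : σ ∈ R0 := by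
  rw [R0_eq_octPtw]
  refine octPtw_fix.2 ⟨hσ, fun a ha => ?_⟩
  have hpair : ∀ b ∈ mset octA, a ≠ b → σ a = a ∨ σ a = b := fun b hb hab => by
    have e := h _ ((pv_mem_wSpan hab).2 ⟨ha, hb⟩)
    rw [(cols_good (setup_good S) hσ).2] at e
    have h' : NV.Ends (NV.pv a b) (σ a) := e ▸ NV.ends_left (σ.injective.ne hab)
    exact h'.eq_or hab
  have hcard : 2 < (mset octA).card := by rw [octA_octad.2]; norm_num
  obtain ⟨b, hb, hba⟩ := Finset.exists_mem_ne (by omega : 1 < (mset octA).card) a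
  obtain ⟨c, hc, hca, hcb⟩ : ∃ c ∈ mset octA, c ≠ a ∧ c ≠ b := by
    by_contra hno
    push Not at hno
    have hsub : mset octA ⊆ {a, b} := fun x hx => by
      simp only [Finset.mem_insert, Finset.mem_singleton]
      by_cases hxa : x = a
      · exact Or.inl hxa
      · exact Or.inr (hno x hx hxa)
    have := (Finset.card_le_card hsub).trans Finset.card_le_two
    omega
  rcases hpair b hb (Ne.symm hba) with e | e
  · exact e
  rcases hpair c hc (Ne.symm hca) with e' | e'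
  · exact e'
  · exact absurd (e'.symm.trans e) hcb

/-! ### The subgroup -/

variable (S : TSetup D)

/-- The subgroup of order `2 ^ 10`. -/
noncomputable def A0 : Subgroup G where
  carrier := {x | ∃ w ∈ wSpan, ∃ σ ∈ R0, x = S.el w σ}
  one_mem' := ⟨0, wSpan_zero, 1, one_mem _, by rw [S.el_one_perm, Frame.vE_zero]⟩
  mul_mem' := by
    rintro _ _ ⟨a, ha, σ, hσ, rfl⟩ ⟨b, hb, τ, hτ, rfl⟩
    exact ⟨a ^^^ b, wSpan_xor ha hb, σ * τ, mul_mem hσ hτ, by
      rw [el_prod S (wSpan_lt ha) (wSpan_lt hb) (R0_le hσ) (R0_le hτ), R0_fix hσ hb]⟩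
  inv_mem' := by
    rintro _ ⟨a, ha, σ, hσ, rfl⟩
    refine ⟨a, ha, σ, hσ, inv_eq_of_mul_eq_one_right ?_⟩
    rw [el_prod S (wSpan_lt ha) (wSpan_lt ha) (R0_le hσ) (R0_le hσ), R0_fix hσ ha, Nat.xor_self, R0_sq hσ,
      S.el_one_perm, Frame.vE_zero]

theorem mem_A0 {x : G} : x ∈ A0 S ↔ ∃ w ∈ wSpan, ∃ σ ∈ R0, x = S.el w σ := Iff.rfl

theorem A0_le_norm : A0 S ≤ normalizer (D.V : Set G) := by
  rintro _ ⟨w, hw, σ, hσ, rfl⟩
  exact S.el_N (wSpan_lt hw) (R0_le hσ)

theorem A0_comm {x y : G} (hx : x ∈ A0 S) (hy : y ∈ A0 S) : x * y = y * x := by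
  obtain ⟨a, ha, σ, hσ, rfl⟩ := hx
  obtain ⟨b, hb, τ, hτ, rfl⟩ := hy
  rw [el_prod S (wSpan_lt ha) (wSpan_lt hb) (R0_le hσ) (R0_le hτ), R0_fix hσ hb,
    el_prod S (wSpan_lt hb) (wSpan_lt ha) (R0_le hτ) (R0_le hσ), R0_fix hτ ha, Nat.xor_comm, R0_comm hσ hτ]

theorem A0_elem : IsElementaryAbelian 2 (A0 S) := by
  refine ⟨⟨⟨fun x y => Subtype.ext (A0_comm S x.2 y.2)⟩⟩, fun x hx => ?_⟩
  obtain ⟨a, ha, σ, hσ, rfl⟩ := hx
  rw [pow_two, el_prod S (wSpan_lt ha) (wSpan_lt ha) (R0_le hσ) (R0_le hσ), R0_fix hσ ha, Nat.xor_self,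
    R0_sq hσ, S.el_one_perm, Frame.vE_zero]

theorem vE_mem_A0 {w : ℕ} (hw : w ∈ wSpan) : vE D w ∈ A0 S :=
  ⟨w, hw, 1, one_mem _, (S.el_one_perm w).symm⟩

theorem kap_mem_A0 {σ : Equiv.Perm GolayPt} (hσ : σ ∈ R0) : S.kap σ ∈ A0 S :=
  ⟨0, wSpan_zero, σ, hσ, (S.el_zero σ).symm⟩

theorem card_A0 : Nat.card (A0 S) = 2 ^ 10 := by
  classical
  let f : {w // w ∈ wSpan.toFinset} × R0 → A0 S := fun y =>
    ⟨S.el y.1 y.2, y.1, List.mem_toFinset.1 y.1.2, y.2, y.2.2, rfl⟩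
  have hf : Function.Bijective f := by
    refine ⟨fun x y h => ?_, fun x => ?_⟩
    · obtain ⟨e1, e2⟩ := S.el_inj (wSpan_lt (List.mem_toFinset.1 x.1.2)) (wSpan_lt (List.mem_toFinset.1 y.1.2))
        (R0_le x.2.2) (R0_le y.2.2) (congrArg Subtype.val h)
      exact Prod.ext (Subtype.ext e1) (Subtype.ext e2)
    · obtain ⟨w, hw, σ, hσ, e⟩ := x.2
      exact ⟨(⟨w, List.mem_toFinset.2 hw⟩, ⟨σ, hσ⟩), Subtype.ext e.symm⟩
  rw [← Nat.card_eq_of_bijective f hf, Nat.card_prod, card_R0, Nat.card_eq_finsetCard,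
    List.toFinset_card_of_nodup wSpan_facts.2.1, wSpan_facts.1]
  norm_num

theorem A0_self : centralizer (A0 S : Set G) = A0 S := by
  refine le_antisymm (fun x hx => ?_) fun x hx => mem_centralizer_iff.2 fun y hy => A0_comm S hy hx
  obtain ⟨p, hp, hB⟩ := wSpan_pair
  have hpV := Frame.pairV_of_inB D S.hf (wSpan_lt hp) hB
  have hxN : x ∈ normalizer (D.V : Set G) := Frame.centralizer_pairV_le D S.hf hpV
    (mem_centralizer_singleton_iff.2 (mem_centralizer_iff.1 hx _ (vE_mem_A0 S hp)).symm)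
  obtain ⟨a, ha, e⟩ := S.exists_el hxN
  set σ := S.M.perm x with hσdef
  have hσ : σ ∈ M24 := S.M.perm_mem x hxN
  have hfix : ∀ w ∈ wSpan, mv (colsP σ) w = w := by
    intro w hw
    have h := mem_centralizer_iff.1 hx _ (vE_mem_A0 S hw)
    rw [e, ← S.el_one_perm w, el_prod S (wSpan_lt hw) ha (one_mem _) hσ, el_prod S ha (wSpan_lt hw) hσ (one_mem _),
      one_mul, mul_one, cols_one (setup_good S) ha] at h
    have h1 := (S.el_inj (Nat.xor_lt_two_pow (n := 11) (wSpan_lt hw) ha)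
      (Nat.xor_lt_two_pow (n := 11) ha (cols_lt S hσ (wSpan_lt hw))) hσ hσ h).1
    rw [Nat.xor_comm] at h1
    exact (Nat.xor_right_injective h1).symm
  have hσR := mem_R0_of_fix hσ S hfix
  refine ⟨a, mem_wSpan_of_fix ha fun i hi => ?_, σ, hσR, e⟩
  have h := mem_centralizer_iff.1 hx _ (kap_mem_A0 S (rGen_mem hi))
  rw [e, ← S.el_zero, el_prod S (by norm_num) ha (R0_le (rGen_mem hi)) hσ,
    el_prod S ha (by norm_num) hσ (R0_le (rGen_mem hi)), Nat.zero_xor, R0_fix hσR wSpan_zero, Nat.xor_zero] at h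
  exact (S.el_inj (cols_lt S (R0_le (rGen_mem hi)) ha) ha
    (mul_mem (R0_le (rGen_mem hi)) hσ) (mul_mem hσ (R0_le (rGen_mem hi))) h).1

end CfsgLib.J4Type.Ten
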