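import Cfsg.Agent.Lib.J4Type.Ten.CompChecks
import Cfsg.Agent.Lib.J4Type.Ten.Model

/-!
A subgroup of order `2 ^ 10` of the normaliser of the model meeting the model trivially.
-/

set_option autoImplicit false
set_option maxRecDepth 100000

namespace CfsgLib.J4Type.Ten

open Cfsg Subgroup CfsgLib.Golay
open CfsgLib.J4Type.Frame (vE)
open CfsgLib.J4Type.Order (TSetup)

variable {G : Type*} [Group G] [Finite G] {z : G} {P : Subgroup G} {F : Frame z P} {D : VData F}

/-- An element of `M₂₄` keeping the octad normalises the octad group. -/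
theorem R0_conj {σ : Equiv.Perm GolayPt} (hσ : σ ∈ M24) (hO : ∀ p, σ p ∈ mset octA ↔ p ∈ mset octA)
    {τ : Equiv.Perm GolayPt} (hτ : τ ∈ R0) : σ * τ * σ⁻¹ ∈ R0 := by
  rw [R0_eq_octPtw] at hτ ⊢
  obtain ⟨hM, hf⟩ := octPtw_fix.1 hτ
  refine octPtw_fix.2 ⟨mul_mem (mul_mem hσ hM) (inv_mem hσ), fun q hq => ?_⟩
  have hp : σ⁻¹ q ∈ mset octA := (hO _).1 (by rw [show σ (σ⁻¹ q) = q from σ.apply_symm_apply q]; exact hq)
  rw [Equiv.Perm.mul_apply, Equiv.Perm.mul_apply, hf _ hp]
  exact σ.apply_symm_apply q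

variable (S : TSetup D)

include S in
/-- An element of `M₂₄` keeping the octad keeps the fixed space. -/
theorem wSpan_map {σ : Equiv.Perm GolayPt} (hσ : σ ∈ M24) (hO : ∀ p, σ p ∈ mset octA ↔ p ∈ mset octA)
    {w : ℕ} (hw : w ∈ wSpan) : mv (colsP σ) w ∈ wSpan := by
  refine mem_wSpan_of_fix (cols_lt S hσ (wSpan_lt hw)) fun i hi => ?_
  have hr := R0_le (rGen_mem hi)
  have hconj : σ⁻¹ * permOf (rGen i) * σ⁻¹⁻¹ ∈ R0 := by
    refine R0_conj (inv_mem hσ) (fun p => ?_) (rGen_mem hi)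
    rw [← hO (σ⁻¹ p), show σ (σ⁻¹ p) = p from σ.apply_symm_apply p]
  have e := (cols_conj_fix (setup_good S) hσ (R0_le hconj) (wSpan_lt hw)).2 (R0_fix hconj hw)
  rwa [show σ * (σ⁻¹ * permOf (rGen i) * σ⁻¹⁻¹) * σ⁻¹ = permOf (rGen i) by group] at e

/-- The elements normalising the model, in coordinates. -/
theorem el_mem_norm_A0 {v : ℕ} (hv : v < 2048) (hu : uOK v = true) {σ : Equiv.Perm GolayPt} (hσ : σ ∈ M24)
    (hO : ∀ p, σ p ∈ mset octA ↔ p ∈ mset octA) : S.el v σ ∈ normalizer (A0 S : Set G) := by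
  have hk : S.kap σ ∈ normalizer (A0 S : Set G) := by
    refine NV.mem_normalizer_of_map (eq_of_le_of_card_ge ?_ ?_)
    · rintro _ ⟨_, ⟨w, hw, τ, hτ, rfl⟩, rfl⟩
      refine ⟨_, wSpan_map S hσ hO hw, _, R0_conj hσ hO hτ, ?_⟩
      rw [MulEquiv.coe_toMonoidHom, MulAut.conj_apply, TSetup.el, TSetup.el, ← conj_vE S hσ (wSpan_lt hw),
        S.kap_mul (mul_mem hσ (R0_le hτ)) (inv_mem hσ), S.kap_mul hσ (R0_le hτ), S.kap_inv hσ]
      group
    · rw [Subgroup.card_map_of_injective (f := (MulAut.conj (S.kap σ)).toMonoidHom) (MulAut.conj _).injective]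
  have hvN : vE D v ∈ normalizer (A0 S : Set G) := by
    refine NV.mem_normalizer_of_map (eq_of_le_of_card_ge ?_ ?_)
    · have huv : ∀ τ ∈ R0, v ^^^ mv (colsP τ) v ∈ wSpan := by
        refine R0_induction ?_ fun i hi τ hτ h => ?_
        · rw [cols_one (setup_good S) hv, Nat.xor_self]; exact wSpan_zero
        · have hr := R0_le (rGen_mem hi)
          simp only [uOK, List.all_eq_true, List.mem_range, List.any_eq_true, nat_beq_eq, decide_eq_true_eq] at hu
          obtain ⟨w, hw, e⟩ := hu i hi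
          rw [← colsP_permOf (rGen_valid hi)] at e
          rw [cols_mul (setup_good S) hr (R0_le hτ) hv]
          have h2 := R0_fix (rGen_mem hi) h
          rw [mv_xor] at h2
          have : v ^^^ mv (colsP (permOf (rGen i))) (mv (colsP τ) v) =
              (v ^^^ mv (colsP (permOf (rGen i))) v) ^^^ (v ^^^ mv (colsP τ) v) := by
            rw [← h2, Nat.xor_assoc, ← Nat.xor_assoc (mv (colsP (permOf (rGen i))) v), Nat.xor_self, Nat.zero_xor]
          rw [this, e]
          exact wSpan_xor hw h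
      rintro _ ⟨_, ⟨w, hw, τ, hτ, rfl⟩, rfl⟩
      refine ⟨w ^^^ (v ^^^ mv (colsP τ) v), wSpan_xor hw (huv τ hτ), τ, hτ, ?_⟩
      have hvi : (vE D v)⁻¹ = vE D v := inv_eq_of_mul_eq_one_right (Frame.V_sq D (Frame.vE_mem D hv))
      rw [MulEquiv.coe_toMonoidHom, MulAut.conj_apply, hvi, ← S.el_one_perm v,
        el_prod S hv (wSpan_lt hw) (one_mem _) (R0_le hτ), one_mul, cols_one (setup_good S) (wSpan_lt hw),
        el_prod S (Nat.xor_lt_two_pow (n := 11) hv (wSpan_lt hw)) hv (R0_le hτ) (one_mem _), mul_one]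
      congr 1
      rw [Nat.xor_comm v w, Nat.xor_assoc]
    · rw [Subgroup.card_map_of_injective (f := (MulAut.conj (vE D v)).toMonoidHom) (MulAut.conj _).injective]
  exact mul_mem hvN hk

theorem cAt_facts {i : ℕ} (hi : i < 1024) :
    (cAt i).1 < 2048 ∧ valid (cAt i).2 = true ∧ canonB (cAt i).2 = true := by
  obtain ⟨hl, hr, -⟩ := cList_shape
  simp only [List.all_eq_true, Bool.and_eq_true, decide_eq_true_eq, nat_beq_eq] at hr
  have h1 : i / 32 < cList.length := by omega
  have hm := List.getElem_mem h1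
  have h2 : i % 32 < (cList[i / 32]).length := by rw [(hr _ hm).1]; omega
  have e : cAt i = (cList[i / 32])[i % 32] := by
    show (cList.getD (i / 32) []).getD (i % 32) (0, idCode) = _
    rw [List.getD_eq_getElem _ _ h1, List.getD_eq_getElem _ _ h2]
  obtain ⟨⟨a1, a2⟩, a3⟩ := (hr _ hm).2 _ (List.getElem_mem h2)
  rw [e]
  exact ⟨a1, a2, a3⟩

theorem cGen_facts {k : ℕ} (hk : k < 4) : (cGens.getD k (0, idCode)).1 < 2048 ∧
    valid (cGens.getD k (0, idCode)).2 = true ∧ permOf (cGens.getD k (0, idCode)).2 ∈ M24 ∧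
    S.el (cGens.getD k (0, idCode)).1 (permOf (cGens.getD k (0, idCode)).2) ∈ normalizer (A0 S : Set G) := by
  have h := cGens_ok
  simp only [List.all_eq_true, Bool.and_eq_true, decide_eq_true_eq, List.mem_range, beq_iff_eq] at h
  have hlt : k < cGens.length := by rw [cList_shape.2.2.2.2.2]; exact hk
  have hm : cGens.getD k (0, idCode) ∈ cGens := by
    rw [List.getD_eq_getElem _ _ hlt]; exact List.getElem_mem hlt
  obtain ⟨⟨⟨h1, h2⟩, h3⟩, h4⟩ := h _ hm
  refine ⟨h1, inM24_valid h2, inM24_mem h2, el_mem_norm_A0 S h1 h3 (inM24_mem h2) fun p => ?_⟩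
  rw [mem_mset, mem_mset, permOf_apply (inM24_valid h2), idx_pt (valid_lt (inM24_valid h2) (idx_lt p)),
    h4 _ (idx_lt p)]

theorem cProd_el {x y r : ℕ × ℕ} (hx1 : x.1 < 2048) (hx2 : valid x.2 = true) (hxM : permOf x.2 ∈ M24)
    (hy1 : y.1 < 2048) (hy2 : valid y.2 = true) (hyM : permOf y.2 ∈ M24) (h : cProd x y r = true) :
    permOf r.2 = permOf x.2 * permOf y.2 ∧ S.el r.1 (permOf r.2) = S.el x.1 (permOf x.2) * S.el y.1 (permOf y.2) := by
  simp only [cProd, Bool.and_eq_true, nat_beq_eq, decide_eq_true_eq] at h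
  have e := (isProd_sound hx2 hy2 h.2).2
  refine ⟨e, ?_⟩
  rw [el_prod S hx1 hy1 hxM hyM, colsP_permOf hx2, h.1, e]

include S in
theorem cAt_M24 : ∀ i < 1024, permOf (cAt i).2 ∈ M24 := by
  intro i
  induction i using Nat.strong_induction_on with
  | _ i ih =>
    intro hi
    have h := cPar_ok
    simp only [List.all_eq_true, List.mem_range, Bool.or_eq_true, Bool.and_eq_true, nat_beq_eq,
      decide_eq_true_eq] at h
    rcases h i hi with rfl | ⟨⟨hp, hk⟩, hc⟩
    · rw [cList_shape.2.2.1, permOf_idCode]; exact one_mem _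
    · obtain ⟨y1, y2, y3, -⟩ := cGen_facts S hk
      obtain ⟨x1, x2, -⟩ := cAt_facts (i := (at2 (0, 0) 32 cPar i).1) (by omega)
      rw [(cProd_el S x1 x2 (ih _ hp (by omega)) y1 y2 y3 hc).1]
      exact mul_mem (ih _ hp (by omega)) y3

/-- The listed elements. -/
noncomputable def cEl (i : ℕ) : G := S.el (cAt i).1 (permOf (cAt i).2)

theorem cEl_inj {i j : ℕ} (hi : i < 1024) (hj : j < 1024) (h : cEl S i = cEl S j) : cKey i = cKey j := by
  obtain ⟨a1, a2, a3⟩ := cAt_facts hi
  obtain ⟨b1, b2, b3⟩ := cAt_facts hj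
  obtain ⟨e1, e2⟩ := S.el_inj a1 b1 (cAt_M24 S i hi) (cAt_M24 S j hj) h
  rw [cKey, cKey, e1, canon_inj a2 b2 a3 b3 e2]

/-- **A complement in a Sylow two-subgroup.** -/
theorem exists_twoPart : ∃ T : Subgroup G, T ≤ normalizer (A0 S : Set G) ∧ Nat.card T = 2 ^ 10 ∧
    T ⊓ A0 S = ⊥ := by
  classical
  set gs : Set G := {x | ∃ k < 4, x = S.el (cGens.getD k (0, idCode)).1 (permOf (cGens.getD k (0, idCode)).2)}
    with hgs
  have hstep : ∀ i < 1024, ∀ k < 4, ∃ j < 1024,
      cEl S i * S.el (cGens.getD k (0, idCode)).1 (permOf (cGens.getD k (0, idCode)).2) = cEl S j := by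
    intro i hi k hk
    have h := cNext_ok
    simp only [List.all_eq_true, List.mem_range] at h
    obtain ⟨y1, y2, y3, -⟩ := cGen_facts S hk
    obtain ⟨x1, x2, -⟩ := cAt_facts hi
    exact ⟨cNext i k, Nat.mod_lt _ (by norm_num),
      (cProd_el S x1 x2 (cAt_M24 S i hi) y1 y2 y3 (h i hi k hk)).2.symm⟩
  have hzero : cEl S 0 = 1 := by
    rw [cEl, cList_shape.2.2.1, permOf_idCode, S.el_one_perm, Frame.vE_zero]
  have hmem : ∀ x ∈ closure gs, ∃ i < 1024, x = cEl S i := by
    intro x hx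
    rw [← mem_toSubmonoid, closure_toSubmonoid_of_finite] at hx
    induction hx using Submonoid.closure_induction_right with
    | one => exact ⟨0, by norm_num, hzero.symm⟩
    | mul_right x _ y hy ih =>
      obtain ⟨i, hi, rfl⟩ := ih
      obtain ⟨k, hk, rfl⟩ := hy
      exact hstep i hi k hk
  have hall : ∀ i, i < 1024 → cEl S i ∈ closure gs := by
    intro i
    induction i using Nat.strong_induction_on with
    | _ i ih =>
      intro hi
      have h := cPar_ok
      simp only [List.all_eq_true, List.mem_range, Bool.or_eq_true, Bool.and_eq_true, nat_beq_eq,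
        decide_eq_true_eq] at h
      rcases h i hi with rfl | ⟨⟨hp, hk⟩, hc⟩
      · rw [hzero]; exact one_mem _
      · obtain ⟨y1, y2, y3, -⟩ := cGen_facts S hk
        obtain ⟨x1, x2, -⟩ := cAt_facts (i := (at2 (0, 0) 32 cPar i).1) (by omega)
        rw [cEl, (cProd_el S x1 x2 (cAt_M24 S _ (by omega)) y1 y2 y3 hc).2]
        exact mul_mem (ih _ hp (by omega)) (subset_closure ⟨_, hk, rfl⟩)
  obtain ⟨⟨hlen, hlt⟩, hsort⟩ := cOrd_ok
  simp only [List.all_eq_true, decide_eq_true_eq] at hlt hsort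
  have hnd : (cOrd.map (cEl S)).Nodup := by
    have hpair : (cOrd.map cKey).Pairwise (· < ·) := by
      rw [List.pairwise_map, ← List.isChain_iff_pairwise]
      refine List.isChain_iff_getElem.2 fun i hi => ?_
      refine hsort (cOrd[i], cOrd[i + 1]) ?_
      have : i < (cOrd.zip cOrd.tail).length := by rw [List.length_zip, List.length_tail]; omega
      have e : (cOrd.zip cOrd.tail)[i] = (cOrd[i], cOrd[i + 1]) := by simp
      rw [← e]
      exact List.getElem_mem this
    have h1 : (cOrd.map cKey).Nodup := hpair.imp fun h => Nat.ne_of_lt h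
    refine (List.Nodup.of_map _ h1).map_on ?_
    intro a ha b hb h
    exact List.inj_on_of_nodup_map h1 ha hb (cEl_inj S (hlt a ha) (hlt b hb) h)
  refine ⟨closure gs, (closure_le _).2 fun x ⟨k, hk, e⟩ => e ▸ (cGen_facts S hk).2.2.2, ?_, ?_⟩
  · refine le_antisymm ?_ ?_
    · choose w hw1 hw2 using fun x : closure gs => hmem _ x.2
      let f : closure gs → Fin 1024 := fun x => ⟨w x, hw1 x⟩
      refine le_trans (Nat.card_le_card_of_injective f fun x y h => Subtype.ext ?_) (by rw [Nat.card_fin]; norm_num)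
      have e : w x = w y := congrArg Fin.val h
      rw [hw2 x, hw2 y, e]
    · let s : Finset G := (cOrd.map (cEl S)).toFinset
      have hs : s.card = 2 ^ 10 := by rw [List.toFinset_card_of_nodup hnd, List.length_map, hlen]; norm_num
      let f : s → closure gs := fun x => ⟨x.1, by
        obtain ⟨i, hi, e⟩ := List.mem_map.1 (List.mem_toFinset.1 x.2)
        exact e ▸ hall i (hlt i hi)⟩
      rw [← hs, ← Nat.card_eq_finsetCard s]
      exact Nat.card_le_card_of_injective f fun x y h => Subtype.ext (congrArg (fun u : closure gs => u.1) h)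
  · rw [eq_bot_iff]
    rintro x ⟨hxT, hxA⟩
    obtain ⟨i, hi, rfl⟩ := hmem x hxT
    obtain ⟨w, hw, σ, hσ, e⟩ := hxA
    obtain ⟨a1, a2, a3⟩ := cAt_facts hi
    obtain ⟨e1, e2⟩ := S.el_inj a1 (wSpan_lt hw) (cAt_M24 S i hi) (R0_le hσ) e
    obtain ⟨g, hg, rfl⟩ := mem_R0.1 hσ
    have e3 := canon_inj a2 (rBase_mem hg).1 a3 (rBase_mem hg).2.2.1 e2
    have h := cDisj_ok
    simp only [List.all_eq_true, List.mem_range, Bool.or_eq_true, nat_beq_eq, decide_eq_true_eq,
      Bool.not_eq_true', Bool.and_eq_false_iff] at h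
    rcases h i hi with rfl | h' | h'
    · rw [hzero]; exact mem_bot.2 rfl
    · rw [e1, List.contains_iff_mem.2 hw] at h'; exact Bool.noConfusion h'
    · rw [e3, List.contains_iff_mem.2 hg] at h'; exact Bool.noConfusion h'

end CfsgLib.J4Type.Ten
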