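import Cfsg.Agent.Lib.J4Type.Ten.Model

/-!
Every self-centralising elementary abelian subgroup of order `2 ^ 10` is conjugate to the model, and by an
element of the normaliser of `V` if it lies there.
-/

set_option autoImplicit false
set_option maxRecDepth 100000
set_option linter.unusedSectionVars false

namespace CfsgLib.J4Type.Ten

open Cfsg Subgroup CfsgLib.Golay
open CfsgLib.J4Type.Frame (vE pairV)
open CfsgLib.J4Type.Order (TSetup)

section Conj

variable {H : Type*} [Group H]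

theorem mem_map_conj {A : Subgroup H} {g y : H} :
    y ∈ A.map (MulAut.conj g).toMonoidHom ↔ g⁻¹ * y * g ∈ A := NV.mem_map_conj

theorem map_conj_conj (A : Subgroup H) (g h : H) :
    (A.map (MulAut.conj g).toMonoidHom).map (MulAut.conj h).toMonoidHom =
      A.map (MulAut.conj (h * g)).toMonoidHom := by
  ext y
  rw [mem_map_conj, mem_map_conj, mem_map_conj, mul_inv_rev]
  simp [mul_assoc]

theorem conj_props {A : Subgroup H} (g : H) (hA : IsElementaryAbelian 2 A)
    (hself : centralizer (A : Set H) = A) :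
    IsElementaryAbelian 2 (A.map (MulAut.conj g).toMonoidHom) ∧
      Nat.card (A.map (MulAut.conj g).toMonoidHom) = Nat.card A ∧
      centralizer ((A.map (MulAut.conj g).toMonoidHom : Subgroup H) : Set H) =
        A.map (MulAut.conj g).toMonoidHom := by
  refine ⟨⟨⟨⟨fun a b => ?_⟩⟩, ?_⟩,
    Subgroup.card_map_of_injective (f := (MulAut.conj g).toMonoidHom) (MulAut.conj g).injective, ?_⟩
  · obtain ⟨_, x, hx, rfl⟩ := a
    obtain ⟨_, y, hy, rfl⟩ := b
    exact Subtype.ext (by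
      show MulAut.conj g x * MulAut.conj g y = MulAut.conj g y * MulAut.conj g x
      rw [← map_mul, ← map_mul, NV.elem_comm hA hx hy])
  · rintro _ ⟨x, hx, rfl⟩
    rw [← map_pow, hA.2 x hx, map_one]
  · ext y
    rw [mem_map_conj, mem_centralizer_iff]
    conv_rhs => rw [← hself, mem_centralizer_iff]
    constructor
    · intro h a ha
      have h' := h (g * a * g⁻¹) ⟨a, ha, rfl⟩
      calc a * (g⁻¹ * y * g) = g⁻¹ * (g * a * g⁻¹ * y) * g := by group
        _ = g⁻¹ * (y * (g * a * g⁻¹)) * g := by rw [h']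
        _ = g⁻¹ * y * g * a := by group
    · rintro h _ ⟨a, ha, rfl⟩
      rw [MulEquiv.coe_toMonoidHom, MulAut.conj_apply]
      calc g * a * g⁻¹ * y = g * (a * (g⁻¹ * y * g)) * g⁻¹ := by group
        _ = g * (g⁻¹ * y * g * a) * g⁻¹ := by rw [h a ha]
        _ = y * (g * a * g⁻¹) := by group

end Conj

variable {G : Type*} [Group G] [Finite G] {z : G} {P : Subgroup G} {F : Frame z P} {D : VData F}

/-- A two-subgroup is conjugate into the normaliser of `V`. -/
theorem exists_conj_le_norm (A : Subgroup G) (hA : IsPGroup 2 A) :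
    ∃ g : G, A.map (MulAut.conj g).toMonoidHom ≤ normalizer (D.V : Set G) := by
  have : Fact (Nat.Prime 2) := ⟨Nat.prime_two⟩
  obtain ⟨T, hT⟩ := (IsPGroup.of_card (n := 11) D.card : IsPGroup 2 D.V).exists_le_sylow
  obtain ⟨T1, hT1⟩ := hA.exists_le_sylow
  obtain ⟨g, hg⟩ := MulAction.exists_smul_eq G T1 T
  refine ⟨g, ?_⟩
  rintro _ ⟨a, ha, rfl⟩
  set t := (MulAut.conj g).toMonoidHom a
  have ht : t ∈ (T : Subgroup G) := by
    rw [← hg, Sylow.coe_subgroup_smul]
    exact ⟨a, hT1 ha, rfl⟩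
  refine NV.mem_normalizer_of_map ?_
  refine D.unique T _ _ ?_ hT ⟨⟨⟨fun a b => ?_⟩⟩, ?_⟩ ?_ D.elem D.card
  · rintro _ ⟨v, hv, rfl⟩
    exact mul_mem (mul_mem ht (hT hv)) (inv_mem ht)
  · obtain ⟨_, x, hx, rfl⟩ := a
    obtain ⟨_, y, hy, rfl⟩ := b
    exact Subtype.ext (by
      show MulAut.conj t x * MulAut.conj t y = MulAut.conj t y * MulAut.conj t x
      rw [← map_mul, ← map_mul, NV.elem_comm D.elem hx hy])
  · rintro _ ⟨x, hx, rfl⟩
    rw [← map_pow, D.elem.2 x hx, map_one]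
  · rw [Subgroup.card_map_of_injective (f := (MulAut.conj t).toMonoidHom) (MulAut.conj t).injective, D.card]

variable (S : TSetup D)

/-- Commuting of an element of the normaliser with an element of `V`. -/
theorem comm_vE_iff {a : ℕ} (ha : a < 2048) {σ : Equiv.Perm GolayPt} (hσ : σ ∈ M24) {v : ℕ} (hv : v < 2048) :
    S.el a σ * vE D v = vE D v * S.el a σ ↔ mv (colsP σ) v = v := by
  rw [← S.el_one_perm v, el_prod S ha hv hσ (one_mem _), el_prod S hv ha (one_mem _) hσ, one_mul, mul_one,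
    cols_one (setup_good S) ha, Nat.xor_comm v a]
  constructor
  · intro h
    exact Nat.xor_right_injective (S.el_inj (Nat.xor_lt_two_pow (n := 11) ha (cols_lt S hσ hv))
      (Nat.xor_lt_two_pow (n := 11) ha hv) hσ hσ h).1
  · intro h
    rw [h]

/-- The permutations induced by a subgroup of the normaliser of `V`. -/
noncomputable def permHom (A : Subgroup G) (hA : A ≤ normalizer (D.V : Set G)) : A →* Equiv.Perm GolayPt where
  toFun a := S.M.perm a
  map_one' := (S.M.perm_eq_one 1 (one_mem _)).2 (one_mem _)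
  map_mul' a b := S.M.perm_mul _ (hA a.2) _ (hA b.2)

/-- A self-centralising subgroup of order `2 ^ 10` of the normaliser, in coordinates. -/
theorem coords {A : Subgroup G} (hAN : A ≤ normalizer (D.V : Set G)) (hA : IsElementaryAbelian 2 A)
    (hcard : Nat.card A = 2 ^ 10) (hself : centralizer (A : Set G) = A) :
    (permHom S A hAN).range ≤ M24 ∧ (∀ x ∈ (permHom S A hAN).range, x * x = 1) ∧
      (∀ v < 2048, vE D v ∈ A ↔ v ∈ fixSet ((permHom S A hAN).range : Set (Equiv.Perm GolayPt))) ∧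
      Nat.card (permHom S A hAN).range * (fixSet ((permHom S A hAN).range : Set _)).ncard = 1024 := by
  set φ := permHom S A hAN with hφ
  have h1 : φ.range ≤ M24 := by
    rintro _ ⟨a, rfl⟩
    exact S.M.perm_mem _ (hAN a.2)
  have h2 : ∀ x ∈ φ.range, x * x = 1 := by
    rintro _ ⟨a, rfl⟩
    rw [← map_mul, show a * a = 1 from Subtype.ext (NV.elem_sq hA a.2), map_one]
  have hmem : ∀ v < 2048, vE D v ∈ A ↔ v ∈ fixSet (φ.range : Set (Equiv.Perm GolayPt)) := by
    intro v hv
    constructor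
    · intro hvA
      refine ⟨hv, ?_⟩
      rintro _ ⟨a, rfl⟩
      obtain ⟨n, hn, e⟩ := S.exists_el (hAN a.2)
      refine (comm_vE_iff S hn (S.M.perm_mem _ (hAN a.2)) hv).1 ?_
      rw [← e]
      exact NV.elem_comm hA a.2 hvA
    · intro hfix
      rw [← hself]
      refine mem_centralizer_iff.2 fun a ha => ?_
      obtain ⟨n, hn, e⟩ := S.exists_el (hAN ha)
      rw [e]
      exact (comm_vE_iff S hn (S.M.perm_mem _ (hAN ha)) hv).2 (hfix.2 _ ⟨⟨a, ha⟩, rfl⟩)
  refine ⟨h1, h2, hmem, ?_⟩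
  have hker : Nat.card φ.ker = (fixSet (φ.range : Set (Equiv.Perm GolayPt))).ncard := by
    rw [← Nat.card_coe_set_eq]
    refine (Nat.card_congr (Equiv.ofBijective (fun v => (⟨⟨vE D v.1, (hmem _ v.2.1).2 v.2⟩, ?_⟩ : φ.ker)) ⟨?_, ?_⟩)).symm
    · exact MonoidHom.mem_ker.2 ((S.M.perm_eq_one _ (hAN ((hmem _ v.2.1).2 v.2))).2 (Frame.vE_mem D v.2.1))
    · intro v w h
      exact Subtype.ext (Frame.vE_injOn D v.2.1 w.2.1 (congrArg (fun x : φ.ker => ((x : A) : G)) h))
    · rintro ⟨⟨x, hx⟩, hk⟩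
      obtain ⟨n, hn, rfl⟩ := Frame.exists_vE D ((S.M.perm_eq_one _ (hAN hx)).1 (MonoidHom.mem_ker.1 hk))
      exact ⟨⟨n, (hmem n hn).1 hx⟩, rfl⟩
  have h := card_mul_index φ.ker
  rw [index_ker, hker, hcard] at h
  rw [mul_comm, h]
  norm_num

theorem A0_le_of_gens {A : Subgroup G} (hW : ∀ w ∈ wSpan, vE D w ∈ A)
    (hr : ∀ i < 4, S.kap (permOf (rGen i)) ∈ A) : A0 S ≤ A := by
  have hk : ∀ σ ∈ R0, S.kap σ ∈ A := R0_induction (by rw [S.kap_one]; exact one_mem _) fun i hi τ hτ h => by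
    rw [S.kap_mul (R0_le (rGen_mem hi)) (R0_le hτ)]
    exact mul_mem (hr i hi) h
  rintro _ ⟨w, hw, σ, hσ, rfl⟩
  exact mul_mem (hW w hw) (hk σ hσ)

/-- A self-centralising subgroup with the octad group as image is conjugate under `V` to the model. -/
theorem conj_of_image {A : Subgroup G} (hAN : A ≤ normalizer (D.V : Set G)) (hA : IsElementaryAbelian 2 A)
    (hcard : Nat.card A = 2 ^ 10) (hW : ∀ w ∈ wSpan, vE D w ∈ A)
    (hR : ∀ σ ∈ R0, ∃ a ∈ A, S.M.perm a = σ) :
    ∃ n ∈ normalizer (D.V : Set G), A.map (MulAut.conj n).toMonoidHom = A0 S := by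
  have hlift : ∀ i < 4, ∃ a < 2048, S.el a (permOf (rGen i)) ∈ A := fun i hi => by
    obtain ⟨x, hx, e⟩ := hR _ (rGen_mem hi)
    obtain ⟨a, ha, e'⟩ := S.exists_el (hAN hx)
    exact ⟨a, ha, by rw [← e, ← e']; exact hx⟩
  choose! a ha hel using hlift
  have hM : ∀ i < 4, permOf (rGen i) ∈ M24 := fun i hi => R0_le (rGen_mem hi)
  have hfix : ∀ i < 4, mv (colsP (permOf (rGen i))) (a i) = a i := by
    intro i hi
    have h := NV.elem_sq hA (hel i hi)
    rw [el_prod S (ha i hi) (ha i hi) (hM i hi) (hM i hi), R0_sq (rGen_mem hi), S.el_one_perm] at h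
    exact (Nat.xor_eq_zero_iff.1 (Frame.vE_inj D
      (Nat.xor_lt_two_pow (n := 11) (ha i hi) (cols_lt S (hM i hi) (ha i hi))) h)).symm
  have hcases : ∀ i < 4, a i ∈ wSpan ∨ a i ^^^ cW.getD i 0 ∈ wSpan := by
    intro i hi
    have h := fix_single
    simp only [List.all_eq_true, List.mem_range, Bool.or_eq_true, Bool.not_eq_true', nat_beq_eq,
      decide_eq_false_iff_not, List.contains_iff_mem] at h
    rcases h i hi _ (ha i hi) with (h' | h') | h'
    · exact absurd (by rw [← colsP_permOf (rGen_valid hi)]; exact hfix i hi) h'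
    · exact Or.inl h'
    · exact Or.inr h'
  have hmix : ∀ i < 4, ∀ j < 4, a j ∈ wSpan → a i ∉ wSpan → False := by
    intro i hi j hj hjW hiW
    have hne : i ≠ j := fun e => hiW (e ▸ hjW)
    have h := NV.elem_comm hA (hel i hi) (hel j hj)
    rw [el_prod S (ha i hi) (ha j hj) (hM i hi) (hM j hj), el_prod S (ha j hj) (ha i hi) (hM j hj) (hM i hi),
      R0_fix (rGen_mem hi) hjW, R0_comm (rGen_mem hi) (rGen_mem hj)] at h
    have h1 := (S.el_inj (Nat.xor_lt_two_pow (n := 11) (ha i hi) (ha j hj))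
      (Nat.xor_lt_two_pow (n := 11) (ha j hj) (cols_lt S (hM j hj) (ha i hi)))
      (mul_mem (hM j hj) (hM i hi)) (mul_mem (hM j hj) (hM i hi)) h).1
    rw [Nat.xor_comm (a i) (a j)] at h1
    replace h1 := (Nat.xor_right_injective h1).symm
    have hc := (hcases i hi).resolve_left hiW
    have h2 := lift_mixed
    simp only [List.all_eq_true, List.mem_range, Bool.or_eq_true, Bool.not_eq_true', nat_beq_eq,
      decide_eq_true_eq, decide_eq_false_iff_not] at h2
    refine (h2 i hi j hj).resolve_left hne ?_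
    rw [← colsP_permOf (rGen_valid hj)]
    have h3 := R0_fix (rGen_mem hj) hc
    rw [mv_xor, h1] at h3
    exact Nat.xor_right_injective h3
  have heq : ∀ {B : Subgroup G}, Nat.card B = 2 ^ 10 → A0 S ≤ B → B = A0 S := fun hB hle =>
    (eq_of_le_of_card_ge hle (by rw [card_A0, hB])).symm
  have hvE : ∀ w < 2048, (vE D w)⁻¹ = vE D w := fun w hw =>
    inv_eq_of_mul_eq_one_right (Frame.V_sq D (Frame.vE_mem D hw))
  by_cases hall : ∀ i < 4, a i ∈ wSpan
  · refine ⟨1, one_mem _, ?_⟩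
    have e : A.map (MulAut.conj (1 : G)).toMonoidHom = A := by ext y; simp
    rw [e]
    refine heq hcard (A0_le_of_gens S hW fun i hi => ?_)
    have h := mul_mem (inv_mem (hW _ (hall i hi))) (hel i hi)
    rwa [TSetup.el, inv_mul_cancel_left] at h
  · push Not at hall
    obtain ⟨i0, hi0, hn0⟩ := hall
    have hnone : ∀ j < 4, a j ^^^ cW.getD j 0 ∈ wSpan := fun j hj =>
      (hcases j hj).resolve_left fun hjW => hmix i0 hi0 j hj hjW hn0
    have hu : uW < 2048 := by decide
    refine ⟨vE D uW, Subgroup.le_normalizer (Frame.vE_mem D hu), ?_⟩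
    refine heq ?_ (A0_le_of_gens S (fun w hw => ?_) fun i hi => ?_)
    · rw [Subgroup.card_map_of_injective (f := (MulAut.conj (vE D uW)).toMonoidHom) (MulAut.conj _).injective, hcard]
    · refine ⟨_, hW w hw, ?_⟩
      rw [MulEquiv.coe_toMonoidHom, MulAut.conj_apply,
        Frame.V_comm D (Frame.vE_mem D hu) (Frame.vE_mem D (wSpan_lt hw)), mul_inv_cancel_right]
    · have hz := uW_ok
      simp only [List.all_eq_true, List.mem_range, List.contains_iff_mem] at hz
      have hw := wSpan_xor (hz i hi) (hnone i hi)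
      refine ⟨_, mul_mem (hW _ hw) (hel i hi), ?_⟩
      set L := mv (colsC (rGen i)) uW with hL
      have hLe : mv (colsP (permOf (rGen i))) uW = L := by rw [colsP_permOf (rGen_valid hi)]
      have hLlt : L < 2048 := hLe ▸ cols_lt S (hM i hi) hu
      have ew : (uW ^^^ L ^^^ cW.getD i 0) ^^^ (a i ^^^ cW.getD i 0) = uW ^^^ L ^^^ a i := by
        rw [Nat.xor_comm (a i), Nat.xor_assoc, ← Nat.xor_assoc (cW.getD i 0), Nat.xor_self, Nat.zero_xor]
      rw [MulEquiv.coe_toMonoidHom, MulAut.conj_apply, hvE _ hu, ← S.el_one_perm uW,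
        ← S.el_one_perm (_ ^^^ _), el_prod S (wSpan_lt hw) (ha i hi) (one_mem _) (hM i hi), one_mul,
        cols_one (setup_good S) (ha i hi),
        el_prod S hu (Nat.xor_lt_two_pow (n := 11) (wSpan_lt hw) (ha i hi)) (one_mem _) (hM i hi), one_mul,
        cols_one (setup_good S) (Nat.xor_lt_two_pow (n := 11) (wSpan_lt hw) (ha i hi)),
        el_prod S (Nat.xor_lt_two_pow (n := 11) hu (Nat.xor_lt_two_pow (n := 11) (wSpan_lt hw) (ha i hi))) hu
          (hM i hi) (one_mem _), mul_one, hLe, ← S.el_zero]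
      congr 1
      rw [ew, Nat.xor_assoc (uW ^^^ L), Nat.xor_self, Nat.xor_zero, ← Nat.xor_assoc uW uW, Nat.xor_self,
        Nat.zero_xor, Nat.xor_self]

/-- **A self-centralising subgroup in the normaliser of `V` is conjugate there to the model.** -/
theorem conj_A0 {A : Subgroup G} (hAN : A ≤ normalizer (D.V : Set G)) (hA : IsElementaryAbelian 2 A)
    (hcard : Nat.card A = 2 ^ 10) (hself : centralizer (A : Set G) = A) :
    ∃ n ∈ normalizer (D.V : Set G), A.map (MulAut.conj n).toMonoidHom = A0 S := by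
  obtain ⟨h1, h2, hmem, hprod⟩ := coords S hAN hA hcard hself
  obtain ⟨σ, hσ, hR, hfix⟩ := rClass (setup_good S) _ h1 h2 hprod
  have hkN := S.kap_N hσ
  set B := A.map (MulAut.conj (S.kap σ)).toMonoidHom with hBdef
  obtain ⟨hB, hBc, -⟩ := conj_props (S.kap σ) hA hself
  have hBN : B ≤ normalizer (D.V : Set G) := by
    rintro _ ⟨a, ha, rfl⟩
    exact mul_mem (mul_mem hkN (hAN ha)) (inv_mem hkN)
  have hW : ∀ w ∈ wSpan, vE D w ∈ B := by
    intro w hw
    have hlt := cols_lt S (inv_mem hσ) (wSpan_lt hw)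
    have e : mv (colsP σ) (mv (colsP σ⁻¹) w) = w := by
      rw [← cols_mul (setup_good S) hσ (inv_mem hσ) (wSpan_lt hw), mul_inv_cancel,
        cols_one (setup_good S) (wSpan_lt hw)]
    refine ⟨vE D (mv (colsP σ⁻¹) w), (hmem _ hlt).2 ((hfix _ hlt).2 (by rw [e, spanW_eq]; exact hw)), ?_⟩
    rw [MulEquiv.coe_toMonoidHom, MulAut.conj_apply, conj_vE S hσ hlt, e]
  have hRB : ∀ τ ∈ R0, ∃ b ∈ B, S.M.perm b = τ := by
    intro τ hτ
    obtain ⟨_, ⟨⟨a, ha⟩, rfl⟩, e⟩ := (hR τ).2 (mem_R0.1 hτ)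
    refine ⟨_, ⟨a, ha, rfl⟩, ?_⟩
    rw [MulEquiv.coe_toMonoidHom, MulAut.conj_apply,
      S.M.perm_mul _ (mul_mem hkN (hAN ha)) _ (inv_mem hkN), S.M.perm_mul _ hkN _ (hAN ha),
      S.perm_inv hkN, (S.kap_spec hσ).2, ← e]
    rfl
  obtain ⟨n, hn, e⟩ := conj_of_image S hBN hB (hBc.trans hcard) hW hRB
  exact ⟨n * S.kap σ, mul_mem hn hkN, by rw [← map_conj_conj]; exact e⟩

include S in
/-- **All self-centralising subgroups of order `2 ^ 10` are conjugate to the model.** -/
theorem conj_model {A : Subgroup G} (hA : IsElementaryAbelian 2 A) (hcard : Nat.card A = 2 ^ 10)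
    (hself : centralizer (A : Set G) = A) : ∃ g : G, A.map (MulAut.conj g).toMonoidHom = A0 S := by
  obtain ⟨g, hg⟩ := exists_conj_le_norm (D := D) A (NV.elem_isPGroup hA)
  obtain ⟨h1, h2, h3⟩ := conj_props g hA hself
  obtain ⟨n, -, e⟩ := conj_A0 S hg h1 (h2.trans hcard) h3
  exact ⟨n * g, by rw [← map_conj_conj]; exact e⟩

end CfsgLib.J4Type.Ten
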