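import Cfsg.Agent.Lib.J4Type.Ten.ModelChecks

/-!
Evaluated facts on the stabiliser of the subgroup of order `2 ^ 10` in the normaliser of `V`: the
action of seven generators on the ten coordinates and their four orbits.
-/

set_option autoImplicit false
set_option maxRecDepth 100000
set_option maxHeartbeats 2000000
set_option Elab.async false

namespace CfsgLib.J4Type.Ten

open Cfsg CfsgLib.Golay CfsgLib.J4Type

/-- The permutation of the element with a given code. -/
def pA (a : ℕ) : ℕ := rBase.getD (a / 64) idCode

/-- The vector of the element with a given code. -/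
def vA (a : ℕ) : ℕ := mv wBase (a % 64)

/-- The vector of a generator. -/
def genU (k : ℕ) : ℕ := (stGens.getD k (0, idCode)).1

/-- The permutation of a generator. -/
def genT (k : ℕ) : ℕ := (stGens.getD k (0, idCode)).2

/-- The action of a generator. -/
def genL (k : ℕ) : List ℕ := stMats.getD k []

theorem vA_facts : ((List.range 64).all fun a => wSpan.contains (vA a) && (Nat.beq a 0 || !Nat.beq (vA a) 0)) = true ∧
    wBase.length = 6 := by decide +kernel

theorem pA_facts : ((List.range 16).all fun i => (List.range 16).all fun j =>
    isProd (rBase.getD i idCode) (rBase.getD j idCode) (rBase.getD (i ^^^ j) idCode) &&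
      (Nat.beq i j || !Nat.beq (rBase.getD i idCode) (rBase.getD j idCode))) = true := by decide +kernel

theorem gen_facts : ((List.range 7).all fun k =>
    let u := genU k
    let t := genT k
    let L := genL k
    let ct := colsC t
    inM24 t && decide (u < 2048) && Nat.beq L.length 10 && L.all (fun x => decide (x < 1024)) &&
      (List.range 10).all fun j =>
        let a := 2 ^ j
        let b := L.getD j 0
        (List.range 24).all (fun i => Nat.beq (img t (img (pA a) i)) (img (pA b) (img t i))) &&
          Nat.beq (vA b) (u ^^^ mv ct (vA a) ^^^ mv (colsC (pA b)) u)) = true := by decide +kernel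

/-- Tree checks for an orbit. -/
def orbTreeB (orb : List (List (ℕ × ℕ × ℕ))) (n : ℕ) : Bool :=
  (List.range (n - 1)).all fun i =>
    let x := at2 (0, 0, 0) 16 orb (i + 1)
    decide (x.2.1 < i + 1) && decide (x.2.2 < 7) &&
      Nat.beq (mv (genL x.2.2) (at2 (0, 0, 0) 16 orb x.2.1).1) x.1

/-- The codes in an orbit. -/
def orbCodes (orb : List (List (ℕ × ℕ × ℕ))) : List ℕ := orb.flatten.map fun x => x.1

theorem orbA_tree : orbTreeB orbA 35 = true := by decide +kernel

theorem orbB_tree : orbTreeB orbB 28 = true := by decide +kernel

theorem orbC_tree : orbTreeB orbC 120 = true := by decide +kernel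

theorem orbD_tree : orbTreeB orbD 840 = true := by decide +kernel

/-- The mask of a list of codes. -/
def maskL : List ℕ → ℕ
  | [] => 0
  | a :: l => Nat.lor (2 ^ a) (maskL l)

theorem orb_shape : ([orbA, orbB, orbC, orbD].all fun o =>
      (List.range o.flatten.length).all fun i =>
        Nat.beq (at2 (0, 0, 0) 16 o i).1 ((orbCodes o).getD i 0)) = true ∧
    orbA.flatten.length = 35 ∧ orbB.flatten.length = 28 ∧ orbC.flatten.length = 120 ∧
    orbD.flatten.length = 840 := by decide +kernel

theorem orb_cover : Nat.beq (maskL (orbCodes orbA ++ orbCodes orbB ++ orbCodes orbC ++ orbCodes orbD))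
      (2 ^ 1024 - 2) = true ∧
    Nat.beq (maskL (orbCodes orbA ++ orbCodes orbC)) zMask = true := by decide +kernel

theorem orb_types : ((orbCodes orbA).all fun a => decide (0 < a) && decide (a < 64) && !NV.inB (vA a)) = true ∧
    ((orbCodes orbB).all fun a => decide (0 < a) && decide (a < 64) && NV.inB (vA a)) = true ∧
    ((orbCodes orbC).all fun a => decide (64 ≤ a) && decide (a < 1024)) = true ∧
    ((orbCodes orbD).all fun a => decide (64 ≤ a) && decide (a < 1024)) = true ∧
    ((orbCodes orbA).all fun a => (orbCodes orbB).any fun b => (orbCodes orbB).contains (a ^^^ b)) = true := by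
  decide +kernel

theorem prime_facts : ((List.range 10).all fun k => !Nat.beq ((1024 - 2 ^ k) % 37) 0 &&
    !Nat.beq ((1024 - 2 ^ k) % 19) 0) = true := by decide +kernel

end CfsgLib.J4Type.Ten
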