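import Cfsg.Agent.Lib.J4Type.Ten.Model
import Cfsg.Agent.Lib.J4Type.Ten.StabChecks

/-!
Coordinates on the subgroup of order `2 ^ 10`, its stabiliser in the normaliser of `V`, and the
four orbits of seven generators of that stabiliser.
-/

set_option autoImplicit false
set_option maxRecDepth 100000

namespace CfsgLib.J4Type.Ten

open Cfsg Subgroup CfsgLib.Golay
open CfsgLib.J4Type.Frame (vE pairV)
open CfsgLib.J4Type.Order (TSetup)

/-! ### Coordinates -/

theorem rBase_getD_mem {i : ℕ} (hi : i < 16) : rBase.getD i idCode ∈ rBase := by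
  rw [List.getD_eq_getElem _ _ (by rw [rBase_facts.1]; exact hi)]
  exact List.getElem_mem _

theorem pA_mem {a : ℕ} (ha : a < 1024) : permOf (pA a) ∈ R0 :=
  mem_R0.2 ⟨_, rBase_getD_mem (by omega), rfl⟩

theorem pA_valid {a : ℕ} (ha : a < 1024) : valid (pA a) = true :=
  (rBase_mem (rBase_getD_mem (by omega))).1

theorem vA_mem (a : ℕ) : vA a ∈ wSpan := by
  have h := List.all_eq_true.1 vA_facts.1 (a % 64) (List.mem_range.2 (Nat.mod_lt _ (by norm_num)))
  simp only [Bool.and_eq_true, List.contains_iff_mem] at h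
  have e : vA (a % 64) = vA a := by rw [vA, vA, Nat.mod_mod]
  exact e ▸ h.1

theorem vA_lt (a : ℕ) : vA a < 2048 := wSpan_lt (vA_mem a)

theorem vA_xor (a b : ℕ) : vA (a ^^^ b) = vA a ^^^ vA b := by
  rw [vA, vA, vA, Nat.xor_mod_two_pow (n := 6), mv_xor]

theorem div_xor (a b : ℕ) : (a ^^^ b) / 64 = a / 64 ^^^ b / 64 := by
  simpa [Nat.shiftRight_eq_div_pow] using Nat.shiftRight_xor_distrib (a := a) (b := b) (i := 6)

theorem pA_xor {a b : ℕ} (ha : a < 1024) (hb : b < 1024) :
    permOf (pA (a ^^^ b)) = permOf (pA a) * permOf (pA b) := by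
  have h := List.all_eq_true.1 (List.all_eq_true.1 pA_facts (a / 64) (List.mem_range.2 (by omega)))
    (b / 64) (List.mem_range.2 (by omega))
  simp only [Bool.and_eq_true] at h
  rw [pA, div_xor]
  exact (isProd_sound (pA_valid ha) (pA_valid hb) h.1).2

theorem pA_zero {a : ℕ} (ha : a < 64) : permOf (pA a) = 1 := by
  rw [pA, show a / 64 = 0 by omega, rBase_gen.2.1, permOf_idCode]

theorem vA_eq_zero {a : ℕ} (ha : a < 64) (h : vA a = 0) : a = 0 := by
  have hc := List.all_eq_true.1 vA_facts.1 a (List.mem_range.2 ha)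
  rw [h, Nat.beq_refl, Bool.not_true, Bool.or_false, Bool.and_eq_true] at hc
  exact Nat.eq_of_beq_eq_true hc.2

variable {G : Type*} [Group G] [Finite G] {z : G} {P : Subgroup G} {F : Frame z P} {D : VData F}

section Setup

variable (S : TSetup D)

/-- The element of the model with a given code. -/
noncomputable def aE (a : ℕ) : G := S.el (vA a) (permOf (pA a))

theorem aE_mem {a : ℕ} (ha : a < 1024) : aE S a ∈ A0 S := ⟨_, vA_mem a, _, pA_mem ha, rfl⟩

theorem aE_low {a : ℕ} (ha : a < 64) : aE S a = vE D (vA a) := by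
  rw [aE, pA_zero ha, S.el_one_perm]

theorem aE_zero : aE S 0 = 1 := by
  rw [aE_low S (by norm_num), show vA 0 = 0 from mv_zero _, Frame.vE_zero]

theorem aE_xor {a b : ℕ} (ha : a < 1024) (hb : b < 1024) :
    aE S a * aE S b = aE S (a ^^^ b) := by
  rw [aE, aE, el_prod S (vA_lt a) (vA_lt b) (R0_le (pA_mem ha)) (R0_le (pA_mem hb)),
    R0_fix (pA_mem ha) (vA_mem b), ← vA_xor, ← pA_xor ha hb]
  rfl

theorem aE_inj {a b : ℕ} (ha : a < 1024) (hb : b < 1024) (h : aE S a = aE S b) : a = b := by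
  have hab : a ^^^ b < 1024 := Nat.xor_lt_two_pow (n := 10) ha hb
  have h0 : aE S (a ^^^ b) = aE S 0 := by
    rw [← aE_xor S ha hb, h, aE_xor S hb hb, Nat.xor_self]
  obtain ⟨e1, e2⟩ := S.el_inj (vA_lt _) (vA_lt 0) (R0_le (pA_mem hab))
    (R0_le (pA_mem (by norm_num))) h0
  have hlow : (a ^^^ b) < 64 := by
    by_contra hge
    have hi : (a ^^^ b) / 64 < 16 := by omega
    have hc := List.all_eq_true.1 (List.all_eq_true.1 pA_facts ((a ^^^ b) / 64)
      (List.mem_range.2 hi)) 0 (List.mem_range.2 (by norm_num))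
    simp only [Bool.and_eq_true, Bool.or_eq_true, Bool.not_eq_true'] at hc
    have hcode : rBase.getD ((a ^^^ b) / 64) idCode = rBase.getD 0 idCode :=
      canon_inj (rBase_mem (rBase_getD_mem hi)).1 (rBase_mem (rBase_getD_mem (by norm_num))).1
        (rBase_mem (rBase_getD_mem hi)).2.2.1
        (rBase_mem (rBase_getD_mem (by norm_num))).2.2.1 e2
    rcases hc.2 with h' | h'
    · have := Nat.eq_of_beq_eq_true h'
      omega
    · rw [hcode, Nat.beq_refl] at h'
      exact Bool.noConfusion h'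
  rw [show vA 0 = 0 from mv_zero _] at e1
  exact Nat.xor_eq_zero_iff.1 (vA_eq_zero hlow e1)

theorem exists_aE {x : G} (hx : x ∈ A0 S) : ∃ a < 1024, aE S a = x := by
  let f : Fin 1024 → A0 S := fun a => ⟨aE S a, aE_mem S a.2⟩
  have hf : Function.Bijective f :=
    (Nat.bijective_iff_injective_and_card f).2
      ⟨fun a b e => Fin.ext (aE_inj S a.2 b.2 (congrArg Subtype.val e)),
        by rw [Nat.card_fin, card_A0]; norm_num⟩
  obtain ⟨a, e⟩ := hf.2 ⟨x, hx⟩
  exact ⟨a, a.2, congrArg Subtype.val e⟩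

theorem aE_sq {a : ℕ} (ha : a < 1024) : aE S a * aE S a = 1 := by
  rw [aE_xor S ha ha, Nat.xor_self, aE_zero]

/-! ### Elements normalising the subgroup -/

/-- An element conjugating the subgroup into itself normalises it. -/
theorem norm_A0_of_conj {n : G} (h : ∀ x ∈ A0 S, n * x * n⁻¹ ∈ A0 S) :
    n ∈ normalizer (A0 S : Set G) := by
  classical
  let f : A0 S → A0 S := fun x => ⟨n * x * n⁻¹, h x x.2⟩
  have hf : Function.Bijective f := Finite.injective_iff_bijective.1 fun a b e =>
    Subtype.ext (mul_left_cancel (mul_right_cancel (congrArg Subtype.val e)))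
  refine mem_normalizer_iff.2 fun x => ⟨h x, fun hx => ?_⟩
  obtain ⟨y, e⟩ := hf.2 ⟨_, hx⟩
  have e' : n * (y : G) * n⁻¹ = n * x * n⁻¹ := congrArg Subtype.val e
  rw [← mul_left_cancel (mul_right_cancel e')]
  exact y.2

/-- Translations by the vectors keeping the lifts normalise the subgroup. -/
theorem vE_norm_A0 {u : ℕ} (hu : u < 2048) (h : uOK u = true) :
    vE D u ∈ normalizer (A0 S : Set G) := by
  refine norm_A0_of_conj S ?_
  rintro _ ⟨w, hw, σ, hσ, rfl⟩
  have hW : u ^^^ mv (colsP σ) u ∈ wSpan := by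
    refine R0_induction (p := fun σ => u ^^^ mv (colsP σ) u ∈ wSpan) ?_ ?_ σ hσ
    · rw [cols_one (setup_good S) hu, Nat.xor_self]
      exact wSpan_zero
    · intro i hi τ hτ ih
      have hi' := List.all_eq_true.1 h i (List.mem_range.2 hi)
      simp only [List.any_eq_true] at hi'
      obtain ⟨x, hx, he⟩ := hi'
      have he' : u ^^^ mv (colsP (permOf (rGen i))) u = x := by
        rw [colsP_permOf (rGen_valid hi)]
        exact Nat.eq_of_beq_eq_true he
      show u ^^^ mv (colsP (permOf (rGen i) * τ)) u ∈ wSpan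
      rw [cols_mul (setup_good S) (R0_le (rGen_mem hi)) (R0_le hτ) hu]
      have e : mv (colsP τ) u = u ^^^ (u ^^^ mv (colsP τ) u) := by
        rw [← Nat.xor_assoc, Nat.xor_self, Nat.zero_xor]
      rw [e, mv_xor, R0_fix (rGen_mem hi) ih, ← Nat.xor_assoc, he']
      exact wSpan_xor hx ih
  rw [← S.el_one_perm u, el_prod S hu (wSpan_lt hw) (one_mem _) (R0_le hσ),
    cols_one (setup_good S) (wSpan_lt hw), one_mul,
    show (S.el u 1)⁻¹ = S.el u 1 from inv_eq_of_mul_eq_one_right (by
      rw [el_prod S hu hu (one_mem _) (one_mem _), cols_one (setup_good S) hu, Nat.xor_self,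
        one_mul, S.el_one_perm, Frame.vE_zero]),
    el_prod S (Nat.xor_lt_two_pow (n := 11) hu (wSpan_lt hw)) hu (R0_le hσ) (one_mem _), mul_one]
  refine ⟨w ^^^ (u ^^^ mv (colsP σ) u), wSpan_xor hw hW, σ, hσ, ?_⟩
  congr 1
  rw [Nat.xor_comm u w, Nat.xor_assoc]

/-- Lifts of permutations keeping the octad normalise the subgroup. -/
theorem kap_norm_A0 {σ : Equiv.Perm GolayPt} (hσ : σ ∈ M24)
    (h : ∀ p ∈ mset octA, σ p ∈ mset octA) : S.kap σ ∈ normalizer (A0 S : Set G) := by
  have hinv : ∀ p ∈ mset octA, σ⁻¹ p ∈ mset octA := by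
    intro p hp
    have himg : (mset octA).image σ = mset octA :=
      Finset.eq_of_subset_of_card_le (fun q hq => by
        obtain ⟨r, hr, rfl⟩ := Finset.mem_image.1 hq
        exact h r hr) (by rw [Finset.card_image_of_injective _ σ.injective])
    obtain ⟨r, hr, e⟩ := Finset.mem_image.1 (himg.symm ▸ hp : p ∈ (mset octA).image σ)
    rw [← e, ← Equiv.Perm.mul_apply, inv_mul_cancel, Equiv.Perm.one_apply]
    exact hr
  have hconj : ∀ π ∈ M24, (∀ p ∈ mset octA, π⁻¹ p ∈ mset octA) → ∀ τ ∈ R0, π * τ * π⁻¹ ∈ R0 := by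
    intro π hπ hπi τ hτ
    rw [R0_eq_octPtw] at hτ ⊢
    obtain ⟨hτM, hτf⟩ := octPtw_fix.1 hτ
    refine octPtw_fix.2 ⟨mul_mem (mul_mem hπ hτM) (inv_mem hπ), fun p hp => ?_⟩
    rw [Equiv.Perm.mul_apply, Equiv.Perm.mul_apply, hτf _ (hπi p hp), ← Equiv.Perm.mul_apply,
      mul_inv_cancel, Equiv.Perm.one_apply]
  refine norm_A0_of_conj S ?_
  rintro _ ⟨w, hw, τ, hτ, rfl⟩
  have hτ' := hconj σ hσ hinv τ hτ
  have hlt := cols_lt S hσ (wSpan_lt hw)
  have hw' : mv (colsP σ) w ∈ wSpan := by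
    refine mem_wSpan_of_fix hlt fun i hi => ?_
    have hg := rGen_mem hi
    have hc : σ⁻¹ * permOf (rGen i) * σ ∈ R0 := by
      have := hconj σ⁻¹ (inv_mem hσ) (fun p hp => by rw [inv_inv]; exact h p hp) _ hg
      rwa [inv_inv] at this
    rw [← cols_mul (setup_good S) (R0_le hg) hσ (wSpan_lt hw),
      show permOf (rGen i) * σ = σ * (σ⁻¹ * permOf (rGen i) * σ) by group,
      cols_mul (setup_good S) hσ (R0_le hc) (wSpan_lt hw), R0_fix hc hw]
  refine ⟨_, hw', _, hτ', ?_⟩
  rw [← S.el_zero, el_prod S (by norm_num) (wSpan_lt hw) hσ (R0_le hτ), Nat.zero_xor, S.el_zero,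
    ← S.kap_inv hσ, ← S.el_zero, el_prod S hlt (by norm_num) (mul_mem hσ (R0_le hτ)) (inv_mem hσ),
    mv_zero, Nat.xor_zero]

/-! ### The generators and their orbits -/

theorem gen_spec {k : ℕ} (hk : k < 7) :
    valid (genT k) = true ∧ permOf (genT k) ∈ M24 ∧ genU k < 2048 ∧
      (∀ a, mv (genL k) a < 1024) ∧
      ∀ a < 1024, S.el (genU k) (permOf (genT k)) * aE S a =
        aE S (mv (genL k) a) * S.el (genU k) (permOf (genT k)) := by
  have h := List.all_eq_true.1 gen_facts k (List.mem_range.2 hk)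
  simp only [Bool.and_eq_true, List.all_eq_true, List.mem_range, decide_eq_true_eq] at h
  obtain ⟨⟨⟨⟨hm, hu⟩, hlen⟩, hL⟩, hb⟩ := h
  have hv := inM24_valid hm
  have ht := inM24_mem hm
  have hlt : ∀ a, mv (genL k) a < 1024 := fun a => by
    have hgen : ∀ (l : List ℕ) (v : ℕ), (∀ x ∈ l, x < 2 ^ 10) → mv l v < 2 ^ 10 := by
      intro l
      induction l with
      | nil => exact fun _ _ => Nat.two_pow_pos 10
      | cons x l ih =>
        intro v hl
        have h1 := ih (v / 2) fun y hy => hl y (List.mem_cons_of_mem _ hy)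
        show (bif Nat.beq (v % 2) 1 then x ^^^ mv l (v / 2) else mv l (v / 2)) < 2 ^ 10
        cases Nat.beq (v % 2) 1
        · exact h1
        · exact Nat.xor_lt_two_pow (hl x List.mem_cons_self) h1
    exact hgen _ a hL
  refine ⟨hv, ht, hu, hlt, ?_⟩
  set n := S.el (genU k) (permOf (genT k))
  have hbase : ∀ j < 10, n * aE S (2 ^ j) = aE S (mv (genL k) (2 ^ j)) * n := by
    intro j hj
    obtain ⟨hp, hvv⟩ := hb j hj
    have hj' : (2 : ℕ) ^ j < 1024 := lt_of_lt_of_le (Nat.pow_lt_pow_right one_lt_two hj) (by norm_num)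
    rw [mv_two_pow _ _ (by rw [Nat.eq_of_beq_eq_true hlen]; exact hj)]
    set b := (genL k).getD j 0
    have hb' : b < 1024 := by
      have := hlt (2 ^ j)
      rwa [mv_two_pow _ _ (by rw [Nat.eq_of_beq_eq_true hlen]; exact hj)] at this
    have he : permOf (genT k) * permOf (pA (2 ^ j)) = permOf (pA b) * permOf (genT k) := by
      refine Equiv.ext fun p => ?_
      have hq := Nat.eq_of_beq_eq_true (hp (idx p) (idx_lt p))
      rw [Equiv.Perm.mul_apply, Equiv.Perm.mul_apply, permOf_apply (pA_valid hj'),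
        permOf_pt hv (valid_lt (pA_valid hj') (idx_lt p)), permOf_apply hv,
        permOf_pt (pA_valid hb') (valid_lt hv (idx_lt p)), hq]
    show S.el (genU k) (permOf (genT k)) * aE S (2 ^ j) = aE S b * S.el (genU k) (permOf (genT k))
    rw [aE, aE, el_prod S hu (vA_lt _) ht (R0_le (pA_mem hj')),
      el_prod S (vA_lt b) hu (R0_le (pA_mem hb')) ht, he, colsP_permOf hv,
      colsP_permOf (pA_valid hb'), Nat.eq_of_beq_eq_true hvv]
    congr 1
    rw [Nat.xor_assoc, Nat.xor_self, Nat.xor_zero]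
  intro a ha
  have main : ∀ i ≤ 10, ∀ a < 2 ^ i, n * aE S a = aE S (mv (genL k) a) * n := by
    intro i
    induction i with
    | zero =>
      intro _ a ha'
      rw [show a = 0 by simpa using ha', mv_zero, aE_zero, mul_one, one_mul]
    | succ i ih =>
      intro hi a ha'
      by_cases hai : a < 2 ^ i
      · exact ih (by omega) a hai
      have hw : a ^^^ 2 ^ i < 2 ^ i := by
        refine Nat.lt_pow_two_of_testBit _ fun l hl => ?_
        rcases eq_or_lt_of_le hl with e | e
        · subst e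
          obtain ⟨r, hr⟩ : ∃ r, a = 2 ^ i + r := ⟨a - 2 ^ i, by omega⟩
          have : a.testBit i = true := by
            rw [hr, Nat.testBit_two_pow_add_eq,
              Nat.testBit_lt_two_pow (by rw [pow_succ] at ha'; omega)]
            rfl
          rw [Nat.testBit_xor, this, Nat.testBit_two_pow_self]; rfl
        · rw [Nat.testBit_xor, Nat.testBit_lt_two_pow (lt_of_lt_of_le ha'
            (Nat.pow_le_pow_right (by norm_num) e)), Nat.testBit_two_pow_of_ne (by omega)]; rfl
      have h2 : (2 : ℕ) ^ i < 1024 := lt_of_lt_of_le (Nat.pow_lt_pow_right one_lt_two (Nat.lt_of_succ_le hi)) (by norm_num)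
      have hw' : a ^^^ 2 ^ i < 1024 := lt_trans hw h2
      have e : a = (a ^^^ 2 ^ i) ^^^ 2 ^ i := by rw [Nat.xor_assoc, Nat.xor_self, Nat.xor_zero]
      rw [e, mv_xor, ← aE_xor S hw' h2, ← aE_xor S (hlt _) (hlt _), ← mul_assoc,
        ih (by omega) _ hw, mul_assoc, hbase i (by omega), ← mul_assoc]
  exact main 10 le_rfl a (by simpa using ha)

/-- The stabiliser of the subgroup in the normaliser of `V`. -/
def stabV : Subgroup G := normalizer (A0 S : Set G) ⊓ normalizer (D.V : Set G)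

theorem gen_mem {k : ℕ} (hk : k < 7) : S.el (genU k) (permOf (genT k)) ∈ stabV S := by
  obtain ⟨hv, ht, hu, hlt, hconj⟩ := gen_spec S hk
  refine ⟨norm_A0_of_conj S fun x hx => ?_, S.el_N hu ht⟩
  obtain ⟨a, ha, rfl⟩ := exists_aE S hx
  rw [hconj a ha, mul_inv_cancel_right]
  exact aE_mem S (hlt a)

theorem at2_mem {α : Type} {d : α} {w : ℕ} {L : List (List α)} {i : ℕ}
    (h : i / w < L.length) (h' : i % w < (L.getD (i / w) []).length) :
    at2 d w L i ∈ L.flatten := by
  show (L.getD (i / w) []).getD (i % w) d ∈ L.flatten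
  rw [List.getD_eq_getElem _ _ h']
  exact List.mem_flatten.2 ⟨_, by rw [List.getD_eq_getElem _ _ h]; exact List.getElem_mem h,
    List.getElem_mem h'⟩

/-- Every code of an orbit is reached from its root by the stabiliser. -/
theorem orb_conj {o : List (List (ℕ × ℕ × ℕ))} {m : ℕ} (hmem : o ∈ [orbA, orbB, orbC, orbD])
    (hlen : o.flatten.length = m) (htree : orbTreeB o m = true)
    (hlt : ∀ a ∈ orbCodes o, a < 1024) {a : ℕ} (ha : a ∈ orbCodes o) :
    ∃ n ∈ stabV S, n * aE S ((orbCodes o).getD 0 0) * n⁻¹ = aE S a := by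
  have hget : ∀ i < m, (at2 (0, 0, 0) 16 o i).1 = (orbCodes o).getD i 0 := fun i hi => by
    have h := List.all_eq_true.1 (List.all_eq_true.1 orb_shape.1 o hmem) i
      (List.mem_range.2 (hlen ▸ hi))
    exact Nat.eq_of_beq_eq_true h
  have hcl : (orbCodes o).length = m := by rw [orbCodes, List.length_map, hlen]
  have hin : ∀ i < m, (orbCodes o).getD i 0 ∈ orbCodes o := fun i hi => by
    rw [List.getD_eq_getElem _ _ (hcl.symm ▸ hi)]
    exact List.getElem_mem _
  have key : ∀ i, i < m → ∃ n ∈ stabV S,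
      n * aE S ((orbCodes o).getD 0 0) * n⁻¹ = aE S ((orbCodes o).getD i 0) := by
    intro i
    induction i using Nat.strong_induction_on with
    | _ i ih =>
      intro hi
      by_cases h0 : i = 0
      · exact ⟨1, one_mem _, by rw [h0, one_mul, inv_one, mul_one]⟩
      have h := List.all_eq_true.1 htree (i - 1) (List.mem_range.2 (by omega))
      simp only [show i - 1 + 1 = i by omega, Bool.and_eq_true, decide_eq_true_eq] at h
      obtain ⟨⟨hp, hg⟩, he⟩ := h
      obtain ⟨n, hn, hne⟩ := ih _ hp (by omega)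
      obtain ⟨-, -, -, -, hconj⟩ := gen_spec S hg
      refine ⟨_ * n, mul_mem (gen_mem S hg) hn, ?_⟩
      rw [← hget i hi, ← Nat.eq_of_beq_eq_true he, hget _ (by omega)]
      calc S.el (genU (at2 (0, 0, 0) 16 o i).2.2) (permOf (genT (at2 (0, 0, 0) 16 o i).2.2)) * n *
            aE S ((orbCodes o).getD 0 0) *
            (S.el (genU (at2 (0, 0, 0) 16 o i).2.2) (permOf (genT (at2 (0, 0, 0) 16 o i).2.2)) * n)⁻¹
          = S.el (genU (at2 (0, 0, 0) 16 o i).2.2) (permOf (genT (at2 (0, 0, 0) 16 o i).2.2)) *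
            (n * aE S ((orbCodes o).getD 0 0) * n⁻¹) *
            (S.el (genU (at2 (0, 0, 0) 16 o i).2.2) (permOf (genT (at2 (0, 0, 0) 16 o i).2.2)))⁻¹ := by
              group
        _ = _ := by
          rw [hne, hconj _ (hlt _ (hin _ (by omega))), mul_inv_cancel_right]
  obtain ⟨i, hi, rfl⟩ := List.getElem_of_mem ha
  have := key i (hcl ▸ hi)
  rwa [List.getD_eq_getElem (orbCodes o) 0 hi] at this

theorem stabV_card : 1024 * 322560 ≤ Nat.card (stabV S) := by
  classical
  let U : Finset ℕ := (Finset.range 2048).filter fun u => uOK u = true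
  have hU : U.card = 1024 := by
    have e : U = ((List.range 2048).filter uOK).toFinset := by
      ext u
      simp [U]
    rw [e, List.toFinset_card_of_nodup (List.nodup_range.filter _), uOK_count]
  have hmem : ∀ (u : {u // u ∈ U}) (σ : octStab (mset octA)),
      S.el (u : ℕ) (σ : Equiv.Perm GolayPt) ∈ stabV S := by
    intro u σ
    obtain ⟨hu, hok⟩ := Finset.mem_filter.1 u.2
    have hu' := Finset.mem_range.1 hu
    exact ⟨mul_mem (vE_norm_A0 S hu' hok)
      (kap_norm_A0 S σ.2.1 fun p hp => (octStab_mem_iff σ.2 p).2 hp), S.el_N hu' σ.2.1⟩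
  let f : {u // u ∈ U} × octStab (mset octA) → stabV S := fun x => ⟨_, hmem x.1 x.2⟩
  have hf : Function.Injective f := by
    rintro ⟨u, σ⟩ ⟨v, τ⟩ e
    obtain ⟨e1, e2⟩ := S.el_inj (Finset.mem_range.1 (Finset.mem_filter.1 u.2).1)
      (Finset.mem_range.1 (Finset.mem_filter.1 v.2).1) σ.2.1 τ.2.1 (congrArg Subtype.val e)
    exact Prod.ext (Subtype.ext e1) (Subtype.ext e2)
  have := Nat.card_le_card_of_injective f hf
  rwa [Nat.card_prod, card_octStab octA_octad, Nat.card_eq_finsetCard, hU] at this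

end Setup

end CfsgLib.J4Type.Ten
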