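import Cfsg.Agent.Lib.J4Type.Ten.Conj
import Cfsg.Agent.Lib.J4Type.Ten.Stab
import Cfsg.Agent.Lib.J4Type.NV.Involutions

/-!
The two orbits of the normaliser of the subgroup of order `2 ^ 10` on its non-identity elements, of
lengths 155 and 868, and irreducibility.
-/

set_option autoImplicit false
set_option maxRecDepth 100000
set_option linter.style.haveILetI false

namespace CfsgLib.J4Type.Ten

open Cfsg Subgroup CfsgLib.Golay
open CfsgLib.J4Type.Frame (vE pairV)
open CfsgLib.J4Type.Order (TSetup)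

/-! ### The lists -/

theorem testBit_maskL {a : ℕ} : ∀ {l : List ℕ}, (maskL l).testBit a = true ↔ a ∈ l
  | [] => by simp [maskL]
  | b :: l => by
    show (2 ^ b ||| maskL l).testBit a = true ↔ _
    rw [Nat.testBit_or, Bool.or_eq_true, testBit_maskL (l := l), Nat.testBit_two_pow,
      decide_eq_true_eq, List.mem_cons, eq_comm]

theorem zMask_iff {a : ℕ} :
    zMask.testBit a = true ↔ a ∈ orbCodes orbA ∨ a ∈ orbCodes orbC := by
  rw [← Nat.eq_of_beq_eq_true orb_cover.2, testBit_maskL, List.mem_append]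

theorem code_cases {a : ℕ} (ha : a < 1024) (h0 : a ≠ 0) :
    a ∈ orbCodes orbA ∨ a ∈ orbCodes orbB ∨ a ∈ orbCodes orbC ∨ a ∈ orbCodes orbD := by
  have h : (2 ^ 1024 - 2).testBit a = true := by
    rw [show (2 ^ 1024 - 2 : ℕ) = 2 ^ 1024 - (1 + 1) by norm_num,
      Nat.testBit_two_pow_sub_succ (show (1 : ℕ) < 2 ^ 1024 from Nat.one_lt_two_pow (by norm_num)),
      decide_eq_true ha, Nat.testBit_one_eq_true_iff_self_eq_zero.not.2 h0 |> Bool.eq_false_iff.2]
    rfl
  rw [← Nat.eq_of_beq_eq_true orb_cover.1, testBit_maskL] at h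
  simpa [List.mem_append, or_assoc] using h

theorem orb_mem_facts :
    (∀ a ∈ orbCodes orbA, 0 < a ∧ a < 64 ∧ NV.inB (vA a) = false) ∧
    (∀ a ∈ orbCodes orbB, 0 < a ∧ a < 64 ∧ NV.inB (vA a) = true) ∧
    (∀ a ∈ orbCodes orbC, 64 ≤ a ∧ a < 1024) ∧ (∀ a ∈ orbCodes orbD, 64 ≤ a ∧ a < 1024) ∧
    ∀ a ∈ orbCodes orbA, ∃ b ∈ orbCodes orbB, a ^^^ b ∈ orbCodes orbB := by
  obtain ⟨h1, h2, h3, h4, h5⟩ := orb_types
  simp only [List.all_eq_true, Bool.and_eq_true, decide_eq_true_eq, Bool.not_eq_true', and_assoc,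
    List.any_eq_true, List.contains_iff_mem] at h1 h2 h3 h4 h5
  exact ⟨h1, h2, h3, h4, h5⟩

variable {G : Type*} [Group G] [Finite G] {z : G} {P : Subgroup G} {F : Frame z P} {D : VData F}

/-! ### Conjugation into the fixed space -/

/-- A two-subgroup of the centraliser of `z` is conjugate there into the normaliser of `V`. -/
theorem exists_cen_conj_le_norm (A : Subgroup G) (hA : IsPGroup 2 A) (hAC : A ≤ Cen z) :
    ∃ c ∈ Cen z, A.map (MulAut.conj c).toMonoidHom ≤ normalizer (D.V : Set G) := by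
  have : Fact (Nat.Prime 2) := ⟨Nat.prime_two⟩
  have hV : IsPGroup 2 D.V := IsPGroup.of_card (n := 11) D.card
  obtain ⟨T, hT⟩ := (hV.of_injective (subgroupOfEquivOfLe D.le_cen).toMonoidHom
    (subgroupOfEquivOfLe D.le_cen).injective).exists_le_sylow
  obtain ⟨T1, hT1⟩ := (hA.of_injective (subgroupOfEquivOfLe hAC).toMonoidHom
    (subgroupOfEquivOfLe hAC).injective).exists_le_sylow
  obtain ⟨c, hc⟩ := MulAction.exists_smul_eq (Cen z) T1 T
  obtain ⟨S, hS⟩ := ((T.isPGroup'.map (Cen z).subtype)).exists_le_sylow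
  refine ⟨c, c.2, ?_⟩
  rintro _ ⟨a, ha, rfl⟩
  set t := (MulAut.conj (c : G)).toMonoidHom a
  have ht : t ∈ (T : Subgroup (Cen z)).map (Cen z).subtype := by
    refine ⟨c * ⟨a, hAC ha⟩ * c⁻¹, ?_, rfl⟩
    rw [← hc, Sylow.coe_subgroup_smul]
    exact ⟨⟨a, hAC ha⟩, hT1 ha, rfl⟩
  have hVT : D.V ≤ (T : Subgroup (Cen z)).map (Cen z).subtype := fun v hv =>
    ⟨⟨v, D.le_cen hv⟩, hT hv, rfl⟩
  refine NV.mem_normalizer_of_map ?_
  refine D.unique S _ _ ?_ (hVT.trans hS) ⟨⟨⟨fun a b => ?_⟩⟩, ?_⟩ ?_ D.elem D.card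
  · rintro _ ⟨v, hv, rfl⟩
    exact mul_mem (mul_mem (hS ht) (hS (hVT hv))) (inv_mem (hS ht))
  · obtain ⟨_, x, hx, rfl⟩ := a
    obtain ⟨_, y, hy, rfl⟩ := b
    exact Subtype.ext (by
      show MulAut.conj t x * MulAut.conj t y = MulAut.conj t y * MulAut.conj t x
      rw [← map_mul, ← map_mul, NV.elem_comm D.elem hx hy])
  · rintro _ ⟨x, hx, rfl⟩
    rw [← map_pow, D.elem.2 x hx, map_one]
  · rw [Subgroup.card_map_of_injective (f := (MulAut.conj t).toMonoidHom) (MulAut.conj t).injective,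
      D.card]

variable (S : TSetup D)

/-- The members of the model lying in `V` have the small codes. -/
theorem exists_low {v : G} (hV : v ∈ D.V) (hA : v ∈ A0 S) : ∃ b < 64, aE S b = v := by
  obtain ⟨a, ha, rfl⟩ := exists_aE S hA
  have hσ : permOf (pA a) = 1 := by
    rw [← S.perm_el (vA_lt a) (R0_le (pA_mem ha))]
    exact (S.M.perm_eq_one _ (le_normalizer hV)).2 hV
  refine ⟨a % 64, Nat.mod_lt _ (by norm_num), ?_⟩
  rw [aE_low S (Nat.mod_lt _ (by norm_num)), show vA (a % 64) = vA a by rw [vA, vA, Nat.mod_mod],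
    aE, hσ, S.el_one_perm]

theorem isConj_low {a : ℕ} (ha : a < 64) (h0 : a ≠ 0) :
    IsConj z (aE S a) ↔ NV.inB (vA a) = false := by
  classical
  obtain ⟨-, hc⟩ := Frame.exists_cover D S.hf
  have h := hc (vA a) (vA_lt a) fun e => h0 (vA_eq_zero ha e)
  rw [Frame.isZ] at h
  rw [aE_low S ha]
  cases hb : NV.inB (vA a) <;> rw [hb] at h <;> simpa using h

theorem isConj_conj {n : G} {a b : ℕ} (h : n * aE S a * n⁻¹ = aE S b) :
    IsConj z (aE S a) ↔ IsConj z (aE S b) := by
  have e : IsConj (aE S a) (aE S b) := isConj_iff.2 ⟨n, h⟩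
  exact ⟨fun h' => h'.trans e, fun h' => h'.trans e.symm⟩

/-- Moving back to the model keeps a chosen element of `V` in the fixed space. -/
theorem norm_to_low {g : G} {x : G} (hx : x ∈ A0 S) (hgx : g * x * g⁻¹ ∈ D.V)
    (hN : (A0 S).map (MulAut.conj g).toMonoidHom ≤ normalizer (D.V : Set G)) :
    ∃ h ∈ normalizer (A0 S : Set G), ∃ b < 64, h * x * h⁻¹ = aE S b := by
  obtain ⟨h1, h2, h3⟩ := conj_props g (A0_elem S) (A0_self S)
  obtain ⟨n, hn, e⟩ := conj_A0 S hN h1 (h2.trans (card_A0 S)) h3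
  rw [map_conj_conj] at e
  refine ⟨n * g, NV.mem_normalizer_of_map e, ?_⟩
  have hA : n * g * x * (n * g)⁻¹ ∈ A0 S :=
    e.le ⟨x, hx, rfl⟩
  have hV : n * g * x * (n * g)⁻¹ ∈ D.V := by
    rw [show n * g * x * (n * g)⁻¹ = n * (g * x * g⁻¹) * n⁻¹ by group]
    exact (mem_normalizer_iff.1 hn _).1 hgx
  obtain ⟨b, hb, e'⟩ := exists_low S hV hA
  exact ⟨b, hb, e'.symm⟩

/-- Every element conjugate to `z` goes to the orbit of length 35. -/
theorem z_to_low {a : ℕ} (ha : a < 1024) (hz : IsConj z (aE S a)) :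
    ∃ h ∈ normalizer (A0 S : Set G), ∃ b ∈ orbCodes orbA, h * aE S a * h⁻¹ = aE S b := by
  obtain ⟨g, hg⟩ := isConj_iff.1 hz.symm
  obtain ⟨h1, -, -⟩ := conj_props g (A0_elem S) (A0_self S)
  have hC : (A0 S).map (MulAut.conj g).toMonoidHom ≤ Cen z := by
    intro y hy
    rw [mem_centralizer_singleton_iff]
    exact NV.elem_comm h1 hy ⟨_, aE_mem S ha, hg⟩
  obtain ⟨c, hc, hN⟩ := exists_cen_conj_le_norm (D := D) _ (NV.elem_isPGroup h1) hC
  rw [map_conj_conj] at hN
  have e : c * g * aE S a * (c * g)⁻¹ = z := by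
    rw [show c * g * aE S a * (c * g)⁻¹ = c * (g * aE S a * g⁻¹) * c⁻¹ by group, hg,
      mem_centralizer_singleton_iff.1 hc, mul_inv_cancel_right]
  obtain ⟨h, hh, b, hb, e'⟩ := norm_to_low S (aE_mem S ha) (e.symm ▸ D.z_mem) hN
  have hzb := (isConj_conj S e').1 hz
  have hb0 : b ≠ 0 := by
    rintro rfl
    rw [aE_zero] at hzb
    exact F.z_ne (isConj_one_left.1 hzb)
  refine ⟨h, hh, b, ?_, e'⟩
  obtain ⟨hA, hB, hC', hD', -⟩ := orb_mem_facts
  rcases code_cases (by omega) hb0 with m | m | m | m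
  · exact m
  · have := (isConj_low S hb hb0).1 hzb
    rw [(hB b m).2.2] at this
    exact Bool.noConfusion this
  · exact absurd (hC' b m).1 (by omega)
  · exact absurd (hD' b m).1 (by omega)

/-- Every involution of the model not conjugate to `z` goes to the orbit of length 28. -/
theorem pair_to_low [IsSimpleGroup G] {a : ℕ} (ha : a < 1024) (h0 : a ≠ 0)
    (hz : ¬ IsConj z (aE S a)) :
    ∃ h ∈ normalizer (A0 S : Set G), ∃ b ∈ orbCodes orbB, h * aE S a * h⁻¹ = aE S b := by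
  have : Fact (Nat.Prime 2) := ⟨Nat.prime_two⟩
  have ho : orderOf (aE S a) = 2 := orderOf_eq_prime (by rw [pow_two, aE_sq S ha]) fun e =>
    h0 (aE_inj S ha (by norm_num) (e.trans (aE_zero S).symm))
  obtain ⟨g, hg⟩ := Frame.conj_into_pairV D S.hf S.hKN
    (eq_bot_iff.2 fun k hk => mem_bot.2 (S.hKV k hk.1 hk.2)) S.hKsup ho hz
  obtain ⟨h1, -, -⟩ := conj_props g (A0_elem S) (A0_self S)
  have hN : (A0 S).map (MulAut.conj g).toMonoidHom ≤ normalizer (D.V : Set G) := fun y hy =>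
    Frame.centralizer_pairV_le D S.hf hg (mem_centralizer_singleton_iff.2
      (NV.elem_comm h1 hy ⟨_, aE_mem S ha, rfl⟩))
  obtain ⟨h, hh, b, hb, e⟩ := norm_to_low S (aE_mem S ha) hg.1 hN
  have hzb : ¬ IsConj z (aE S b) := fun h' => hz ((isConj_conj S e).2 h')
  have hb0 : b ≠ 0 := by
    rintro rfl
    rw [aE_zero] at e
    exact h0 (aE_inj S ha (by norm_num) ((conj_eq_one_iff.1 e).trans (aE_zero S).symm))
  refine ⟨h, hh, b, ?_, e⟩
  obtain ⟨hA, hB, hC', hD', -⟩ := orb_mem_facts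
  rcases code_cases (by omega) hb0 with m | m | m | m
  · exact absurd ((isConj_low S hb hb0).2 (hA b m).2.2) hzb
  · exact m
  · exact absurd (hC' b m).1 (by omega)
  · exact absurd (hD' b m).1 (by omega)

/-- Two codes in one of the four lists are conjugate under the stabiliser. -/
theorem same_orb {o : List (List (ℕ × ℕ × ℕ))} {m : ℕ} (hmem : o ∈ [orbA, orbB, orbC, orbD])
    (hlen : o.flatten.length = m) (htree : orbTreeB o m = true)
    (hlt : ∀ a ∈ orbCodes o, a < 1024) {a b : ℕ} (ha : a ∈ orbCodes o) (hb : b ∈ orbCodes o) :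
    ∃ n ∈ normalizer (A0 S : Set G), n * aE S a * n⁻¹ = aE S b := by
  obtain ⟨n, hn, e⟩ := orb_conj S hmem hlen htree hlt ha
  obtain ⟨m', hm, e'⟩ := orb_conj S hmem hlen htree hlt hb
  refine ⟨m' * n⁻¹, mul_mem hm.1 (inv_mem hn.1), ?_⟩
  rw [← e, ← e']
  group

theorem lt_A : ∀ a ∈ orbCodes orbA, a < 1024 := fun a h =>
  lt_trans (orb_mem_facts.1 a h).2.1 (by norm_num)

theorem lt_B : ∀ a ∈ orbCodes orbB, a < 1024 := fun a h =>
  lt_trans (orb_mem_facts.2.1 a h).2.1 (by norm_num)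

theorem lt_C : ∀ a ∈ orbCodes orbC, a < 1024 := fun a h => (orb_mem_facts.2.2.1 a h).2

theorem lt_D : ∀ a ∈ orbCodes orbD, a < 1024 := fun a h => (orb_mem_facts.2.2.2.1 a h).2

theorem orbA_conj {a b : ℕ} (ha : a ∈ orbCodes orbA) (hb : b ∈ orbCodes orbA) :
    ∃ n ∈ normalizer (A0 S : Set G), n * aE S a * n⁻¹ = aE S b :=
  same_orb S (by simp) orb_shape.2.1 orbA_tree lt_A ha hb

theorem orbB_conj {a b : ℕ} (ha : a ∈ orbCodes orbB) (hb : b ∈ orbCodes orbB) :
    ∃ n ∈ normalizer (A0 S : Set G), n * aE S a * n⁻¹ = aE S b :=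
  same_orb S (by simp) orb_shape.2.2.1 orbB_tree lt_B ha hb

theorem orbC_type {a b : ℕ} (ha : a ∈ orbCodes orbC) (hb : b ∈ orbCodes orbC) :
    IsConj z (aE S a) ↔ IsConj z (aE S b) := by
  obtain ⟨n, -, e⟩ := same_orb S (by simp) orb_shape.2.2.2.1 orbC_tree lt_C ha hb
  exact isConj_conj S e

theorem orbD_type {a b : ℕ} (ha : a ∈ orbCodes orbD) (hb : b ∈ orbCodes orbD) :
    IsConj z (aE S a) ↔ IsConj z (aE S b) := by
  obtain ⟨n, -, e⟩ := same_orb S (by simp) orb_shape.2.2.2.2 orbD_tree lt_D ha hb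
  exact isConj_conj S e

/-- All members not conjugate to `z` form one orbit. -/
theorem pair_trans [IsSimpleGroup G] {a b : ℕ} (ha : a < 1024) (hb : b < 1024) (ha0 : a ≠ 0)
    (hb0 : b ≠ 0) (haz : ¬ IsConj z (aE S a)) (hbz : ¬ IsConj z (aE S b)) :
    ∃ n ∈ normalizer (A0 S : Set G), n * aE S a * n⁻¹ = aE S b := by
  obtain ⟨h, hh, c, hc, e⟩ := pair_to_low S ha ha0 haz
  obtain ⟨h', hh', c', hc', e'⟩ := pair_to_low S hb hb0 hbz
  obtain ⟨k, hk, ek⟩ := orbB_conj S hc hc'
  refine ⟨h'⁻¹ * k * h, mul_mem (mul_mem (inv_mem hh') hk) hh, ?_⟩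
  rw [show h'⁻¹ * k * h * aE S a * (h'⁻¹ * k * h)⁻¹ = h'⁻¹ * (k * (h * aE S a * h⁻¹) * k⁻¹) * h'
    by group, e, ek, ← e']
  group

/-- All members conjugate to `z` form one orbit. -/
theorem z_trans {a b : ℕ} (ha : a < 1024) (hb : b < 1024) (haz : IsConj z (aE S a))
    (hbz : IsConj z (aE S b)) :
    ∃ n ∈ normalizer (A0 S : Set G), n * aE S a * n⁻¹ = aE S b := by
  obtain ⟨h, hh, c, hc, e⟩ := z_to_low S ha haz
  obtain ⟨h', hh', c', hc', e'⟩ := z_to_low S hb hbz
  obtain ⟨k, hk, ek⟩ := orbA_conj S hc hc'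
  refine ⟨h'⁻¹ * k * h, mul_mem (mul_mem (inv_mem hh') hk) hh, ?_⟩
  rw [show h'⁻¹ * k * h * aE S a * (h'⁻¹ * k * h)⁻¹ = h'⁻¹ * (k * (h * aE S a * h⁻¹) * k⁻¹) * h'
    by group, e, ek, ← e']
  group

/-! ### Counting -/

/-- The orbit of an element under the normaliser. -/
def orbN (x : G) : Set G := {v | ∃ n ∈ normalizer (A0 S : Set G), n * x * n⁻¹ = v}

/-- The length of an orbit divides the order of the normaliser. -/
theorem orbN_dvd (x : G) :
    (orbN S x).ncard ∣ Nat.card ↥(normalizer (A0 S : Set G)) := by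
  letI : MulAction ↥(normalizer (A0 S : Set G)) G := MulAction.compHom G
    (ConjAct.toConjAct.toMonoidHom.comp (normalizer (A0 S : Set G)).subtype)
  have hsm : ∀ (n : ↥(normalizer (A0 S : Set G))) (y : G), n • y = (n : G) * y * (n : G)⁻¹ :=
    fun n y => ConjAct.toConjAct_smul (n : G) y
  have e : MulAction.orbit ↥(normalizer (A0 S : Set G)) x = orbN S x := by
    ext v
    constructor
    · rintro ⟨n, rfl⟩
      exact ⟨n, n.2, (hsm n x).symm⟩
    · rintro ⟨n, hn, rfl⟩
      exact ⟨⟨n, hn⟩, hsm ⟨n, hn⟩ x⟩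
  rw [← e, ← MulAction.index_stabilizer]
  exact index_dvd_card _

open Classical in
/-- The codes of the members of a given type. -/
noncomputable def typeSet (t : Prop) : Finset ℕ :=
  (Finset.range 1024).filter fun a => a ≠ 0 ∧ (IsConj z (aE S a) ↔ t)

theorem mem_typeSet {t : Prop} {a : ℕ} :
    a ∈ typeSet S t ↔ a < 1024 ∧ a ≠ 0 ∧ (IsConj z (aE S a) ↔ t) := by
  classical
  simp [typeSet]

/-- The orbit of a member is the set of all members of its type. -/
theorem orbN_eq [IsSimpleGroup G] {r : ℕ} (hr : r < 1024) (hr0 : r ≠ 0) :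
    orbN S (aE S r) = aE S '' (typeSet S (IsConj z (aE S r)) : Set ℕ) := by
  ext v
  constructor
  · rintro ⟨n, hn, rfl⟩
    obtain ⟨b, hb, e⟩ := exists_aE S ((mem_normalizer_iff.1 hn _).1 (aE_mem S hr))
    refine ⟨b, (mem_typeSet S).2 ⟨hb, fun h => ?_, (isConj_conj S e.symm).symm⟩, e⟩
    rw [h, aE_zero] at e
    exact hr0 (aE_inj S hr (by norm_num) ((conj_eq_one_iff.1 e.symm).trans (aE_zero S).symm))
  · rintro ⟨b, hb, rfl⟩
    obtain ⟨hb', hb0, hty⟩ := (mem_typeSet S).1 hb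
    by_cases hz : IsConj z (aE S r)
    · exact z_trans S hr hb' hz (hty.2 hz)
    · exact pair_trans S hr hb' hr0 hb0 hz fun h => hz (hty.1 h)

theorem ncard_orbN [IsSimpleGroup G] {r : ℕ} (hr : r < 1024) (hr0 : r ≠ 0) :
    (orbN S (aE S r)).ncard = (typeSet S (IsConj z (aE S r))).card := by
  rw [orbN_eq S hr hr0, Set.InjOn.ncard_image, Set.ncard_coe_finset]
  exact fun a ha b hb h => aE_inj S ((mem_typeSet S).1 ha).1 ((mem_typeSet S).1 hb).1 h

/-- A prime `p` with `2 ^ k` incongruent to `2 ^ 10` for all `k < 10` does not divide the order of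
the normaliser. -/
theorem not_prime_dvd {p : ℕ} [Fact p.Prime] (hp : p ≠ 2)
    (hk : ∀ k < 10, ¬ p ∣ 1024 - 2 ^ k) :
    ¬ p ∣ Nat.card ↥(normalizer (A0 S : Set G)) := by
  classical
  intro hdvd
  obtain ⟨g, hg⟩ := exists_prime_orderOf_dvd_card' p hdvd
  let H : Subgroup G := zpowers (g : G)
  have hH : IsPGroup p H := IsPGroup.of_card (n := 1) (by
    rw [pow_one, Nat.card_zpowers, Subgroup.orderOf_coe, hg])
  have hHN : H ≤ normalizer (A0 S : Set G) := zpowers_le.2 g.2
  letI : MulAction H (A0 S) :=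
    { smul := fun h x => ⟨(h : G) * x * (h : G)⁻¹, (mem_normalizer_iff.1 (hHN h.2) _).1 x.2⟩
      one_smul := fun x => Subtype.ext (by
        show ((1 : H) : G) * x * ((1 : H) : G)⁻¹ = x
        simp)
      mul_smul := fun a b x => Subtype.ext (by
        show ((a * b : H) : G) * x * ((a * b : H) : G)⁻¹ =
          (a : G) * ((b : G) * x * (b : G)⁻¹) * (a : G)⁻¹
        simp [mul_assoc]) }
  have hfix := hH.card_modEq_card_fixedPoints (A0 S)
  let Fx : Subgroup G := A0 S ⊓ centralizer ({(g : G)} : Set G)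
  have e : Nat.card (MulAction.fixedPoints H (A0 S)) = Nat.card Fx := by
    refine Nat.card_congr
      { toFun := fun x => ⟨(x.1 : G), x.1.2, mem_centralizer_singleton_iff.2 ?_⟩
        invFun := fun x => ⟨⟨x.1, x.2.1⟩, fun h => Subtype.ext ?_⟩
        left_inv := fun x => rfl
        right_inv := fun x => rfl }
    · have h := congrArg Subtype.val (x.2 ⟨(g : G), mem_zpowers _⟩)
      change (g : G) * (x.1 : G) * (g : G)⁻¹ = (x.1 : G) at h
      exact (mul_inv_eq_iff_eq_mul.1 h).symm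
    · show (h : G) * x.1 * (h : G)⁻¹ = x.1
      obtain ⟨k, hk'⟩ := mem_zpowers_iff.1 h.2
      have hc : Commute (g : G) x.1 := (mem_centralizer_singleton_iff.1 x.2.2).symm
      rw [← hk', (hc.zpow_left k).eq, mul_inv_cancel_right]
  rw [e, card_A0] at hfix
  obtain ⟨k, hk10, hcard⟩ := (Nat.dvd_prime_pow Nat.prime_two).1
    (card_A0 S ▸ Subgroup.card_dvd_of_le (inf_le_left : Fx ≤ A0 S))
  rw [hcard] at hfix
  rcases eq_or_lt_of_le hk10 with h | h
  · have hle : A0 S ≤ Fx := by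
      refine (Subgroup.eq_of_le_of_card_ge inf_le_left ?_).ge
      rw [card_A0, hcard, h]
    have hgA : (g : G) ∈ A0 S := (A0_self S).le
      (mem_centralizer_iff.2 fun y hy => mem_centralizer_singleton_iff.1 (hle hy).2)
    obtain ⟨a, ha, ea⟩ := exists_aE S hgA
    have h2 : orderOf (g : G) ∣ 2 := orderOf_dvd_of_pow_eq_one (by rw [pow_two, ← ea, aE_sq S ha])
    rw [Subgroup.orderOf_coe, hg] at h2
    exact hp ((Nat.prime_dvd_prime_iff_eq (Fact.out) Nat.prime_two).1 h2)
  · exact hk k h ((Nat.modEq_iff_dvd' (Nat.pow_le_pow_right (by norm_num) hk10)).1 hfix.symm)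

/-- **The types of the members of the model.** -/
theorem types [IsSimpleGroup G] {a : ℕ} (ha : a < 1024) (h0 : a ≠ 0) :
    IsConj z (aE S a) ↔ zMask.testBit a = true := by
  classical
  obtain ⟨hA, hB, hC, hD, hspan⟩ := orb_mem_facts
  have hAz : ∀ a ∈ orbCodes orbA, IsConj z (aE S a) := fun a m =>
    (isConj_low S (hA a m).2.1 (Nat.pos_iff_ne_zero.1 (hA a m).1)).2 (hA a m).2.2
  have hBz : ∀ a ∈ orbCodes orbB, ¬ IsConj z (aE S a) := fun a m h => by
    have := (isConj_low S (hB a m).2.1 (Nat.pos_iff_ne_zero.1 (hB a m).1)).1 h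
    rw [(hB a m).2.2] at this
    exact Bool.noConfusion this
  obtain ⟨c, hc⟩ : ∃ c, c ∈ orbCodes orbC := ⟨(orbCodes orbC).getD 0 0, by decide +kernel⟩
  obtain ⟨d, hd⟩ : ∃ d, d ∈ orbCodes orbD := ⟨(orbCodes orbD).getD 0 0, by decide +kernel⟩
  obtain ⟨r, hr⟩ : ∃ r, r ∈ orbCodes orbB := ⟨(orbCodes orbB).getD 0 0, by decide +kernel⟩
  have hr0 : r ≠ 0 := Nat.pos_iff_ne_zero.1 (hB r hr).1
  have hdvd := orbN_dvd S (aE S r)
  rw [ncard_orbN S (lt_B r hr) hr0] at hdvd
  suffices key : IsConj z (aE S c) ∧ ¬ IsConj z (aE S d) by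
    rw [zMask_iff]
    rcases code_cases ha h0 with m | m | m | m
    · exact ⟨fun _ => Or.inl m, fun _ => hAz a m⟩
    · refine ⟨fun h => absurd h (hBz a m), ?_⟩
      rintro (m' | m')
      · exact absurd (hAz a m') (hBz a m)
      · exact absurd (hC a m').1 (not_le.2 (hB a m).2.1)
    · exact ⟨fun _ => Or.inr m, fun _ => (orbC_type S hc m).1 key.1⟩
    · refine ⟨fun h => absurd ((orbD_type S hd m).2 h) key.2, ?_⟩
      rintro (m' | m')
      · exact absurd (hA a m').2.1 (not_lt.2 (hD a m).1)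
      · exact (orbC_type S hc m').1 key.1
  have hPset : ∀ {L : List ℕ}, (∀ a ∈ L, a < 1024) →
      (∀ a, a ∈ L ↔ a ∈ orbCodes orbB ∨ (a ∈ orbCodes orbC ∧ ¬ IsConj z (aE S c)) ∨
        (a ∈ orbCodes orbD ∧ ¬ IsConj z (aE S d))) →
      typeSet S (IsConj z (aE S r)) = L.toFinset := by
    intro L hL hmem
    ext a
    rw [mem_typeSet, List.mem_toFinset, hmem, iff_false_intro (hBz r hr), iff_false]
    constructor
    · rintro ⟨ha', ha0, hz⟩
      rcases code_cases ha' ha0 with m | m | m | m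
      · exact absurd (hAz a m) hz
      · exact Or.inl m
      · exact Or.inr (Or.inl ⟨m, fun h => hz ((orbC_type S hc m).1 h)⟩)
      · exact Or.inr (Or.inr ⟨m, fun h => hz ((orbD_type S hd m).1 h)⟩)
    · rintro (m | ⟨m, hz⟩ | ⟨m, hz⟩)
      · exact ⟨lt_B a m, Nat.pos_iff_ne_zero.1 (hB a m).1, hBz a m⟩
      · exact ⟨lt_C a m, by have := (hC a m).1; omega, fun h => hz ((orbC_type S hc m).2 h)⟩
      · exact ⟨lt_D a m, by have := (hD a m).1; omega, fun h => hz ((orbD_type S hd m).2 h)⟩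
  have hp37 : ¬ 37 ∣ Nat.card ↥(normalizer (A0 S : Set G)) :=
    @not_prime_dvd _ _ _ _ _ _ _ S 37 ⟨by norm_num⟩ (by norm_num) (by decide +kernel)
  have hp19 : ¬ 19 ∣ Nat.card ↥(normalizer (A0 S : Set G)) :=
    @not_prime_dvd _ _ _ _ _ _ _ S 19 ⟨by norm_num⟩ (by norm_num) (by decide +kernel)
  by_cases hcz : IsConj z (aE S c) <;> by_cases hdz : IsConj z (aE S d)
  · exfalso
    obtain ⟨h, hh, b, hb, e⟩ := z_to_low S (lt_C c hc) hcz
    have hinv : ∀ q ∈ orbCodes orbB, ∃ q' < 64, h⁻¹ * aE S q * h = aE S q' := by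
      intro q hq
      obtain ⟨q', hq', eq'⟩ :=
        exists_aE S ((mem_normalizer_iff.1 (inv_mem hh) _).1 (aE_mem S (lt_B q hq)))
      rw [inv_inv] at eq'
      refine ⟨q', ?_, eq'.symm⟩
      by_contra hge
      have h0' : q' ≠ 0 := by omega
      have hz' : IsConj z (aE S q') := by
        rcases code_cases hq' h0' with m | m | m | m
        · exact hAz q' m
        · exact absurd (hB q' m).2.1 hge
        · exact (orbC_type S hc m).1 hcz
        · exact (orbD_type S hd m).1 hdz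
      exact hBz q hq ((isConj_conj S (n := h) (by rw [eq']; group)).1 hz')
    obtain ⟨q1, hq1, hq2⟩ := hspan b hb
    obtain ⟨c1, hc1, e1⟩ := hinv q1 hq1
    obtain ⟨c2, hc2, e2⟩ := hinv _ hq2
    have hprod : aE S c = aE S (c1 ^^^ c2) := by
      rw [← aE_xor S (by omega) (by omega), ← e1, ← e2,
        show h⁻¹ * aE S q1 * h * (h⁻¹ * aE S (b ^^^ q1) * h) =
          h⁻¹ * (aE S q1 * aE S (b ^^^ q1)) * h by group,
        aE_xor S (lt_B _ hq1) (lt_B _ hq2), Nat.xor_comm b q1, ← Nat.xor_assoc, Nat.xor_self,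
        Nat.zero_xor, ← e]
      group
    have hlt : c1 ^^^ c2 < 64 := Nat.xor_lt_two_pow (n := 6) hc1 hc2
    have := aE_inj S (lt_C c hc) (by omega) hprod
    have := (hC c hc).1
    omega
  · exact ⟨hcz, hdz⟩
  · exfalso
    rw [hPset (L := orbCodes orbB ++ orbCodes orbC) (by
        intro a; rw [List.mem_append]; rintro (m | m)
        exacts [lt_B a m, lt_C a m])
      (fun a => by rw [List.mem_append]; tauto),
      show (orbCodes orbB ++ orbCodes orbC).toFinset.card = 148 by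
        rw [List.toFinset_card_of_nodup (by decide +kernel)]
        decide +kernel] at hdvd
    exact hp37 (dvd_trans (by norm_num) hdvd)
  · exfalso
    rw [hPset (L := (List.range 1024).filter fun a => !Nat.beq a 0 && !(orbCodes orbA).contains a)
      (fun a m => List.mem_range.1 (List.mem_filter.1 m).1)
      (fun a => by
        simp only [List.mem_filter, List.mem_range, Bool.and_eq_true, Bool.not_eq_true',
          nat_beq_eq, decide_eq_false_iff_not, ← Bool.not_eq_true, List.contains_iff_mem, decide_eq_true_eq]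
        constructor
        · rintro ⟨ha', ha0, hnA⟩
          rcases code_cases ha' ha0 with m | m | m | m
          · exact absurd m hnA
          · exact Or.inl m
          · exact Or.inr (Or.inl ⟨m, hcz⟩)
          · exact Or.inr (Or.inr ⟨m, hdz⟩)
        · rintro (m | ⟨m, -⟩ | ⟨m, -⟩)
          · exact ⟨lt_B a m, Nat.pos_iff_ne_zero.1 (hB a m).1, fun m' => hBz a m (hAz a m')⟩
          · have := (hC a m).1
            exact ⟨lt_C a m, by omega, fun m' => by have := (hA a m').2.1; omega⟩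
          · have := (hD a m).1
            exact ⟨lt_D a m, by omega, fun m' => by have := (hA a m').2.1; omega⟩),
      show (((List.range 1024).filter fun a =>
          !Nat.beq a 0 && !(orbCodes orbA).contains a).toFinset).card = 988 by
        rw [List.toFinset_card_of_nodup (List.nodup_range.filter _)]
        decide +kernel] at hdvd
    exact hp19 (dvd_trans (by norm_num) hdvd)

/-- The numbers of members of the two types. -/
theorem typeSet_card [IsSimpleGroup G] {r : ℕ} (hr : r < 1024) (hr0 : r ≠ 0) :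
    (typeSet S (IsConj z (aE S r))).card = if zMask.testBit r = true then 155 else 868 := by
  classical
  have e : typeSet S (IsConj z (aE S r)) = ((List.range 1024).filter fun a =>
      !Nat.beq a 0 && (zMask.testBit a == zMask.testBit r)).toFinset := by
    ext a
    rw [mem_typeSet, List.mem_toFinset, List.mem_filter, List.mem_range]
    simp only [Bool.and_eq_true, Bool.not_eq_true', beq_iff_eq, nat_beq_eq, decide_eq_false_iff_not]
    constructor
    · rintro ⟨ha, ha0, h⟩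
      rw [types S ha ha0, types S hr hr0] at h
      exact ⟨ha, ha0, Bool.eq_iff_iff.2 h⟩
    · rintro ⟨ha, ha0, h⟩
      exact ⟨ha, ha0, by rw [types S ha ha0, types S hr hr0, h]⟩
  rw [e, List.toFinset_card_of_nodup (List.nodup_range.filter _)]
  cases zMask.testBit r <;> decide +kernel

/-- **The normaliser has two orbits, of lengths 155 and 868.** -/
theorem orbits_A0 [IsSimpleGroup G] :
    ∃ a b : G, a ∈ A0 S ∧ b ∈ A0 S ∧
      Set.ncard {v : G | ∃ n ∈ normalizer (A0 S : Set G), n * a * n⁻¹ = v} = 155 ∧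
      Set.ncard {v : G | ∃ n ∈ normalizer (A0 S : Set G), n * b * n⁻¹ = v} = 868 := by
  refine ⟨aE S 1, aE S 12, aE_mem S (by norm_num), aE_mem S (by norm_num), ?_, ?_⟩
  · show (orbN S (aE S 1)).ncard = 155
    rw [ncard_orbN S (by norm_num) (by norm_num), typeSet_card S (by norm_num) (by norm_num),
      if_pos (by decide +kernel)]
  · show (orbN S (aE S 12)).ncard = 868
    rw [ncard_orbN S (by norm_num) (by norm_num), typeSet_card S (by norm_num) (by norm_num),
      if_neg (by decide +kernel)]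

/-- **The normaliser acts irreducibly.** -/
theorem irred_A0 [IsSimpleGroup G] (W : Subgroup G) (hW : W ≤ A0 S)
    (hN : normalizer (A0 S : Set G) ≤ normalizer (W : Set G)) : W = ⊥ ∨ W = A0 S := by
  classical
  by_cases hbot : W = ⊥
  · exact Or.inl hbot
  refine Or.inr (le_antisymm hW ?_)
  obtain ⟨x, hx, hx1⟩ := (W.bot_or_exists_ne_one).resolve_left hbot
  obtain ⟨r, hr, rfl⟩ := exists_aE S (hW hx)
  have hr0 : r ≠ 0 := fun h => hx1 (by rw [h, aE_zero])
  have hsub : ∀ {r : ℕ}, r < 1024 → r ≠ 0 → aE S r ∈ W → orbN S (aE S r) ⊆ (W : Set G) := by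
    intro r _ _ hrW v hv
    obtain ⟨n, hn, rfl⟩ := hv
    exact (mem_normalizer_iff.1 (hN hn) _).1 hrW
  by_contra hne
  obtain ⟨k, hk10, hk⟩ := (Nat.dvd_prime_pow Nat.prime_two).1
    (card_A0 S ▸ Subgroup.card_dvd_of_le hW)
  have hk9 : k < 10 := by
    rcases eq_or_lt_of_le hk10 with h | h
    · refine absurd ?_ hne
      exact (Subgroup.eq_of_le_of_card_ge hW (by rw [card_A0, hk, h])).ge
    · exact h
  -- every member of `W` has the type of `r`
  by_cases hall : ∀ v ∈ W, v ≠ 1 → v ∈ orbN S (aE S r)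
  · have e : (W : Set G) = insert 1 (orbN S (aE S r)) := by
      refine Set.Subset.antisymm (fun v hv => ?_) (Set.insert_subset (one_mem W) (hsub hr hr0 hx))
      by_cases hv1 : v = 1
      · exact Or.inl hv1
      · exact Or.inr (hall v hv hv1)
    have h1 : (1 : G) ∉ orbN S (aE S r) := by
      rintro ⟨n, -, e1⟩
      exact hx1 (conj_eq_one_iff.1 e1)
    have hc : Nat.card W = (orbN S (aE S r)).ncard + 1 := by
      rw [show Nat.card W = (W : Set G).ncard from Nat.card_coe_set_eq _, e,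
        Set.ncard_insert_of_notMem h1]
    rw [hk, ncard_orbN S hr hr0, typeSet_card S hr hr0] at hc
    interval_cases k <;> split at hc <;> omega
  · push Not at hall
    obtain ⟨v, hvW, hv1, hvO⟩ := hall
    obtain ⟨s, hs, rfl⟩ := exists_aE S (hW hvW)
    have hs0 : s ≠ 0 := fun h => hv1 (by rw [h, aE_zero])
    have hcover : ∀ a < 1024, a ≠ 0 → aE S a ∈ W := by
      intro a ha ha0
      by_cases hta : IsConj z (aE S a) ↔ IsConj z (aE S r)
      · refine hsub hr hr0 hx ?_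
        rw [orbN_eq S hr hr0]
        exact ⟨a, (mem_typeSet S).2 ⟨ha, ha0, hta⟩, rfl⟩
      · refine hsub hs hs0 hvW ?_
        rw [orbN_eq S hs hs0]
        refine ⟨a, (mem_typeSet S).2 ⟨ha, ha0, ?_⟩, rfl⟩
        have hts : ¬ (IsConj z (aE S s) ↔ IsConj z (aE S r)) := fun h => hvO (by
          rw [orbN_eq S hr hr0]
          exact ⟨s, (mem_typeSet S).2 ⟨hs, hs0, h⟩, rfl⟩)
        tauto
    refine hne fun y hy => ?_
    obtain ⟨a, ha, rfl⟩ := exists_aE S hy
    by_cases ha0 : a = 0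
    · rw [ha0, aE_zero]; exact one_mem W
    · exact hcover a ha ha0

end CfsgLib.J4Type.Ten
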