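import Cfsg.Agent.Lib.J4Type.Ten.RClassNodes
import Cfsg.Agent.Lib.Golay.Mathieu
import Mathlib.GroupTheory.Sylow

/-!
An elementary abelian subgroup `R` of `M₂₄` with `|R| |C_V(R)| = 2 ^ 10` on the module of order `2 ^ 11` is
conjugate to the octad group of order sixteen.
-/

set_option autoImplicit false
set_option maxRecDepth 100000
set_option linter.style.haveILetI false

namespace CfsgLib.J4Type.Ten

open Cfsg CfsgLib.Golay CfsgLib.J4Type Subgroup

/-- The span of the basis of the fixed space. -/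
def spanW : List ℕ := wBase.foldr (fun w l => l ++ l.map (w ^^^ ·)) [0]

/-- The vectors fixed by a set of permutations. -/
def fixSet (R : Set (Equiv.Perm GolayPt)) : Set ℕ := {v | v < 2048 ∧ ∀ x ∈ R, mv (colsP x) v = v}

theorem fixSet_finite (R : Set (Equiv.Perm GolayPt)) : (fixSet R).Finite :=
  (Set.finite_lt_nat 2048).subset fun _ h => h.1

theorem ncard_lt_2048 : ({v : ℕ | v < 2048}).ncard = 2048 := by
  rw [show {v : ℕ | v < 2048} = ↑(Finset.range 2048) by ext; simp, Set.ncard_coe_finset, Finset.card_range]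

section Sylow

variable {H : Type*} [Group H] [Finite H]

/-- A two-subgroup of `M` is conjugate into a given subgroup of order the two-part of `|M|`. -/
theorem conj_into {M T R : Subgroup H} (hT : T ≤ M) {a : ℕ} (hcard : Nat.card T = 2 ^ a)
    (hmax : ¬ 2 ^ (a + 1) ∣ Nat.card M) (hR : R ≤ M) (h2 : IsPGroup 2 R) :
    ∃ g ∈ M, ∀ x ∈ R, g * x * g⁻¹ ∈ T := by
  haveI : Fact (Nat.Prime 2) := ⟨Nat.prime_two⟩
  have hT2 : IsPGroup 2 (T.subgroupOf M) :=
    IsPGroup.of_card (n := a) ((Nat.card_congr (subgroupOfEquivOfLe hT).toEquiv).trans hcard)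
  have hidx : ¬ 2 ∣ (T.subgroupOf M).index := fun h => hmax (by
    rw [← card_mul_index (T.subgroupOf M), Nat.card_congr (subgroupOfEquivOfLe hT).toEquiv, hcard, pow_succ]
    exact mul_dvd_mul_left _ h)
  obtain ⟨S, hS⟩ := (h2.of_equiv (subgroupOfEquivOfLe hR).symm).exists_le_sylow
  obtain ⟨g, hg⟩ := MulAction.exists_smul_eq M S (hT2.toSylow hidx)
  refine ⟨g, g.2, fun x hx => ?_⟩
  have hxS : (⟨x, hR hx⟩ : M) ∈ (S : Subgroup M) := hS hx
  have h : g * ⟨x, hR hx⟩ * g⁻¹ ∈ ((g • S : Sylow 2 M) : Subgroup M) := by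
    rw [Sylow.coe_subgroup_smul]
    exact ⟨_, hxS, rfl⟩
  rw [hg] at h
  exact h

end Sylow

section Action

variable (hgood : ∀ σ ∈ M24, ∃ f, NV.GoodMap f ∧ ∀ p q, f (NV.pv p q) = NV.pv (σ p) (σ q))

include hgood

theorem cols_good {σ : Equiv.Perm GolayPt} (hσ : σ ∈ M24) :
    NV.GoodMap (mv (colsP σ)) ∧ ∀ p q, mv (colsP σ) (NV.pv p q) = NV.pv (σ p) (σ q) := by
  obtain ⟨f, hf, hp⟩ := hgood σ hσ
  have e := eq_mv_colsP hf hp
  refine ⟨⟨fun v hv => by rw [← e v hv]; exact hf.lt v hv, fun v _ u _ => mv_xor _ v u,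
    fun v hv u hu h => hf.inj v hv u hu (by rw [e v hv, e u hu]; exact h),
    fun v hv hB => by rw [← e v hv]; exact hf.presB v hv hB⟩, fun p q => ?_⟩
  rw [← e _ (NV.pv_lt p q), hp]

theorem cols_mul {σ τ : Equiv.Perm GolayPt} (hσ : σ ∈ M24) (hτ : τ ∈ M24) {v : ℕ} (hv : v < 2048) :
    mv (colsP (σ * τ)) v = mv (colsP σ) (mv (colsP τ) v) := by
  obtain ⟨g1, p1⟩ := cols_good hgood hσ
  obtain ⟨g2, p2⟩ := cols_good hgood hτ
  refine (eq_mv_colsP (f := fun v => mv (colsP σ) (mv (colsP τ) v)) ⟨fun v hv => g1.lt _ (g2.lt v hv),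
    fun v _ u _ => by rw [mv_xor, mv_xor], fun v hv u hu h => g2.inj v hv u hu (g1.inj _ (g2.lt v hv) _ (g2.lt u hu) h),
    fun v hv hB => g1.presB _ (g2.lt v hv) (g2.presB v hv hB)⟩ (fun p q => ?_) v hv).symm
  show mv (colsP σ) (mv (colsP τ) (NV.pv p q)) = _
  rw [p2, p1]
  rfl

theorem cols_one {v : ℕ} (hv : v < 2048) : mv (colsP 1) v = v :=
  ((cols_good hgood (one_mem _)).1.eq_id (fun p q => (cols_good hgood (one_mem _)).2 p q)) v hv

theorem cols_conj_fix {σ x : Equiv.Perm GolayPt} (hσ : σ ∈ M24) (hx : x ∈ M24) {v : ℕ} (hv : v < 2048) :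
    mv (colsP (σ * x * σ⁻¹)) (mv (colsP σ) v) = mv (colsP σ) v ↔ mv (colsP x) v = v := by
  have e : mv (colsP (σ * x * σ⁻¹)) (mv (colsP σ) v) = mv (colsP σ) (mv (colsP x) v) := by
    rw [← cols_mul hgood (mul_mem (mul_mem hσ hx) (inv_mem hσ)) hσ hv, inv_mul_cancel_right,
      cols_mul hgood hσ hx hv]
  rw [e]
  exact ⟨fun h => (cols_good hgood hσ).1.inj _ ((cols_good hgood hx).1.lt v hv) _ hv h, fun h => by rw [h]⟩

/-- Conjugation carries the fixed vectors along. -/
theorem fix_conj {σ : Equiv.Perm GolayPt} (hσ : σ ∈ M24) {R : Subgroup (Equiv.Perm GolayPt)} (hR : R ≤ M24) :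
    (fixSet (R.map (MulAut.conj σ).toMonoidHom : Subgroup _) = mv (colsP σ) '' fixSet R) ∧
      (fixSet (R.map (MulAut.conj σ).toMonoidHom : Subgroup _)).ncard = (fixSet R).ncard := by
  have himg : fixSet (R.map (MulAut.conj σ).toMonoidHom : Subgroup _) = mv (colsP σ) '' fixSet R := by
    ext w
    constructor
    · rintro ⟨hw, hfix⟩
      have hu := (cols_good hgood (inv_mem hσ)).1.lt w hw
      have e : mv (colsP σ) (mv (colsP σ⁻¹) w) = w := by
        rw [← cols_mul hgood hσ (inv_mem hσ) hw, mul_inv_cancel, cols_one hgood hw]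
      refine ⟨_, ⟨hu, fun x hx => ?_⟩, e⟩
      rw [← cols_conj_fix hgood hσ (hR hx) hu, e]
      exact hfix _ ⟨x, hx, rfl⟩
    · rintro ⟨v, ⟨hv, hfix⟩, rfl⟩
      refine ⟨(cols_good hgood hσ).1.lt v hv, ?_⟩
      rintro _ ⟨x, hx, rfl⟩
      exact (cols_conj_fix hgood hσ (hR hx) hv).2 (hfix x hx)
  refine ⟨himg, ?_⟩
  rw [himg]
  exact Set.ncard_image_of_injOn fun a ha b hb h => (cols_good hgood hσ).1.inj a ha.1 b hb.1 h

end Action

/-! ### The tables -/

theorem zip_mem {α β : Type} (l : List α) (m : List β) {i : ℕ} (h : i < l.length) (h' : i < m.length) :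
    (l[i], m[i]) ∈ l.zip m :=
  List.mem_iff_getElem.2 ⟨i, by rw [List.length_zip]; omega, by simp⟩


/-- An involution of the two-subgroup, by index. -/
noncomputable def xP (k : ℕ) : Equiv.Perm GolayPt := permOf (invL.getD k idCode)

theorem invL_valid (k : ℕ) : valid (invL.getD k idCode) = true := by
  rcases lt_or_ge k invL.length with h | h
  · have h1 := invL_ok.2.2.2.2
    simp only [Bool.and_eq_true, List.all_eq_true] at h1
    rw [List.getD_eq_getElem _ _ h]
    exact h1.1.1 _ (List.getElem_mem h)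
  · rw [List.getD_eq_default _ _ h]
    exact idCode_valid

theorem xP_inj {j k : ℕ} (hj : j < 192) (hk : k < 192) (h : xP j = xP k) : j = k := by
  have hj' : j < invL.length := by rw [invL_ok.1]; exact hj
  have hk' : k < invL.length := by rw [invL_ok.1]; exact hk
  obtain ⟨hc, hnd⟩ := invL_inj
  simp only [Bool.and_eq_true, List.all_eq_true] at hc
  have e := canon_inj (invL_valid j) (invL_valid k)
    (by rw [List.getD_eq_getElem _ _ hj']; exact hc.1 _ (List.getElem_mem hj'))
    (by rw [List.getD_eq_getElem _ _ hk']; exact hc.1 _ (List.getElem_mem hk')) h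
  rw [List.getD_eq_getElem _ _ hj', List.getD_eq_getElem _ _ hk'] at e
  exact hnd.getElem_inj_iff.1 e

theorem xP_zero : xP 0 = 1 := by
  have h : invL.getD 0 idCode = idCode := by decide +kernel
  rw [xP, h, permOf_idCode]

theorem xP_t : xP tIdx = permOf tCode := by
  have h : invL.getD tIdx idCode = tCode := by decide +kernel
  rw [xP, h]

theorem xP_sq (k : ℕ) : xP k * xP k = 1 := by
  rcases lt_or_ge k invL.length with h | h
  · have h1 := invL_sq
    simp only [List.all_eq_true] at h1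
    have := isProd_sound (invL_valid k) (invL_valid k)
      (by rw [List.getD_eq_getElem _ _ h]; exact h1 _ (List.getElem_mem h))
    rw [xP, ← this.2, permOf_idCode]
  · rw [xP, List.getD_eq_default _ _ h, permOf_idCode, one_mul]

theorem commB_true {a b : ℕ} (ha : valid a = true) (hb : valid b = true) (h : permOf a * permOf b = permOf b * permOf a) :
    commB a b = true := by
  simp only [commB, List.all_eq_true, List.mem_range]
  intro i hi
  have := congrArg (fun σ : Equiv.Perm GolayPt => idx (σ (pt i))) h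
  simp only [Equiv.Perm.mul_apply, permOf_pt hb hi, permOf_pt ha hi, permOf_pt ha (valid_lt hb hi),
    permOf_pt hb (valid_lt ha hi), idx_pt (valid_lt ha (valid_lt hb hi)), idx_pt (valid_lt hb (valid_lt ha hi))] at this
  rw [this]
  exact Nat.beq_refl _

theorem commB_sound {a b : ℕ} (ha : valid a = true) (hb : valid b = true) (h : commB a b = true) :
    permOf a * permOf b = permOf b * permOf a := by
  simp only [commB, List.all_eq_true, List.mem_range] at h
  refine Equiv.ext fun p => ?_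
  rw [Equiv.Perm.mul_apply, Equiv.Perm.mul_apply, permOf_apply hb p, permOf_apply ha p,
    permOf_pt ha (valid_lt hb (idx_lt p)), permOf_pt hb (valid_lt ha (idx_lt p)),
    Nat.eq_of_beq_eq_true (h _ (idx_lt p))]

/-- Whether a permutation is one of the listed members. -/
def InList (E : List ℕ) (σ : Equiv.Perm GolayPt) : Prop := ∃ a ∈ E, σ = xP a

theorem spanIdx_closed : ∀ (g E : List ℕ), spanIdx g E = true →
    InList E 1 ∧ (∀ σ τ, InList E σ → InList E τ → InList E (σ * τ)) ∧
      ∀ K : Subgroup (Equiv.Perm GolayPt), (∀ a ∈ g, xP a ∈ K) → ∀ σ, InList E σ → σ ∈ K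
  | [], E, h => by
    obtain ⟨e, rfl⟩ : ∃ e, E = [e] := by
      match E, h with
      | [e], _ => exact ⟨e, rfl⟩
    have he : e = 0 := Nat.eq_of_beq_eq_true h
    subst he
    have h1 : ∀ σ, InList [0] σ → σ = 1 := by
      rintro σ ⟨a, ha, rfl⟩
      rw [List.mem_singleton.1 ha, xP_zero]
    refine ⟨⟨0, List.mem_cons_self, xP_zero.symm⟩, fun σ τ hσ hτ => ?_, fun K _ σ hσ => h1 σ hσ ▸ one_mem K⟩
    rw [h1 σ hσ, h1 τ hτ, one_mul]
    exact ⟨0, List.mem_cons_self, xP_zero.symm⟩
  | g :: gs, E, h => by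
    simp only [spanIdx, Bool.and_eq_true, List.all_eq_true, decide_eq_true_eq] at h
    obtain ⟨⟨hlen, hlow⟩, hhigh⟩ := h
    obtain ⟨h1, hmul, hle⟩ := spanIdx_closed gs _ hlow
    set L := E.take (E.length / 2) with hL
    set H := E.drop (E.length / 2) with hH
    have hlen' : H.length = L.length := Nat.eq_of_beq_eq_true hlen
    have hE : ∀ {σ}, InList E σ ↔ InList L σ ∨ InList H σ := by
      intro σ
      constructor
      · rintro ⟨a, ha, e⟩
        rw [← List.take_append_drop (E.length / 2) E] at ha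
        rcases List.mem_append.1 ha with h | h
        exacts [Or.inl ⟨a, h, e⟩, Or.inr ⟨a, h, e⟩]
      · rintro (⟨a, ha, e⟩ | ⟨a, ha, e⟩)
        exacts [⟨a, List.mem_of_mem_take ha, e⟩, ⟨a, List.mem_of_mem_drop ha, e⟩]
    have hiff : ∀ {σ}, InList H σ ↔ ∃ τ, InList L τ ∧ σ = xP g * τ ∧ xP g * τ = τ * xP g := by
      intro σ
      constructor
      · rintro ⟨a, ha, rfl⟩
        obtain ⟨i, hi, rfl⟩ := List.getElem_of_mem ha
        have hz := hhigh (H[i], L[i]'(hlen' ▸ hi)) (by
          have : i < (H.zip L).length := by rw [List.length_zip, hlen', min_self]; exact hlen' ▸ hi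
          rw [← List.getElem_zip (h := this)]
          exact List.getElem_mem _)
        exact ⟨_, ⟨_, List.getElem_mem _, rfl⟩, (isProd_sound (invL_valid g) (invL_valid _) hz.1.2).2,
          commB_sound (invL_valid g) (invL_valid _) hz.2⟩
      · rintro ⟨_, ⟨b, hb, rfl⟩, rfl, -⟩
        obtain ⟨i, hi, rfl⟩ := List.getElem_of_mem hb
        have hz := hhigh (H[i]'(hlen'.symm ▸ hi), L[i]) (by
          have : i < (H.zip L).length := by rw [List.length_zip, hlen', min_self]; exact hi
          rw [← List.getElem_zip (h := this)]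
          exact List.getElem_mem _)
        exact ⟨_, List.getElem_mem _, ((isProd_sound (invL_valid g) (invL_valid _) hz.1.2).2).symm⟩
    have hcomm : ∀ τ, InList L τ → xP g * τ = τ * xP g := fun τ hτ => by
      obtain ⟨b, hb, rfl⟩ := hτ
      obtain ⟨i, hi, rfl⟩ := List.getElem_of_mem hb
      have hz := hhigh (H[i]'(hlen'.symm ▸ hi), L[i]) (by
        have : i < (H.zip L).length := by rw [List.length_zip, hlen', min_self]; exact hi
        rw [← List.getElem_zip (h := this)]
        exact List.getElem_mem _)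
      exact commB_sound (invL_valid g) (invL_valid _) hz.2
    refine ⟨hE.2 (Or.inl h1), fun σ τ hσ hτ => ?_, fun K hK σ hσ => ?_⟩
    · rcases hE.1 hσ with ha | ha <;> rcases hE.1 hτ with hb | hb
      · exact hE.2 (Or.inl (hmul _ _ ha hb))
      · obtain ⟨b, hb', rfl, -⟩ := hiff.1 hb
        refine hE.2 (Or.inr (hiff.2 ⟨σ * b, hmul _ _ ha hb', ?_, hcomm _ (hmul _ _ ha hb')⟩))
        rw [← mul_assoc, ← hcomm σ ha, mul_assoc]
      · obtain ⟨a, ha', rfl, -⟩ := hiff.1 ha
        exact hE.2 (Or.inr (hiff.2 ⟨a * τ, hmul _ _ ha' hb, mul_assoc _ _ _, hcomm _ (hmul _ _ ha' hb)⟩))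
      · obtain ⟨a, ha', rfl, hca⟩ := hiff.1 ha
        obtain ⟨b, hb', rfl, -⟩ := hiff.1 hb
        refine hE.2 (Or.inl ?_)
        rw [hca, mul_assoc, ← mul_assoc (xP g), xP_sq, one_mul]
        exact hmul _ _ ha' hb'
    · rcases hE.1 hσ with ha | ha
      · exact hle K (fun a h => hK a (List.mem_cons_of_mem _ h)) σ ha
      · obtain ⟨a, ha', rfl, -⟩ := hiff.1 ha
        exact mul_mem (hK g List.mem_cons_self) (hle K (fun a h => hK a (List.mem_cons_of_mem _ h)) a ha')

theorem testBit_foldMask (E : List ℕ) (k : ℕ) :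
    (E.foldr (fun a r => Nat.shiftLeft 1 a ||| r) 0).testBit k = decide (k ∈ E) := by
  induction E with
  | nil => simp
  | cons a l ih =>
    rw [List.foldr_cons, Nat.testBit_or, ih]
    show ((1 <<< a).testBit k || _) = _
    rw [Nat.one_shiftLeft, Nat.testBit_two_pow]
    by_cases h : a = k
    · simp [h]
    · simp [h, Ne.symm h]

/-- The members of a subgroup of the table. -/
noncomputable def nSet (i : ℕ) : Finset (Equiv.Perm GolayPt) :=
  ((Finset.range 192).filter fun k => (node i).1.testBit k).image xP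

theorem mem_nSet {i : ℕ} {σ : Equiv.Perm GolayPt} :
    σ ∈ nSet i ↔ ∃ k < 192, (node i).1.testBit k = true ∧ σ = xP k := by
  simp only [nSet, Finset.mem_image, Finset.mem_filter, Finset.mem_range]
  exact ⟨fun ⟨k, ⟨h, h'⟩, e⟩ => ⟨k, h, h', e.symm⟩, fun ⟨k, h, h', e⟩ => ⟨k, ⟨h, h'⟩, e.symm⟩⟩

theorem popB_eq (n m : ℕ) : ((Finset.range n).filter fun k => m.testBit k).card = popB n m := by
  rw [popB, List.countP_eq_length_filter,
    ← List.toFinset_card_of_nodup ((List.nodup_range (n := n)).filter _)]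
  congr 1
  ext k
  simp

theorem card_nSet (i : ℕ) : (nSet i).card = popB 192 (node i).1 := by
  rw [nSet, Finset.card_image_of_injOn, popB_eq]
  intro a ha b hb h
  simp only [Finset.coe_filter, Finset.mem_range, Set.mem_setOf_eq] at ha hb
  exact xP_inj ha.1 hb.1 h

theorem node_row {i : ℕ} (hi : i < 977) : i / 16 < nodeL.length ∧ i % 16 < (nodeL.getD (i / 16) []).length := by
  obtain ⟨hl, hs⟩ := nodeL_shape
  have h1 : i / 16 < nodeL.length := by omega
  refine ⟨h1, ?_⟩
  have h2 := allIdx_spec [] hs _ h1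
  simp only [Bool.or_eq_true, Bool.and_eq_true, decide_eq_true_eq, nat_beq_eq] at h2
  omega

theorem node_ok {i : ℕ} (hi : i < 977) : nodeOK i (node i) = true ∧ ∃ E, spanOK (node i) E = true := by
  obtain ⟨h1, h2⟩ := node_row hi
  have e : node i = (nodeL.getD (i / 16) []).getD (i % 16) (0, [], []) := rfl
  constructor
  · have := allIdx_spec (0, [], []) (allIdx_spec [] nodes_ok _ h1) _ h2
    rwa [← e, show 16 * (0 + i / 16) + (0 + i % 16) = i by omega] at this
  · obtain ⟨hl, hs⟩ := spans_ok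
    simp only [List.all_eq_true, Bool.and_eq_true, nat_beq_eq, decide_eq_true_eq] at hs
    have h3 : i / 16 < spanL.length := hl ▸ h1
    have hm := zip_mem nodeL spanL h1 h3
    obtain ⟨hlen, hall⟩ := hs _ hm
    dsimp only at hlen hall
    have h4 : i % 16 < (nodeL[i / 16]).length := by rwa [List.getD_eq_getElem _ _ h1] at h2
    have h5 : i % 16 < (spanL[i / 16]).length := by omega
    have hm2 := zip_mem (nodeL[i / 16]) (spanL[i / 16]) h4 h5
    refine ⟨(spanL[i / 16])[i % 16]'(hlen.symm ▸ h4), ?_⟩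
    have := hall _ hm2
    have e2 : node i = (nodeL[i / 16])[i % 16] := by
      rw [e]
      simp only [List.getD_eq_getElem _ _ h1]
      exact List.getD_eq_getElem _ _ h4
    rw [e2]
    exact this

theorem nSet_group {i : ℕ} (hi : i < 977) : (1 : Equiv.Perm GolayPt) ∈ nSet i ∧
    (∀ a ∈ nSet i, ∀ b ∈ nSet i, a * b ∈ nSet i) ∧ ∀ a ∈ nSet i, a * a = 1 := by
  obtain ⟨E, hE⟩ := (node_ok hi).2
  simp only [spanOK, Bool.and_eq_true, List.all_eq_true, decide_eq_true_eq] at hE
  obtain ⟨⟨⟨hs, hlt⟩, hmask⟩, -⟩ := hE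
  replace hmask := Nat.eq_of_beq_eq_true hmask
  obtain ⟨h1, hmul, -⟩ := spanIdx_closed _ _ hs
  have hiff : ∀ σ, σ ∈ nSet i ↔ InList E σ := by
    intro σ
    rw [mem_nSet]
    simp only [← hmask, testBit_foldMask, decide_eq_true_eq]
    exact ⟨fun ⟨k, _, hk, e⟩ => ⟨k, hk, e⟩, fun ⟨k, hk, e⟩ => ⟨k, hlt k hk, hk, e⟩⟩
  refine ⟨(hiff 1).2 h1, fun a ha b hb => (hiff _).2 (hmul a b ((hiff a).1 ha) ((hiff b).1 hb)), fun a ha => ?_⟩
  obtain ⟨k, -, -, rfl⟩ := mem_nSet.1 ha
  exact xP_sq k

theorem testBit_foldr_or {k : ℕ} : ∀ (l : List ℕ) (f : ℕ → ℕ) (z : ℕ),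
    (l.foldr (fun c r => f c ||| r) z).testBit k = true ↔ z.testBit k = true ∨ ∃ c ∈ l, (f c).testBit k = true
  | [], f, z => by simp
  | a :: l, f, z => by
    rw [List.foldr_cons, Nat.testBit_or, Bool.or_eq_true, testBit_foldr_or l f z]
    simp only [List.mem_cons, exists_eq_or_imp]
    tauto

theorem testBit_foldr_and {k : ℕ} : ∀ (l : List ℕ) (f : ℕ → ℕ) (z : ℕ), z.testBit k = true →
    (∀ c ∈ l, (f c).testBit k = true) → (l.foldr (fun c r => f c &&& r) z).testBit k = true
  | [], _, _, hz, _ => hz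
  | a :: l, f, z, hz, h => by
    rw [List.foldr_cons, Nat.testBit_and, h a List.mem_cons_self,
      testBit_foldr_and l f z hz fun c hc => h c (List.mem_cons_of_mem _ hc), Bool.and_self]

theorem com_bit {a k : ℕ} (ha : a < 192) (hk : k < 192) (h : xP a * xP k = xP k * xP a) :
    (comL.getD a 0).testBit k = true := by
  obtain ⟨hl, hc⟩ := comL_ok
  simp only [List.all_eq_true] at hc
  have ha' : a < invL.length := by rw [invL_ok.1]; exact ha
  have ha'' : a < comL.length := by omega
  have hk' : k < invL.length := by rw [invL_ok.1]; exact hk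
  have hm := zip_mem invL comL (i := a) (by omega) (by omega)
  have h1 := allIdx_spec idCode (hc _ hm) k hk'
  have hcb := commB_true (invL_valid a) (invL_valid k) h
  rw [List.getD_eq_getElem _ _ ha'] at hcb
  simp only [Bool.or_eq_true, Nat.zero_add, Bool.not_eq_true'] at h1
  rw [List.getD_eq_getElem _ _ ha'']
  exact h1.resolve_right fun hn => Bool.noConfusion (hn.symm.trans hcb)

theorem cols_xP {a : ℕ} (ha : a < 192) : colsP (xP a) = colsL.getD a [] := by
  obtain ⟨hl, hc⟩ := colsL_ok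
  simp only [List.all_eq_true, decide_eq_true_eq] at hc
  have ha' : a < invL.length := by rw [invL_ok.1]; exact ha
  have ha'' : a < colsL.length := by omega
  have hm := zip_mem invL colsL (i := a) (by omega) (by omega)
  rw [xP, colsP_permOf (invL_valid a), List.getD_eq_getElem _ _ ha', List.getD_eq_getElem _ _ ha'']
  exact hc _ hm

theorem fix_bit {a : ℕ} (ha : a < 192) {j : ℕ} (hj : j < 128) (h : mv (colsP (xP a)) (fixT.getD j 0) = fixT.getD j 0) :
    (fixL.getD a 0).testBit j = true := by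
  obtain ⟨hl, hc⟩ := fixL_ok
  simp only [List.all_eq_true] at hc
  have ha' : a < colsL.length := by rw [colsL_ok.1]; exact ha
  have ha'' : a < fixL.length := by omega
  have hj' : j < fixT.length := by rw [fixT_ok.1]; exact hj
  have hm := zip_mem colsL fixL (i := a) (by omega) (by omega)
  have h1 := allIdx_spec 0 (hc _ hm) j hj'
  rw [cols_xP ha, List.getD_eq_getElem _ _ ha'] at h
  simp only [Bool.or_eq_true, Nat.zero_add, Bool.not_eq_true', nat_beq_eq, decide_eq_false_iff_not] at h1
  rw [List.getD_eq_getElem _ _ ha'']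
  exact h1.resolve_right fun hn => hn h

/-! ### The two-subgroup -/

/-- The two-subgroup. -/
noncomputable def syT : Subgroup (Equiv.Perm GolayPt) := closure {σ | ∃ g ∈ syGens, σ = permOf g}

theorem syGens_valid {g : ℕ} (h : g ∈ syGens) : valid g = true ∧ permOf g ∈ M24 ∧
    permOf tCode * permOf g = permOf g * permOf tCode := by
  have h1 := syGens_ok
  simp only [List.all_eq_true, Bool.and_eq_true] at h1
  obtain ⟨h2, h3⟩ := h1 g h
  have ht : valid tCode = true := by decide +kernel
  exact ⟨inM24_valid h2, inM24_mem h2, commB_sound ht (inM24_valid h2) (List.all_eq_true.2 h3)⟩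

theorem syAt_valid (i : ℕ) : valid (syAt i) = true := by
  have h1 := syL_ok.2.2.2.1
  simp only [List.all_eq_true, Bool.and_eq_true] at h1
  show valid ((syL.getD (i / 32) []).getD (i % 32) idCode) = true
  rcases lt_or_ge (i % 32) (syL.getD (i / 32) []).length with h | h
  · rcases lt_or_ge (i / 32) syL.length with h' | h'
    · rw [List.getD_eq_getElem _ _ h] at *
      refine (h1 (syL.getD (i / 32) []) ?_).2 _ (List.getElem_mem h)
      rw [List.getD_eq_getElem _ _ h']
      exact List.getElem_mem h'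
    · rw [List.getD_eq_default _ _ h'] at h
      exact absurd h (Nat.not_lt_zero _)
  · rw [List.getD_eq_default _ _ h]
    exact idCode_valid

theorem mem_syT : ∀ i < 1024, permOf (syAt i) ∈ syT := by
  intro i
  induction i using Nat.strong_induction_on with
  | _ i ih =>
    intro hi
    have h1 : i / 32 < syPar.length := by rw [syL_ok.2.1]; omega
    have h2 := allIdx_spec [] syPar_ok _ h1
    simp only [Bool.and_eq_true, decide_eq_true_eq] at h2
    have h3 := allIdx_spec (0, 0) h2.2 (i % 32) (by rw [h2.1]; omega)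
    simp only [Bool.or_eq_true, Bool.and_eq_true, decide_eq_true_eq, nat_beq_eq,
      show 32 * (0 + i / 32) + (0 + i % 32) = i by omega] at h3
    rcases h3 with h0 | ⟨⟨hp, hg⟩, hpr⟩
    · rw [h0, syL_ok.2.2.2.2, permOf_idCode]
      exact one_mem _
    · set pr := (syPar.getD (i / 32) []).getD (i % 32) (0, 0)
      have hgm : syGens.getD pr.2 0 ∈ syGens := by
        rw [List.getD_eq_getElem _ _ hg]
        exact List.getElem_mem hg
      rw [(isProd_sound (syAt_valid _) (syGens_valid hgm).1 hpr).2]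
      exact mul_mem (ih _ hp (by omega)) (subset_closure ⟨_, hgm, rfl⟩)

theorem exists_syAt {σ : Equiv.Perm GolayPt} (h : σ ∈ syT) : ∃ i < 1024, σ = permOf (syAt i) := by
  have hstep : ∀ x, (∃ i < 1024, x = permOf (syAt i)) → ∀ g ∈ syGens,
      ∃ i < 1024, x * permOf g = permOf (syAt i) := by
    rintro _ ⟨i, hi, rfl⟩ g hg
    have h1 := allIdx_spec [] syNext_ok i (by rw [syL_ok.2.2.1]; exact hi)
    simp only [Bool.and_eq_true, List.all_eq_true, decide_eq_true_eq, nat_beq_eq, Nat.zero_add] at h1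
    obtain ⟨j, hj, rfl⟩ := List.getElem_of_mem hg
    have hm : (syGens[j], (syNext.getD i [])[j]'(h1.1.symm ▸ hj)) ∈ syGens.zip (syNext.getD i []) := by
      rw [← List.getElem_zip (h := by rw [List.length_zip]; omega)]
      exact List.getElem_mem _
    obtain ⟨h2, h3⟩ := h1.2 _ hm
    exact ⟨_, h2, ((isProd_sound (syAt_valid i) (syGens_valid hg).1 h3).2).symm⟩
  have hfin : ∀ x ∈ Submonoid.closure {σ | ∃ g ∈ syGens, σ = permOf g}, ∃ i < 1024, x = permOf (syAt i) := by
    intro x hx
    induction hx using Submonoid.closure_induction_right with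
    | one => exact ⟨0, by norm_num, by rw [syL_ok.2.2.2.2, permOf_idCode]⟩
    | mul_right x _ y hy ih =>
      obtain ⟨g, hg, rfl⟩ := hy
      exact hstep x ih g hg
  refine hfin σ ?_
  have := closure_toSubmonoid_of_finite (s := {σ | ∃ g ∈ syGens, σ = permOf g})
  rw [← this]
  exact h

set_option maxHeartbeats 1000000 in
theorem card_syT : Nat.card syT = 2 ^ 10 := by
  classical
  obtain ⟨⟨hlen, hlt⟩, hsort⟩ := sySort_ok
  simp only [List.all_eq_true, decide_eq_true_eq] at hlt hsort
  have hc := invL_inj.1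
  simp only [Bool.and_eq_true, List.all_eq_true] at hc
  have hcanon : ∀ i < 1024, canonB (syAt i) = true := fun i hi => by
    have h1 : i / 32 < syL.length := by rw [syL_ok.1]; omega
    have h0 := syL_ok.2.2.2.1
    simp only [List.all_eq_true, Bool.and_eq_true, decide_eq_true_eq] at h0
    have h2 : i % 32 < (syL[i / 32]).length := by
      rw [(h0 _ (List.getElem_mem h1)).1]; omega
    show canonB ((syL.getD (i / 32) []).getD (i % 32) idCode) = true
    rw [List.getD_eq_getElem _ _ h1, List.getD_eq_getElem _ _ h2]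
    exact hc.2 _ (List.getElem_mem h1) _ (List.getElem_mem h2)
  have hpair : (sySort.map syAt).Pairwise (· < ·) := by
    rw [List.pairwise_map, ← List.isChain_iff_pairwise]
    refine List.isChain_iff_getElem.2 fun i hi => ?_
    refine hsort (sySort[i], sySort[i + 1]) ?_
    have : i < (sySort.zip sySort.tail).length := by rw [List.length_zip, List.length_tail]; omega
    have e : (sySort.zip sySort.tail)[i] = (sySort[i], sySort[i + 1]) := by simp
    rw [← e]
    exact List.getElem_mem this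
  have hnd : (sySort.map fun i => permOf (syAt i)).Nodup := by
    have h1 : (sySort.map syAt).Nodup := hpair.imp fun h => Nat.ne_of_lt h
    rw [show (sySort.map fun i => permOf (syAt i)) = (sySort.map syAt).map permOf by rw [List.map_map]; rfl]
    refine h1.map_on ?_
    intro a ha b hb h
    obtain ⟨i, hi, rfl⟩ := List.mem_map.1 ha
    obtain ⟨j, hj, rfl⟩ := List.mem_map.1 hb
    exact canon_inj (syAt_valid i) (syAt_valid j) (hcanon i (hlt i hi)) (hcanon j (hlt j hj)) h
  refine le_antisymm ?_ ?_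
  · choose w hw1 hw2 using fun x : syT => exists_syAt x.2
    let f : syT → Fin 1024 := fun x => ⟨w x, hw1 x⟩
    refine le_trans (Nat.card_le_card_of_injective f fun x y h => Subtype.ext ?_) (by rw [Nat.card_fin]; norm_num)
    have e : w x = w y := congrArg Fin.val h
    rw [hw2 x, hw2 y, e]
  · let S : Finset (Equiv.Perm GolayPt) := (sySort.map fun i => permOf (syAt i)).toFinset
    have hS : S.card = 2 ^ 10 := by
      rw [List.toFinset_card_of_nodup hnd, List.length_map, hlen]
      norm_num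
    let f : S → syT := fun x => ⟨x.1, by
      obtain ⟨i, hi, e⟩ := List.mem_map.1 (List.mem_toFinset.1 x.2)
      exact e ▸ mem_syT i (hlt i hi)⟩
    rw [← hS, ← Nat.card_eq_finsetCard S]
    exact Nat.card_le_card_of_injective f fun x y h => Subtype.ext (congrArg (fun u : syT => u.1) h)

theorem exists_xP_of_invol {σ : Equiv.Perm GolayPt} (h : σ ∈ syT) (h2 : σ * σ = 1) : ∃ k < 192, σ = xP k := by
  obtain ⟨i, hi, rfl⟩ := exists_syAt h
  have h1 : i / 32 < syL.length := by rw [syL_ok.1]; omega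
  have h0 := syL_ok.2.2.2.1
  simp only [List.all_eq_true, Bool.and_eq_true, decide_eq_true_eq] at h0
  have h3 : i % 32 < (syL[i / 32]).length := by
    rw [(h0 _ (List.getElem_mem h1)).1]; omega
  have hs := sySq_ok
  simp only [List.all_eq_true] at hs
  have h4 := hs _ (List.getElem_mem h1) _ (List.getElem_mem h3)
  have e : syAt i = (syL[i / 32])[i % 32] := by
    show (syL.getD (i / 32) []).getD (i % 32) idCode = _
    rw [List.getD_eq_getElem _ _ h1, List.getD_eq_getElem _ _ h3]
  rw [← e] at h4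
  simp only [Bool.or_eq_true, List.any_eq_true, List.mem_range, nat_beq_eq, Bool.not_eq_true',
    decide_eq_false_iff_not, decide_eq_true_eq] at h4
  rcases h4 with ⟨j, hj, hne⟩ | ⟨g, hg, he⟩
  · refine absurd ?_ hne
    have hv := syAt_valid i
    have := congrArg (fun σ : Equiv.Perm GolayPt => idx (σ (pt j))) h2
    simpa [permOf_pt hv hj, permOf_pt hv (valid_lt hv hj), idx_pt (valid_lt hv (valid_lt hv hj)), idx_pt hj] using this
  · obtain ⟨k, hk, rfl⟩ := List.getElem_of_mem hg
    refine ⟨k, by rw [← invL_ok.1]; exact hk, ?_⟩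
    rw [xP, List.getD_eq_getElem _ _ hk, he]

/-- The conjugacy of the involutions of the two-subgroup to the two representatives. -/
theorem xP_rep {k : ℕ} (hk : k < 192) (h0 : k ≠ 0) : ∃ g ∈ M24,
    g * xP k * g⁻¹ = permOf tCode ∨ g * xP k * g⁻¹ = permOf uCode := by
  obtain ⟨hl, hc⟩ := conjL_ok
  simp only [List.all_eq_true] at hc
  have hk' : k < invL.length := by rw [invL_ok.1]; exact hk
  have hm := zip_mem invL conjL (i := k) (by omega) (by omega)
  have h1 := hc _ hm
  simp only [Bool.or_eq_true, Bool.and_eq_true, nat_beq_eq, decide_eq_true_eq, List.all_eq_true,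
    List.mem_range] at h1
  rcases h1 with h1 | ⟨hg, hall⟩
  · refine absurd (xP_inj hk (show 0 < 192 by norm_num) ?_) h0
    rw [xP_zero, xP, List.getD_eq_getElem _ _ hk', h1, permOf_idCode]
  have hx := invL_valid k
  rw [List.getD_eq_getElem _ _ hk'] at hx
  have htu : valid tCode = true ∧ valid uCode = true := by decide +kernel
  have e : ∀ c, valid c = true →
      (∀ i < 24, img (conjL[k]'(by omega)).2 (img invL[k] i) = img c (img (conjL[k]'(by omega)).2 i)) →
      permOf (conjL[k]'(by omega)).2 * xP k * (permOf (conjL[k]'(by omega)).2)⁻¹ = permOf c := by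
    intro c hcv hh
    rw [mul_inv_eq_iff_eq_mul, xP, List.getD_eq_getElem _ _ hk']
    refine Equiv.ext fun p => ?_
    have hgv := inM24_valid hg
    rw [Equiv.Perm.mul_apply, Equiv.Perm.mul_apply, permOf_apply hx, permOf_apply hgv p,
      permOf_pt hgv (valid_lt hx (idx_lt p)), permOf_pt hcv (valid_lt hgv (idx_lt p)), hh _ (idx_lt p)]
  refine ⟨_, inM24_mem hg, ?_⟩
  cases hb : (conjL[k]'(by omega)).1 <;> rw [hb] at hall
  · exact Or.inr (e _ htu.2 hall)
  · exact Or.inl (e _ htu.1 hall)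

/-! ### The classification -/

theorem spanW_fix : ∀ j : Fin 128, (fxOf (node hitN).2.1).testBit j.val = true → fixT.getD j.val 0 ∈ spanW := by
  decide +kernel

section Main

variable (hgood : ∀ σ ∈ M24, ∃ f, NV.GoodMap f ∧ ∀ p q, f (NV.pv p q) = NV.pv (σ p) (σ q))

include hgood

/-- The search below the subgroup of a node. -/
theorem search (R : Subgroup (Equiv.Perm GolayPt)) (hRT : R ≤ syT) (h2 : ∀ x ∈ R, x * x = 1)
    (htR : permOf tCode ∈ R) (hcard : Nat.card R * (fixSet R).ncard = 1024) :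
    ∀ (n i : ℕ), i < 977 → Nat.card R - (nSet i).card ≤ n → (∀ σ ∈ nSet i, σ ∈ R) →
      (∀ σ, σ ∈ R ↔ σ ∈ nSet hitN) := by
  classical
  intro n
  induction n using Nat.strong_induction_on with
  | _ n ih =>
  intro i hi hn hsub
  have hcardR : Nat.card R = ((R : Set (Equiv.Perm GolayPt)).toFinset).card :=
    (Set.ncard_eq_toFinset_card' _).symm.trans rfl |>.symm
  have hcomm : ∀ x ∈ R, ∀ y ∈ R, x * y = y * x := fun x hx y hy => by
    have e : ∀ z ∈ R, z⁻¹ = z := fun z hz => inv_eq_of_mul_eq_one_right (h2 z hz)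
    rw [← e (x * y) (mul_mem hx hy), mul_inv_rev, e x hx, e y hy]
  obtain ⟨hok, -⟩ := node_ok hi
  simp only [nodeOK, Bool.and_eq_true, Bool.or_eq_true, List.all_eq_true, decide_eq_true_eq, nat_beq_eq] at hok
  obtain ⟨⟨⟨-, hgens⟩, hch⟩, hrest⟩ := hok
  have hgR : ∀ a ∈ (node i).2.1, xP a ∈ R := fun a ha =>
    hsub _ (mem_nSet.2 ⟨a, (hgens a ha).1, (hgens a ha).2, rfl⟩)
  have hidx : ∀ x ∈ R, ∃ k < 192, x = xP k ∧ (cmOf (node i).2.1).testBit k = true := by
    intro x hx
    obtain ⟨k, hk, rfl⟩ := exists_xP_of_invol (hRT hx) (h2 x hx)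
    refine ⟨k, hk, rfl, testBit_foldr_and _ _ _ (by rw [Nat.testBit_two_pow_sub_one]; simpa using hk) fun a ha => ?_⟩
    exact com_bit (hgens a ha).1 hk (hcomm _ (hgR a ha) _ hx)
  have hRle : Nat.card R ≤ popB 192 (cmOf (node i).2.1) := by
    rw [hcardR, ← popB_eq]
    refine le_trans (Finset.card_le_card (t :=
      ((Finset.range 192).filter fun k => (cmOf (node i).2.1).testBit k).image xP) ?_) Finset.card_image_le
    intro x hx
    obtain ⟨k, hk, rfl, hb⟩ := hidx x (Set.mem_toFinset.1 hx)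
    exact Finset.mem_image_of_mem _ (Finset.mem_filter.2 ⟨Finset.mem_range.2 hk, hb⟩)
  have hFle : (fixSet R).ncard ≤ popB 128 (fxOf (node i).2.1) := by
    rw [← popB_eq]
    refine le_trans (le_trans (Set.ncard_le_ncard ?_ (Finset.finite_toSet
      (((Finset.range 128).filter fun j => (fxOf (node i).2.1).testBit j).image fun j => fixT.getD j 0)))
      (le_of_eq (Set.ncard_coe_finset _))) Finset.card_image_le
    rintro v ⟨hv, hfix⟩
    have ht := hfix _ htR
    rw [← xP_t, cols_xP (by decide +kernel)] at ht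
    have hany := (List.all_eq_true.1 fixT_ok.2) v (List.mem_range.2 hv)
    simp only [Bool.or_eq_true, Bool.not_eq_true', nat_beq_eq, decide_eq_false_iff_not, List.any_eq_true,
      decide_eq_true_eq] at hany
    obtain ⟨w, hw, rfl⟩ := hany.resolve_left fun hn => hn ht
    obtain ⟨j, hj, rfl⟩ := List.getElem_of_mem hw
    have hj' : j < 128 := by rw [← fixT_ok.1]; exact hj
    have ej : fixT.getD j 0 = fixT[j] := List.getD_eq_getElem _ _ hj
    refine Finset.mem_coe.2 (Finset.mem_image.2 ⟨j, Finset.mem_filter.2 ⟨Finset.mem_range.2 hj', ?_⟩, ej⟩)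
    refine testBit_foldr_and _ _ _ (by rw [Nat.testBit_two_pow_sub_one]; simpa using hj') fun a ha => ?_
    exact fix_bit (hgens a ha).1 hj' (by rw [ej]; exact hfix _ (hgR a ha))
  rcases hrest with ⟨hF, hC⟩ | ⟨hcov, hsize⟩
  · have hR2 : IsPGroup 2 R := fun x => ⟨1, Subtype.ext (by simpa [pow_two] using h2 x x.2)⟩
    haveI : Fact (Nat.Prime 2) := ⟨Nat.prime_two⟩
    obtain ⟨m, hm⟩ := IsPGroup.iff_card.1 hR2
    have h6 : m ≤ 6 := by
      by_contra h
      have : 2 ^ 7 ≤ 2 ^ m := Nat.pow_le_pow_right (by norm_num) (by omega)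
      omega
    have : Nat.card R ≤ 64 := hm ▸ (Nat.pow_le_pow_right (by norm_num) h6)
    have := Nat.mul_le_mul this (le_trans hFle (show popB 128 (fxOf (node i).2.1) ≤ 15 by omega))
    omega
  by_cases heq : ∀ σ ∈ R, σ ∈ nSet i
  · have hRi : Nat.card R = popB 192 (node i).1 := by
      rw [hcardR, ← card_nSet i]
      congr 1
      ext σ
      rw [Set.mem_toFinset]
      exact ⟨heq σ, hsub σ⟩
    rcases hsize with h | ⟨hh, -⟩
    · have := Nat.mul_le_mul (le_of_eq hRi) hFle
      omega
    · subst hh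
      exact fun σ => ⟨heq σ, hsub σ⟩
  · push_neg at heq
    obtain ⟨x, hxR, hxS⟩ := heq
    obtain ⟨k, hk, rfl, hbit⟩ := hidx x hxR
    have hb := congrArg (fun m : ℕ => m.testBit k) hcov
    simp only [Nat.testBit_and, hbit, Bool.and_true] at hb
    rw [testBit_foldr_or] at hb
    obtain ⟨c, hc, hcb⟩ := hb.resolve_left fun h => hxS (mem_nSet.2 ⟨k, hk, h, rfl⟩)
    obtain ⟨⟨hclt, hand⟩, hpop⟩ := hch c hc
    have hSC : ∀ σ ∈ nSet i, σ ∈ nSet c := fun σ hσ => by
      obtain ⟨a, ha, hbA, rfl⟩ := mem_nSet.1 hσ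
      have := congrArg (fun m : ℕ => m.testBit a) hand
      simp only [Nat.testBit_and, hbA, Bool.and_true] at this
      exact mem_nSet.2 ⟨a, ha, this, rfl⟩
    have hxC : xP k ∈ nSet c := mem_nSet.2 ⟨k, hk, hcb, rfl⟩
    obtain ⟨-, hmulc, -⟩ := nSet_group hclt
    obtain ⟨-, hmuli, hsqi⟩ := nSet_group hi
    have hsubC : nSet i ∪ (nSet i).image (xP k * ·) ⊆ nSet c := by
      intro σ hσ
      rcases Finset.mem_union.1 hσ with h | h
      · exact hSC σ h
      · obtain ⟨a, ha, rfl⟩ := Finset.mem_image.1 h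
        exact hmulc _ hxC _ (hSC a ha)
    have hdis : Disjoint (nSet i) ((nSet i).image (xP k * ·)) := by
      rw [Finset.disjoint_left]
      intro σ hσ hσ'
      obtain ⟨a, ha, rfl⟩ := Finset.mem_image.1 hσ'
      refine hxS ?_
      have := hmuli _ hσ _ ha
      rwa [mul_assoc, hsqi a ha, mul_one] at this
    have hcs : (nSet c).card = 2 * (nSet i).card := by rw [card_nSet, card_nSet, hpop]
    have hC : nSet c = nSet i ∪ (nSet i).image (xP k * ·) := (Finset.eq_of_subset_of_card_le hsubC (by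
      rw [Finset.card_union_of_disjoint hdis, Finset.card_image_of_injective _ (mul_right_injective _), hcs]
      omega)).symm
    have hCR : ∀ σ ∈ nSet c, σ ∈ R := fun σ hσ => by
      rw [hC] at hσ
      rcases Finset.mem_union.1 hσ with h | h
      · exact hsub σ h
      · obtain ⟨a, ha, rfl⟩ := Finset.mem_image.1 h
        exact mul_mem hxR (hsub a ha)
    have hle : (nSet c).card ≤ Nat.card R := hcardR ▸ Finset.card_le_card fun σ hσ => Set.mem_toFinset.2 (hCR σ hσ)
    have hpos : 0 < (nSet i).card := Finset.card_pos.2 ⟨1, (nSet_group hi).1⟩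
    exact ih (Nat.card R - (nSet c).card) (by omega) c hclt le_rfl hCR

/-- **The octad group.** -/
theorem rClass (R : Subgroup (Equiv.Perm GolayPt)) (hR : R ≤ M24) (h2 : ∀ x ∈ R, x * x = 1)
    (hcard : Nat.card R * (fixSet R).ncard = 1024) :
    ∃ σ ∈ M24, (∀ x, x ∈ R.map (MulAut.conj σ).toMonoidHom ↔ ∃ g ∈ rBase, x = permOf g) ∧
      ∀ v < 2048, (v ∈ fixSet R ↔ mv (colsP σ) v ∈ spanW) := by
  classical
  haveI : Fact (Nat.Prime 2) := ⟨Nat.prime_two⟩
  have hpg : ∀ (S : Subgroup (Equiv.Perm GolayPt)), (∀ x ∈ S, x * x = 1) → IsPGroup 2 S :=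
    fun S h x => ⟨1, Subtype.ext (by simpa [pow_two] using h x x.2)⟩
  have hsyM : syT ≤ M24 := (closure_le _).2 fun x ⟨g, hg, e⟩ => e ▸ (syGens_valid hg).2.1
  have h11 : ¬ 2 ^ (10 + 1) ∣ Nat.card M24 := by rw [card_M24]; norm_num
  obtain ⟨g1, hg1, hin⟩ := conj_into hsyM card_syT h11 hR (hpg R h2)
  have htv : valid tCode = true ∧ valid uCode = true := by decide +kernel
  -- an element conjugate to the central involution
  obtain ⟨x, hx, g, hg, hxg⟩ : ∃ x ∈ R, ∃ g ∈ M24, g * x * g⁻¹ = permOf tCode := by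
    by_contra hno
    have hu : ∀ x ∈ R, x ≠ 1 → ∃ g ∈ M24, g * x * g⁻¹ = permOf uCode := by
      intro x hx hne
      have h' : g1 * x * g1⁻¹ * (g1 * x * g1⁻¹) = 1 := by
        rw [show g1 * x * g1⁻¹ * (g1 * x * g1⁻¹) = g1 * (x * x) * g1⁻¹ by group, h2 x hx]; group
      obtain ⟨k, hk, e⟩ := exists_xP_of_invol (hin x hx) h'
      have hk0 : k ≠ 0 := fun h => hne (by
        rw [h, xP_zero] at e
        exact conj_eq_one_iff.1 e)
      obtain ⟨g, hg, hor⟩ := xP_rep hk hk0
      have e' : g * g1 * x * (g * g1)⁻¹ = g * xP k * g⁻¹ := by rw [← e]; group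
      rcases hor with h | h
      · exact absurd ⟨x, hx, g * g1, mul_mem hg hg1, e'.trans h⟩ hno
      · exact ⟨g * g1, mul_mem hg hg1, e'.trans h⟩
    by_cases htriv : ∀ x ∈ R, x = 1
    · have h1 : Nat.card R = 1 := by
        rw [show R = ⊥ from (eq_bot_iff_forall R).2 htriv, card_bot]
      have h2048 : fixSet R = {v : ℕ | v < 2048} := by
        ext v
        exact ⟨fun h => h.1, fun h => ⟨h, fun x hx => by rw [htriv x hx]; exact cols_one hgood h⟩⟩
      rw [h1, h2048, ncard_lt_2048] at hcard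
      norm_num at hcard
    push_neg at htriv
    obtain ⟨x, hx, hne⟩ := htriv
    obtain ⟨g, hg, hgx⟩ := hu x hx hne
    have h24 : Nat.card R ∣ 24 := by
      haveI : Fintype R := Fintype.ofFinite R
      have hfree : ∀ p : GolayPt, MulAction.stabilizer R p = ⊥ := by
        intro p
        rw [eq_bot_iff_forall]
        intro y hy
        by_contra hy1
        obtain ⟨g', -, hgy⟩ := hu y y.2 fun e => hy1 (Subtype.ext e)
        have hp : (y : Equiv.Perm GolayPt) p = p := hy
        have hf : permOf uCode (g' p) = g' p := by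
          rw [← hgy, Equiv.Perm.mul_apply, Equiv.Perm.mul_apply, show g'⁻¹ (g' p) = p from g'.symm_apply_apply p, hp]
        have hnf := fixU_ok.2.2
        simp only [List.all_eq_true, List.mem_range, Bool.not_eq_true', nat_beq_eq, decide_eq_false_iff_not] at hnf
        refine hnf _ (idx_lt (g' p)) ?_
        rw [permOf_apply htv.2] at hf
        have := congrArg idx hf
        rwa [idx_pt (valid_lt htv.2 (idx_lt _))] at this
      have := Nat.card_congr (MulAction.selfEquivOrbitsQuotientProd hfree)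
      rw [Nat.card_prod] at this
      have hpt : Nat.card GolayPt = 24 := by rw [Nat.card_eq_fintype_card]; decide +kernel
      exact Dvd.intro_left _ (this.symm.trans hpt)
    obtain ⟨m, hm⟩ := IsPGroup.iff_card.1 (hpg R h2)
    have h8 : Nat.card R ≤ 8 := by
      have hle := Nat.le_of_dvd (by norm_num) h24
      rw [hm] at h24 hle ⊢
      have : m ≤ 3 := by
        by_contra h
        have h16 : 2 ^ 4 ∣ 2 ^ m := pow_dvd_pow 2 (by omega)
        have := h16.trans h24
        norm_num at this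
      exact le_trans (Nat.pow_le_pow_right (by norm_num) this) (by norm_num)
    have h64 : (fixSet R).ncard ≤ 64 := by
      have hsub : mv (colsP g) '' fixSet R ⊆ {v | v ∈ fixU} := by
        rintro _ ⟨v, ⟨hv, hfix⟩, rfl⟩
        have e := (cols_conj_fix hgood hg (hR hx) hv).2 (hfix x hx)
        rw [hgx, colsP_permOf htv.2] at e
        have hl := (cols_good hgood hg).1.lt v hv
        have hany := (List.all_eq_true.1 fixU_ok.2.1) _ (List.mem_range.2 hl)
        simp only [Bool.or_eq_true, Bool.not_eq_true', nat_beq_eq, decide_eq_false_iff_not, List.any_eq_true,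
          decide_eq_true_eq] at hany
        obtain ⟨w, hw, e'⟩ := hany.resolve_left fun hn => hn e
        exact e' ▸ hw
      rw [← Set.ncard_image_of_injOn (f := mv (colsP g))
        fun a ha b hb h => (cols_good hgood hg).1.inj a ha.1 b hb.1 h]
      refine le_trans (Set.ncard_le_ncard hsub (List.finite_toSet _)) ?_
      rw [show {v | v ∈ fixU} = ↑fixU.toFinset by ext; simp, Set.ncard_coe_finset]
      exact le_trans (List.toFinset_card_le _) (le_of_eq fixU_ok.1)
    have := Nat.mul_le_mul h8 h64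
    omega
  -- move it to the centre of the two-subgroup
  set R1 := R.map (MulAut.conj g).toMonoidHom with hR1
  have htR1 : permOf tCode ∈ R1 := ⟨x, hx, hxg⟩
  have hR1M : R1 ≤ M24 := by
    rintro _ ⟨y, hy, rfl⟩
    exact mul_mem (mul_mem hg (hR hy)) (inv_mem hg)
  have h21 : ∀ y ∈ R1, y * y = 1 := by
    rintro _ ⟨y, hy, rfl⟩
    rw [← map_mul, h2 y hy, map_one]
  set C := M24 ⊓ centralizer ({permOf tCode} : Set (Equiv.Perm GolayPt)) with hC
  have hsyC : syT ≤ C := le_inf hsyM ((closure_le _).2 fun y ⟨g', hg', e⟩ => by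
    rw [e]
    exact mem_centralizer_singleton_iff.2 (syGens_valid hg').2.2.symm)
  have hR1C : R1 ≤ C := fun y hy => ⟨hR1M hy, mem_centralizer_singleton_iff.2 (by
    have e : ∀ z ∈ R1, z⁻¹ = z := fun z hz => inv_eq_of_mul_eq_one_right (h21 z hz)
    rw [← e (y * permOf tCode) (mul_mem hy htR1), mul_inv_rev, e y hy, e _ htR1])⟩
  obtain ⟨g2, hg2, hin2⟩ := conj_into hsyC card_syT
    (fun h => h11 (h.trans (card_dvd_of_le inf_le_left))) hR1C (hpg R1 h21)
  set σ := g2 * g with hσdef
  have hσ : σ ∈ M24 := mul_mem hg2.1 hg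
  set R2 := R.map (MulAut.conj σ).toMonoidHom with hR2
  have hRT : R2 ≤ syT := by
    rintro _ ⟨y, hy, rfl⟩
    have := hin2 _ ⟨y, hy, rfl⟩
    rw [MulEquiv.coe_toMonoidHom, MulAut.conj_apply] at this ⊢
    rwa [hσdef, show g2 * g * y * (g2 * g)⁻¹ = g2 * (g * y * g⁻¹) * g2⁻¹ by group]
  have h22 : ∀ y ∈ R2, y * y = 1 := by
    rintro _ ⟨y, hy, rfl⟩
    rw [← map_mul, h2 y hy, map_one]
  have htR2 : permOf tCode ∈ R2 := ⟨x, hx, by
    rw [MulEquiv.coe_toMonoidHom, MulAut.conj_apply, hσdef,
      show g2 * g * x * (g2 * g)⁻¹ = g2 * (g * x * g⁻¹) * g2⁻¹ by group, hxg,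
      mem_centralizer_singleton_iff.1 hg2.2, mul_inv_cancel_right]⟩
  obtain ⟨himg, hncard⟩ := fix_conj hgood hσ hR
  have hcard2 : Nat.card R2 * (fixSet R2).ncard = 1024 := by
    rw [hncard, Subgroup.card_map_of_injective (f := (MulAut.conj σ).toMonoidHom) (MulAut.conj σ).injective]
    exact hcard
  have hroot : ∀ y ∈ nSet 0, y ∈ R2 := by
    intro y hy
    obtain ⟨k, hk, hb, rfl⟩ := mem_nSet.1 hy
    rw [root_ok] at hb
    have hor : k = 0 ∨ k = tIdx := by
      have hdec : ∀ k : Fin 192, (2 ^ tIdx + 1).testBit k.val = true → k.val = 0 ∨ k.val = tIdx := by decide +kernel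
      exact hdec ⟨k, hk⟩ hb
    rcases hor with rfl | rfl
    · rw [xP_zero]; exact one_mem _
    · rw [xP_t]; exact htR2
  have hmain := search hgood R2 hRT h22 htR2 hcard2 _ 0 (by norm_num) le_rfl hroot
  obtain ⟨hhit, hb1, hb2⟩ := hit_ok
  simp only [decide_eq_true_eq] at hhit
  simp only [List.all_eq_true, List.any_eq_true, Bool.and_eq_true, nat_beq_eq, decide_eq_true_eq, List.mem_range,
    Bool.or_eq_true, Bool.not_eq_true'] at hb1 hb2
  have hgetD : ∀ k < 192, invL.getD k idCode = invL.getD k 0 := fun k hk => by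
    have hk' : k < invL.length := by rw [invL_ok.1]; exact hk
    rw [List.getD_eq_getElem _ _ hk', List.getD_eq_getElem _ _ hk']
  refine ⟨σ, hσ, fun y => ?_, fun v hv => ?_⟩
  · rw [hmain y, mem_nSet]
    constructor
    · rintro ⟨k, hk, hb, rfl⟩
      obtain ⟨r, hr, e⟩ := (hb2 k hk).resolve_left (by rw [hb]; exact Bool.noConfusion)
      exact ⟨r, hr, by rw [xP, hgetD k hk, e]⟩
    · rintro ⟨r, hr, rfl⟩
      obtain ⟨k, hk, hb, e⟩ := hb1 r hr
      exact ⟨k, hk, hb, by rw [xP, hgetD k hk, e]⟩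
  · obtain ⟨hok, -⟩ := node_ok hhit
    simp only [nodeOK, Bool.and_eq_true, Bool.or_eq_true, List.all_eq_true, decide_eq_true_eq, nat_beq_eq] at hok
    obtain ⟨⟨⟨-, hgens⟩, -⟩, -⟩ := hok
    have hsub2 : fixSet R2 ⊆ {w | w ∈ spanW} := by
      rintro w ⟨hw, hfix⟩
      have ht := hfix _ htR2
      rw [← xP_t, cols_xP (by decide +kernel)] at ht
      have hany := (List.all_eq_true.1 fixT_ok.2) w (List.mem_range.2 hw)
      simp only [Bool.or_eq_true, Bool.not_eq_true', nat_beq_eq, decide_eq_false_iff_not, List.any_eq_true,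
        decide_eq_true_eq] at hany
      obtain ⟨u, hu, rfl⟩ := hany.resolve_left fun hn => hn ht
      obtain ⟨j, hj, rfl⟩ := List.getElem_of_mem hu
      have hj' : j < 128 := by rw [← fixT_ok.1]; exact hj
      have ej : fixT.getD j 0 = fixT[j] := List.getD_eq_getElem _ _ hj
      refine ej ▸ spanW_fix ⟨j, hj'⟩ (testBit_foldr_and _ _ _ (by rw [Nat.testBit_two_pow_sub_one]; simpa using hj') fun a ha => ?_)
      refine fix_bit (hgens a ha).1 hj' ?_
      rw [ej]
      exact hfix _ ((hmain _).2 (mem_nSet.2 ⟨a, (hgens a ha).1, (hgens a ha).2, rfl⟩))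
    have hlen : spanW.length = 64 ∧ (nSet hitN).card = 16 := ⟨by decide +kernel, by rw [card_nSet]; decide +kernel⟩
    have hR16 : Nat.card R2 = 16 := by
      rw [← hlen.2, ← Nat.card_eq_finsetCard (nSet hitN)]
      exact Nat.card_congr (Equiv.subtypeEquivRight hmain)
    have h64 : (fixSet R2).ncard = 64 := by
      rw [hR16] at hcard2
      omega
    have heq : fixSet R2 = {w | w ∈ spanW} := by
      refine Set.eq_of_subset_of_ncard_le hsub2 ?_ (List.finite_toSet _)
      rw [h64, show {w | w ∈ spanW} = ↑spanW.toFinset by ext; simp, Set.ncard_coe_finset, ← hlen.1]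
      exact List.toFinset_card_le _
    constructor
    · intro hvR
      have : mv (colsP σ) v ∈ fixSet R2 := by rw [himg]; exact Set.mem_image_of_mem _ hvR
      rw [heq] at this
      exact this
    · intro hvW
      have : mv (colsP σ) v ∈ fixSet R2 := by rw [heq]; exact hvW
      rw [himg] at this
      obtain ⟨u, hu, e⟩ := this
      exact (cols_good hgood hσ).1.inj u hu.1 v hv e ▸ hu

end Main

end CfsgLib.J4Type.Ten
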