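import Cfsg.Agent.Lib.J4Type.Ten.Code
import Cfsg.Agent.Lib.J4Type.Ten.DataA
import Cfsg.Agent.Lib.J4Type.Ten.RClassData

/-!
Evaluation of the certificate for the elementary abelian subgroups of `M₂₄` with large fixed space on the
module of order `2 ^ 11`.
-/

set_option autoImplicit false
set_option maxRecDepth 100000
set_option maxHeartbeats 2000000
set_option Elab.async false

namespace CfsgLib.J4Type.Ten

open Cfsg CfsgLib.Golay CfsgLib.J4Type

/-- A test on the entries of a list with their positions. -/
def allIdx {α : Type} (f : ℕ → α → Bool) : ℕ → List α → Bool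
  | _, [] => true
  | k, a :: l => f k a && allIdx f (k + 1) l

theorem allIdx_spec {α : Type} {f : ℕ → α → Bool} (d : α) : ∀ {l : List α} {k : ℕ}, allIdx f k l = true →
    ∀ i < l.length, f (k + i) (l.getD i d) = true
  | [], _, _, i, hi => absurd hi (Nat.not_lt_zero _)
  | a :: l, k, h, i, hi => by
    simp only [allIdx, Bool.and_eq_true] at h
    cases i with
    | zero => exact h.1
    | succ i =>
      rw [List.getD_cons_succ, show k + (i + 1) = k + 1 + i by omega]
      exact allIdx_spec d h.2 i (Nat.lt_of_succ_lt_succ hi)

/-- The number of set bits below `n`. -/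
def popB (n m : ℕ) : ℕ := (List.range n).countP fun i => m.testBit i

/-- The products of the subsets of a list of commuting involutions, as indices. -/
def spanIdx : List ℕ → List ℕ → Bool
  | [], [e] => Nat.beq e 0
  | [], _ => false
  | g :: gs, E => Nat.beq (E.drop (E.length / 2)).length (E.take (E.length / 2)).length &&
      spanIdx gs (E.take (E.length / 2)) &&
      ((E.drop (E.length / 2)).zip (E.take (E.length / 2))).all fun ab =>
        decide (ab.1 < 192) && isProd (invL.getD g idCode) (invL.getD ab.2 idCode) (invL.getD ab.1 idCode) &&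
          commB (invL.getD g idCode) (invL.getD ab.2 idCode)

/-- An entry of the table of subgroups. -/
def node (i : ℕ) : ℕ × List ℕ × List ℕ := at2 (0, [], []) 16 nodeL i

/-- The common commutation mask of the generators. -/
def cmOf (g : List ℕ) : ℕ := g.foldr (fun a r => comL.getD a 0 &&& r) (2 ^ 192 - 1)

/-- The common fixed mask of the generators. -/
def fxOf (g : List ℕ) : ℕ := g.foldr (fun a r => fixL.getD a 0 &&& r) (2 ^ 128 - 1)

/-- The checks at one subgroup. -/
def nodeOK (i : ℕ) (e : ℕ × List ℕ × List ℕ) : Bool :=
  decide (e.1 < 2 ^ 192) &&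
  (e.2.1.all fun a => decide (a < 192) && e.1.testBit a) &&
  e.2.2.all (fun c => decide (c < 977) && Nat.beq ((node c).1 &&& e.1) e.1 &&
    Nat.beq (popB 192 (node c).1) (2 * popB 192 e.1)) &&
  ((decide (popB 128 (fxOf e.2.1) < 16) && decide (popB 192 (cmOf e.2.1) < 128)) ||
    (Nat.beq ((e.2.2.foldr (fun c r => (node c).1 ||| r) e.1) &&& cmOf e.2.1) (cmOf e.2.1) &&
      (decide (popB 192 e.1 * popB 128 (fxOf e.2.1) < 1024) ||
        (Nat.beq i hitN && Nat.beq (popB 192 e.1 * popB 128 (fxOf e.2.1)) 1024))))

theorem nodeL_shape : nodeL.length = 62 ∧ (allIdx (fun b r =>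
    decide (r.length = 16) || (Nat.beq b 61 && decide (r.length = 1))) 0 nodeL) = true := by decide +kernel

theorem invL_ok : invL.length = 192 ∧ invL.getD 0 0 = idCode ∧ invL.getD tIdx 0 = tCode ∧ decide (tIdx < 192) = true ∧
    ((invL.all fun g => valid g) && valid tCode && valid uCode) = true := by decide +kernel

theorem root_ok : node 0 = (2 ^ tIdx + 1, [tIdx], (node 0).2.2) := by decide +kernel

theorem colsL_ok : colsL.length = 192 ∧ ((invL.zip colsL).all fun p => decide (colsC p.1 = p.2)) = true := by
  decide +kernel

theorem comL_ok : comL.length = 192 ∧ ((invL.zip comL).all fun p => allIdx (fun j g =>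
    p.2.testBit j || !commB p.1 g) 0 invL) = true := by decide +kernel

theorem fixT_ok : fixT.length = 128 ∧ ((List.range 2048).all fun v =>
    !(Nat.beq (mv (colsL.getD tIdx []) v) v) || fixT.any fun w => Nat.beq w v) = true := by decide +kernel

theorem fixL_ok : fixL.length = 192 ∧ ((colsL.zip fixL).all fun p => allIdx (fun j v =>
    p.2.testBit j || !Nat.beq (mv p.1 v) v) 0 fixT) = true := by decide +kernel

theorem fixU_ok : fixU.length = 64 ∧ ((List.range 2048).all fun v =>
    !(Nat.beq (mv (colsC uCode) v) v) || fixU.any fun w => Nat.beq w v) = true ∧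
    ((List.range 24).all fun i => !Nat.beq (img uCode i) i) = true := by decide +kernel

theorem conjL_ok : conjL.length = 192 ∧ ((invL.zip conjL).all fun p => Nat.beq p.1 idCode ||
    (inM24 p.2.2 && (List.range 24).all fun i => Nat.beq (img p.2.2 (img p.1 i))
      (img (bif p.2.1 then tCode else uCode) (img p.2.2 i)))) = true := by decide +kernel

theorem hit_ok : decide (hitN < 977) = true ∧ (rBase.all fun r => (List.range 192).any fun k =>
    (node hitN).1.testBit k && Nat.beq (invL.getD k 0) r) = true ∧
    ((List.range 192).all fun k => !(node hitN).1.testBit k || rBase.any fun r => Nat.beq (invL.getD k 0) r) = true := by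
  decide +kernel

theorem invL_sq : (invL.all fun g => isProd g g idCode) = true := by decide +kernel

end CfsgLib.J4Type.Ten
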