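import Cfsg.Agent.Lib.J4Type.Ten.RClassChecks

/-!
Evaluation of the certificate at each subgroup of the table, and of the two-subgroup itself.
-/

set_option autoImplicit false
set_option maxRecDepth 100000
set_option maxHeartbeats 4000000
set_option Elab.async false

namespace CfsgLib.J4Type.Ten

open Cfsg CfsgLib.Golay CfsgLib.J4Type

/-- The test of the members of one subgroup. -/
def spanOK (e : ℕ × List ℕ × List ℕ) (E : List ℕ) : Bool :=
  spanIdx e.2.1 E && (E.all fun a => decide (a < 192)) &&
    Nat.beq (E.foldr (fun a r => Nat.shiftLeft 1 a ||| r) 0) e.1 && Nat.beq E.length (popB 192 e.1)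

/-- An element of the two-subgroup. -/
def syAt (i : ℕ) : ℕ := at2 idCode 32 syL i

theorem nodes_ok : allIdx (fun b r => allIdx (fun j e => nodeOK (16 * b + j) e) 0 r) 0 nodeL = true := by
  decide +kernel

theorem spans_ok : spanL.length = nodeL.length ∧ ((nodeL.zip spanL).all fun rs =>
    Nat.beq rs.2.length rs.1.length && (rs.1.zip rs.2).all fun es => spanOK es.1 es.2) = true := by
  decide +kernel

theorem syGens_ok : (syGens.all fun g => inM24 g &&
    (List.range 24).all fun i => Nat.beq (img tCode (img g i)) (img g (img tCode i))) = true := by decide +kernel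

theorem syL_ok : syL.length = 32 ∧ syPar.length = 32 ∧ syNext.length = 1024 ∧ (syL.all fun r =>
    decide (r.length = 32) && r.all fun g => valid g) = true ∧ syAt 0 = idCode := by decide +kernel

theorem syNext_ok : allIdx (fun i nx => Nat.beq nx.length syGens.length && (syGens.zip nx).all fun gn =>
    decide (gn.2 < 1024) && isProd (syAt i) gn.1 (syAt gn.2)) 0 syNext = true := by decide +kernel

theorem syPar_ok : allIdx (fun b r => decide (r.length = 32) && allIdx (fun j pr => Nat.beq (32 * b + j) 0 ||
    (decide (pr.1 < 32 * b + j) && decide (pr.2 < syGens.length) &&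
      isProd (syAt pr.1) (syGens.getD pr.2 0) (syAt (32 * b + j)))) 0 r) 0 syPar = true := by decide +kernel

theorem sySort_ok : (sySort.length = 1024 ∧ (sySort.all fun i => decide (i < 1024)) = true) ∧
    ((sySort.zip sySort.tail).all fun ab => decide (syAt ab.1 < syAt ab.2)) = true := by decide +kernel

theorem sySq_ok : (syL.all fun r => r.all fun g =>
    (List.range 24).any (fun i => !Nat.beq (img g (img g i)) i) || invL.any fun h => Nat.beq h g) = true := by
  decide +kernel

theorem invL_inj : ((invL.all fun g => canonB g) && (syL.all fun r => r.all fun g => canonB g)) = true ∧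
    invL.Nodup := by decide +kernel

end CfsgLib.J4Type.Ten
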