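import Cfsg.Agent.Lib.J4Type.Ten.DataA
import Cfsg.Agent.Lib.J4Type.Ten.WedgeData
import Cfsg.Agent.Lib.J4Type.Model

/-!
Finite checks on the decomposable bivectors of a five-dimensional space over the field of two
elements: stars, lines and adjacency.
-/

set_option autoImplicit false
set_option maxRecDepth 100000

namespace CfsgLib.J4Type.Ten

/-- The bivector of two vectors. -/
def wedge (u v : ℕ) : ℕ := mv (wedgeT.getD u []) v

/-- A set of numbers as a mask. -/
def maskOf : List ℕ → ℕ
  | [] => 0
  | a :: l => Nat.shiftLeft 1 a ||| maskOf l

/-- Removal of the lowest bit of a mask. -/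
def dropLow (r : ℕ) : ℕ := Nat.land r (r - 1)

/-- The common neighbours outside a star are at most seven. -/
def smallRest (M N s : ℕ) : Bool :=
  let r := Nat.land M N
  let r := Nat.xor r (Nat.land r s)
  Nat.beq (dropLow (dropLow (dropLow (dropLow (dropLow (dropLow (dropLow r))))))) 0

theorem wedge_symm_check : ((List.range 32).all fun u => (List.range 32).all fun v =>
    Nat.beq (wedge u v) (wedge v u) && Nat.blt (wedge u v) 1024 &&
    (Nat.beq (wedge u v) 0 == (Nat.beq u 0 || Nat.beq v 0 || Nat.beq u v))) = true := by
  decide +kernel

theorem wedge_basis_check : ((List.range 10).all fun k =>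
    (List.range 5).any fun i => (List.range 5).any fun j =>
      Nat.beq (wedge (2 ^ i) (2 ^ j)) (2 ^ k)) = true := by
  decide +kernel

theorem starT_check : ((List.range 32).all fun p =>
    Nat.beq (starT.getD p 0) (maskOf ((List.range 32).map (wedge p)))) = true := by
  decide +kernel

theorem starT_meet_check : ((List.range 32).all fun p => (List.range 32).all fun q =>
    Nat.beq p 0 || Nat.beq q 0 || Nat.beq p q ||
      Nat.beq (Nat.land (starT.getD p 0) (starT.getD q 0))
        (Nat.shiftLeft 1 (wedge p q) ||| 1)) = true := by
  decide +kernel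

theorem starT_z_check : ((List.range 32).all fun p =>
    Nat.beq (Nat.land (starT.getD p 0) zMask ||| 1) (starT.getD p 0)) = true := by
  decide +kernel

theorem line_check : ((List.range 32).all fun p => (List.range 32).all fun q =>
    Nat.beq p 0 || Nat.beq q 0 || Nat.beq p q || (List.range 32).all fun r =>
      !(starT.getD r 0).testBit (wedge p q) || Nat.beq r 0 || Nat.beq r p || Nat.beq r q ||
        Nat.beq r (p ^^^ q)) = true := by
  decide +kernel

theorem zAdj_cover : maskOf (zAdj.map Prod.fst) = zMask := by decide +kernel

theorem zAdj_exact : (zAdj.all fun e => zAdj.all fun f =>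
    !zMask.testBit (e.1 ^^^ f.1) || e.2.testBit f.1) = true := by
  decide +kernel

theorem pair_check : ((zAdj.zip linePts).all fun e => zAdj.all fun f =>
    !e.1.2.testBit f.1 || e.2.any fun p => Nat.blt p 32 && !Nat.beq p 0 &&
      (starT.getD p 0).testBit e.1.1 && (starT.getD p 0).testBit f.1 &&
      smallRest e.1.2 f.2 (starT.getD p 0)) = true := by
  decide +kernel

theorem linePts_length : linePts.length = zAdj.length := by decide +kernel

end CfsgLib.J4Type.Ten
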